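import Cfsg.Agent.H978.Alm.Affine_m3
import Cfsg.Agent.H315.FineOrth_m3
import Mathlib
import Cfsg.Agent.SignalizersComponents.ComponentExists
import Cfsg.Agent.SignalizersComponents.Components
import Cfsg.Agent.Lib.Cores
import Cfsg.Agent.LieRecognition.FieldSemilinear
import Cfsg.Agent.H717.FieldOf
import Cfsg.Agent.Lib.FieldAutCard
import Cfsg.Agent.H717.Dickson
import Cfsg.Agent.H76.PermFour
import Cfsg.Agent.Lib.ComponentSolvable
import Cfsg.Agent.H697.PSolvB
import Cfsg.Agent.H698.Landau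
import Cfsg.Agent.H717.SmallClass
import Cfsg.Agent.S2119
import Cfsg.Agent.H175.BdSp_m3
import Cfsg.Agent.H674.TwelvePSU
import Cfsg.Agent.H912.CrossList_m3
import Cfsg.Agent.S0292
import Cfsg.Agent.S0293
import Cfsg.Agent.S0294
import Cfsg.Agent.S0295
import Cfsg.Agent.S0296
import Cfsg.Agent.S0297
import Cfsg.Agent.S0816
import Cfsg.Agent.S0817
import Cfsg.Agent.S0818
import Cfsg.Agent.H223.Bnd.Psu
import Cfsg.Agent.Lib.FinFast
import Cfsg.Agent.FastGrp
import Cfsg.Agent.Prune
set_option linter.all false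

section
prune_inst 0x7f00000000000000000000000000000000000000000000000000000000000000000000000000000000000000000000000000000000000000000000000000000000000000000000000000000000000000003fffffffffefffffffffffffffffbeffbdfffffffd

-- part: H832/S4790/Chain
section
prune_inst 0x10000000000000000000000000000002
set_option linter.all false
open scoped Cfsg.Agent.FastGrp

-- part: H311/S4790/LinDisj
section
set_option autoImplicit false
open Cfsg Module

namespace Cfsg.Agent.H311.S4790.LinDisj

open Cfsg.Agent.H697.Alm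

universe u v w

variable {F : Type w} {E : Type u} [Field F] [AddCommGroup E] [Module F E]

/-- coefficients in a central simple algebra of a relation between commuting independent elements vanish -/
theorem rel {ι : Type*} [Fintype ι] [DecidableEq ι] (S : Subalgebra F (Module.End F E)) (hS : _root_.Cfsg.Agent.H697.Alm.CSA S)
    (t : ι → Module.End F E) (ht : LinearIndependent F t) (hc : ∀ s ∈ S, ∀ j, s * t j = t j * s)
    (A : Finset ι) : ∀ s : ι → Module.End F E, (∀ j, s j ∈ S) → (∀ j, j ∉ A → s j = 0) →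
      ∑ j, s j * t j = 0 → ∀ j, s j = 0 := by
  induction A using Finset.strongInduction with
  | H A ih =>
    intro s hs hA hsum
    by_contra hne
    push Not at hne
    obtain ⟨j₀, hj₀⟩ := hne
    have hj₀A : j₀ ∈ A := by
      by_contra h
      exact hj₀ (hA j₀ h)
    -- the submodule of possible coefficients at `j₀`
    let M : Submodule F (Module.End F E) :=
      { carrier := {x | ∃ s' : ι → Module.End F E, (∀ j, s' j ∈ S) ∧ (∀ j, j ∉ A → s' j = 0) ∧
          ∑ j, s' j * t j = 0 ∧ s' j₀ = x}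
        add_mem' := by
          rintro a b ⟨s₁, h1, h2, h3, h4⟩ ⟨s₂, k1, k2, k3, k4⟩
          refine ⟨fun j => s₁ j + s₂ j, fun j => S.add_mem (h1 j) (k1 j), fun j hj => ?_, ?_, ?_⟩
          · simp only [h2 j hj, k2 j hj, add_zero]
          · simp only [add_mul, Finset.sum_add_distrib, h3, k3, add_zero]
          · simp only [h4, k4]
        zero_mem' := ⟨fun _ => 0, fun _ => S.zero_mem, fun _ _ => rfl, by simp only [_root_.MulZeroClass.zero_mul, _root_.Finset.sum_const_zero], rfl⟩
        smul_mem' := by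
          rintro c a ⟨s₁, h1, h2, h3, h4⟩
          refine ⟨fun j => c • s₁ j, fun j => S.smul_mem (h1 j) c, fun j hj => ?_, ?_, ?_⟩
          · simp only [h2 j hj, smul_zero]
          · simp only [smul_mul_assoc, ← Finset.smul_sum, h3, smul_zero]
          · simp only [h4] }
    have h1M : (1 : Module.End F E) ∈ M := by
      have h := hS.smp (s j₀) (hs j₀) hj₀
      have hle : Submodule.span F {y | ∃ l ∈ S, ∃ r ∈ S, y = l * s j₀ * r} ≤ M := by
        rw [Submodule.span_le]
        rintro y ⟨l, hl, r, hr, rfl⟩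
        refine ⟨fun j => l * s j * r, fun j => S.mul_mem (S.mul_mem hl (hs j)) hr, fun j hj => ?_, ?_, rfl⟩
        · simp only [hA j hj, mul_zero, zero_mul]
        · have : ∀ j, l * s j * r * t j = l * (s j * t j) * r := fun j => by
            rw [mul_assoc (l * s j) r (t j), hc r hr j, ← mul_assoc, mul_assoc l (s j) (t j)]
          simp only [this, ← Finset.sum_mul, ← Finset.mul_sum, hsum, mul_zero, zero_mul]
      exact hle h
    obtain ⟨s', h1, h2, h3, h4⟩ := h1M
    -- commutators give a shorter relation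
    have hcom : ∀ y ∈ S, ∀ j, y * s' j = s' j * y := by
      intro y hy j
      have := ih (A.erase j₀) (Finset.erase_ssubset hj₀A) (fun j => y * s' j - s' j * y)
        (fun j => S.sub_mem (S.mul_mem hy (h1 j)) (S.mul_mem (h1 j) hy)) (fun j hj => ?_) ?_ j
      · exact sub_eq_zero.mp this
      · by_cases hj0 : j = j₀
        · subst hj0
          simp only [h4, mul_one, one_mul, sub_self]
        · have : j ∉ A := fun h => hj (Finset.mem_erase.mpr ⟨hj0, h⟩)
          simp only [h2 j this, mul_zero, zero_mul, sub_self]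
      · have e1 : ∀ j, (y * s' j - s' j * y) * t j = y * (s' j * t j) - (s' j * t j) * y := fun j => by
          rw [sub_mul, mul_assoc, mul_assoc (s' j) y (t j), hc y hy j, ← mul_assoc (s' j)]
        simp only [e1, Finset.sum_sub_distrib, ← Finset.mul_sum, ← Finset.sum_mul, h3, mul_zero, zero_mul, sub_self]
    have hsc : ∀ j, ∃ c : F, s' j = c • (1 : Module.End F E) := fun j =>
      hS.cen (s' j) (h1 j) (fun y hy => (hcom y hy j).symm)
    choose c hcs using hsc
    have h5 : ∑ j, c j • t j = 0 := by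
      rw [← h3]
      refine Finset.sum_congr rfl fun j _ => ?_
      rw [hcs j, smul_mul_assoc, one_mul]
    have h6 := (Fintype.linearIndependent_iff.mp ht) c h5 j₀
    have h7 : s' j₀ = 0 := by rw [hcs j₀, h6, zero_smul]
    rw [h4] at h7
    have : s j₀ = 0 := by
      calc s j₀ = s j₀ * 1 := (mul_one _).symm
        _ = 0 := by rw [h7, mul_zero]
    exact hj₀ this

theorem lin_disj [Module.Finite F E]
    (S T : Subalgebra F (Module.End F E)) (hS : _root_.Cfsg.Agent.H697.Alm.CSA S) (hc : ∀ s ∈ S, ∀ t ∈ T, s * t = t * s) :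
    finrank F S * finrank F T ≤ finrank F (S ⊔ T : Subalgebra F (Module.End F E)) := by
  classical
  let bS := (Module.finBasis F S :)
  let bT := (Module.finBasis F T :)
  have hT : LinearIndependent F (fun j => ((bT j : T) : Module.End F E)) := by
    have := bT.linearIndependent.map' (Subalgebra.val T).toLinearMap
      (by rw [LinearMap.ker_eq_bot]; exact Subtype.val_injective)
    exact this
  have hSi : LinearIndependent F (fun j => ((bS j : S) : Module.End F E)) := by
    have := bS.linearIndependent.map' (Subalgebra.val S).toLinearMap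
      (by rw [LinearMap.ker_eq_bot]; exact Subtype.val_injective)
    exact this
  let f : Fin (finrank F S) × Fin (finrank F T) → (S ⊔ T : Subalgebra F (Module.End F E)) := fun ij =>
    ⟨(bS ij.1 : Module.End F E) * (bT ij.2 : Module.End F E),
      (S ⊔ T).mul_mem ((le_sup_left : S ≤ S ⊔ T) (bS ij.1).2) ((le_sup_right : T ≤ S ⊔ T) (bT ij.2).2)⟩
  have hf : LinearIndependent F f := by
    rw [Fintype.linearIndependent_iff]
    intro c hc0 ⟨i, j⟩
    have h0 : ∑ ij : Fin (finrank F S) × Fin (finrank F T),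
        c ij • ((bS ij.1 : Module.End F E) * (bT ij.2 : Module.End F E)) = 0 := by
      have := congrArg (Subalgebra.val (S ⊔ T)) hc0
      rw [map_sum, map_zero] at this
      rw [← this]
      rfl
    have h1 : ∑ j, (∑ i, c (i, j) • (bS i : Module.End F E)) * (bT j : Module.End F E) = 0 := by
      rw [← h0, Fintype.sum_prod_type_right]
      refine Finset.sum_congr rfl fun j _ => ?_
      rw [Finset.sum_mul]
      exact Finset.sum_congr rfl fun i _ => by rw [smul_mul_assoc]
    have h2 := rel S hS _ hT (fun s hs j => hc s hs _ (bT j).2) Finset.univ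
      (fun j => ∑ i, c (i, j) • (bS i : Module.End F E))
      (fun j => S.sum_mem fun i _ => S.smul_mem (bS i).2 _) (fun j hj => absurd (Finset.mem_univ j) hj) h1 j
    exact (Fintype.linearIndependent_iff.mp hSi) (fun i => c (i, j)) h2 i
  have := hf.fintype_card_le_finrank
  rwa [Fintype.card_prod, Fintype.card_fin, Fintype.card_fin] at this

end Cfsg.Agent.H311.S4790.LinDisj
end

-- part: H697/Alm/Symp
section
/-!
# S4790, T4: a normal subgroup of symplectic type, the exact bound
-/

set_option autoImplicit false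
set_option linter.style.haveILetI false

universe u

namespace Cfsg.Agent.H697.Alm

open Subgroup Module
open Cfsg.Agent.H553 Cfsg.Agent.H697.SympType

section abstract

theorem card_sp_exact (r n : ℕ) [Fact r.Prime] :
    Nat.card (Matrix.symplecticGroup (Fin n) (ZMod r)) = r ^ (n ^ 2) * ∏ i ∈ Finset.range n, (r ^ (2 * (i + 1)) - 1) := by
  rw [LieClassical.SympCount.card_symplecticGroup, ZMod.card]

theorem add_sp2 {r : ℕ} [hr : Fact r.Prime] {W : Type u} [AddCommGroup W] [Module (ZMod r) W]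
    [Finite W] {S : Type*} [Group S] [Finite S] (φ : S → (W → W))
    (hφa : ∀ s x y, φ s (x + y) = φ s x + φ s y)
    (hφ1 : ∀ x, φ 1 x = x) (hφm : ∀ s t x, φ (s * t) x = φ s (φ t x))
    (hφ : ∀ s, (∀ x, φ s x = x) → s = 1)
    (c : W → W → ZMod r) (hl : ∀ x y z, c (x + y) z = c x z + c y z)
    (hrr : ∀ x y z, c x (y + z) = c x y + c x z) (halt : ∀ x, c x x = 0)
    (hnd : ∀ x, (∀ y, c x y = 0) → x = 0) (hinv : ∀ s x y, c (φ s x) (φ s y) = c x y) :
    (∃ n : ℕ, Nat.card W = r ^ (2 * n) ∧ Nat.card S ≤ r ^ (n ^ 2) * ∏ i ∈ Finset.range n, (r ^ (2 * (i + 1)) - 1)) ∧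
      ∀ f : W → ZMod r, (∀ x y, f (x + y) = f x + f y) → ∃ a, ∀ b, c a b = f b := by
  have hfd : Module.Finite (ZMod r) W := Module.Finite.of_finite
  let c₁ : W → (W →ₗ[ZMod r] ZMod r) := fun x =>
    AddMonoidHom.toZModLinearMap r (AddMonoidHom.mk' (fun y : W => c x y) (fun y z => hrr _ _ _))
  have hc₁ : ∀ x y, c₁ x y = c x y := fun x y => by
    change AddMonoidHom.toZModLinearMap r _ y = _
    rw [AddMonoidHom.coe_toZModLinearMap]
    rfl
  let B : LinearMap.BilinForm (ZMod r) W :=
    AddMonoidHom.toZModLinearMap r (AddMonoidHom.mk' c₁ (fun x y => by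
      refine LinearMap.ext fun z => ?_
      rw [LinearMap.add_apply, hc₁, hc₁, hc₁]
      exact hl _ _ _))
  have hB1 : ∀ x, B x = c₁ x := fun x => by
    change AddMonoidHom.toZModLinearMap r _ x = _
    rw [AddMonoidHom.coe_toZModLinearMap]
    rfl
  have hB : ∀ x y, B x y = c x y := fun x y => by
    rw [hB1]
    exact hc₁ x y
  let ρ : S →* Module.End (ZMod r) W :=
    { toFun := fun g => AddMonoidHom.toZModLinearMap r
        (AddMonoidHom.mk' (fun x : W => φ g x) (fun x y => hφa g x y))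
      map_one' := by
        refine LinearMap.ext fun x => ?_
        rw [AddMonoidHom.coe_toZModLinearMap, Module.End.one_apply]
        exact hφ1 x
      map_mul' := fun g h => by
        refine LinearMap.ext fun x => ?_
        rw [Module.End.mul_apply, AddMonoidHom.coe_toZModLinearMap,
          AddMonoidHom.coe_toZModLinearMap, AddMonoidHom.coe_toZModLinearMap]
        exact hφm g h x }
  have hρ : ∀ (g : S) (x : W), ρ g x = φ g x := fun g x => by
    change AddMonoidHom.toZModLinearMap r _ x = _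
    rw [AddMonoidHom.coe_toZModLinearMap]
    rfl
  have hnd' : ∀ v : W, (∀ w, B v w = 0) → v = 0 := fun v hv =>
    hnd v (fun w => by rw [← hB]; exact hv w)
  constructor
  · obtain ⟨n, hn, f, hf⟩ := Sy.exists_embedding ρ (by
      rw [injective_iff_map_eq_one]
      intro s hs
      apply hφ
      intro x
      rw [← hρ, hs, Module.End.one_apply]) B (fun v => by rw [hB]; exact halt _) hnd'
      (fun s v w => by rw [hB, hB, hρ, hρ]; exact hinv s _ _)
    exact ⟨n, hn, (Nat.card_le_card_of_injective f hf).trans (card_sp_exact r n).le⟩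
  · intro f hf
    let f₁ : W →ₗ[ZMod r] ZMod r :=
      AddMonoidHom.toZModLinearMap r (AddMonoidHom.mk' (fun x : W => f x) (fun x y => hf _ _))
    have hf₁ : ∀ x : W, f₁ x = f x := fun x => by
      change AddMonoidHom.toZModLinearMap r _ x = _
      rw [AddMonoidHom.coe_toZModLinearMap]
      rfl
    have hBi : Function.Injective B := by
      rw [← LinearMap.ker_eq_bot, LinearMap.ker_eq_bot']
      intro v hv
      apply hnd'
      intro w
      rw [hv, LinearMap.zero_apply]
    have hBs : Function.Surjective B :=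
      (LinearMap.injective_iff_surjective_of_finrank_eq_finrank
        (Subspace.dual_finrank_eq (K := ZMod r) (V := W)).symm).1 hBi
    obtain ⟨a, ha⟩ := hBs f₁
    refine ⟨a, fun b => ?_⟩
    have h1 := LinearMap.congr_fun ha b
    rw [hB, hf₁] at h1
    exact h1

variable {M : Type u} [CommGroup M] [Finite M] {r : ℕ} [hr : Fact r.Prime]

/-- Nondegenerate forms: additive functionals are represented, and isometries embed in the
symplectic group. -/
theorem abs_sp2 (hexp : ∀ x : M, x ^ r = 1) {S : Type*} [Group S] [Finite S] (φ : S → (M → M))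
    (hφa : ∀ s x y, φ s (x * y) = φ s x * φ s y)
    (hφ1 : ∀ x, φ 1 x = x) (hφm : ∀ s t x, φ (s * t) x = φ s (φ t x))
    (hφ : ∀ s, (∀ x, φ s x = x) → s = 1)
    (c : M → M → ZMod r) (hl : ∀ x y z, c (x * y) z = c x z + c y z)
    (hrr : ∀ x y z, c x (y * z) = c x y + c x z) (halt : ∀ x, c x x = 0)
    (hnd : ∀ x, (∀ y, c x y = 0) → x = 1) (hinv : ∀ s x y, c (φ s x) (φ s y) = c x y) :
    (∃ n : ℕ, Nat.card M = r ^ (2 * n) ∧ Nat.card S ≤ r ^ (n ^ 2) * ∏ i ∈ Finset.range n, (r ^ (2 * (i + 1)) - 1)) ∧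
      ∀ f : M → ZMod r, (∀ x y, f (x * y) = f x + f y) → ∃ a, ∀ b, c a b = f b := by
  have hm : Module (ZMod r) (Additive M) :=
    AddCommGroup.zmodModule (fun x : Additive M => congrArg Additive.ofMul (hexp x.toMul))
  exact add_sp2 (W := Additive M) (fun s x => Additive.ofMul (φ s x.toMul))
    (fun s x y => congrArg Additive.ofMul (hφa s x.toMul y.toMul))
    (fun x => congrArg Additive.ofMul (hφ1 x.toMul))
    (fun s t x => congrArg Additive.ofMul (hφm s t x.toMul))
    (fun s h => hφ s (fun x => congrArg Additive.toMul (h (Additive.ofMul x))))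
    (fun x y => c x.toMul y.toMul) (fun x y z => hl _ _ _) (fun x y z => hrr _ _ _)
    (fun x => halt _) (fun x h => congrArg Additive.ofMul (hnd x.toMul fun y => h (Additive.ofMul y)))
    (fun s x y => hinv s _ _)


end abstract

variable {C : Type u} [Group C]

theorem exists_LA {A : Subgroup C} [Finite A] (hAc : IsCyclic A) (r : ℕ) [hr : Fact r.Prime] :
    ∃ L : C → ZMod r, (∀ a ∈ A, a ^ r = 1 → ∀ b ∈ A, b ^ r = 1 → L (a * b) = L a + L b) ∧
      (∀ a ∈ A, a ^ r = 1 → L a = 0 → a = 1) := by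
  classical
  have hcom : ∀ a b : A, a * b = b * a := fun a b => (IsCyclic.commGroup (α := A)).mul_comm a b
  have hcen : center A = ⊤ := by
    rw [eq_top_iff]
    intro a _
    rw [mem_center_iff]
    exact fun b => hcom b a
  have hcyc : IsCyclic (center A) := by
    rw [hcen]
    exact isCyclic_of_surjective (topEquiv (G := A)).symm.toMonoidHom (topEquiv (G := A)).symm.surjective
  obtain ⟨L, hL1, hL2⟩ := CF.exists_L hcyc r
  refine ⟨fun x => if h : x ∈ A then L ⟨x, h⟩ else 0, ?_, ?_⟩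
  · intro a ha har b hb hbr
    have hab : a * b ∈ A := A.mul_mem ha hb
    simp only [ha, hb, hab, dif_pos]
    exact hL1 ⟨a, ha⟩ ⟨b, hb⟩ (by rw [hcen]; trivial) (Subtype.ext har) (by rw [hcen]; trivial) (Subtype.ext hbr)
  · intro a ha har h0
    simp only [ha, dif_pos] at h0
    exact congrArg Subtype.val (hL2 ⟨a, ha⟩ (by rw [hcen]; trivial) (Subtype.ext har) h0)

variable [Finite C]

/-- **Symplectic type.** `N / A` elementary abelian with `A` central cyclic and `C_C(N) ≤ A`. -/
theorem symp_layer {A N : Subgroup C} (hAN : A ≤ N) (hA : A ≤ center C) (hAc : IsCyclic A)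
    (hN : N.Normal) {r : ℕ} [hr : Fact r.Prime] (hexp : ∀ x ∈ N, x ^ r ∈ A)
    (hcomm : ∀ x ∈ N, ∀ y ∈ N, x * y * x⁻¹ * y⁻¹ ∈ A)
    (hZ : ∀ x ∈ N, (∀ y ∈ N, x * y = y * x) → x ∈ A) :
    ∃ j : ℕ, A.relIndex N = r ^ (2 * j) ∧ (centralizer (N : Set C)).index ≤
      r ^ (2 * j) * (r ^ (j ^ 2) * ∏ i ∈ Finset.range j, (r ^ (2 * (i + 1)) - 1)) := by
  classical
  obtain ⟨K, hKdef⟩ : ∃ K : Subgroup C, K = N ⊔ centralizer (N : Set C) := ⟨_, rfl⟩
  have hKn : K.Normal := by rw [hKdef]; infer_instance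
  have hNK : N ≤ K := by rw [hKdef]; exact le_sup_left
  have hCK : centralizer (N : Set C) ≤ K := by rw [hKdef]; exact le_sup_right
  have hKmem : ∀ g : C, g ∈ K → ∃ n ∈ N, ∃ c ∈ centralizer (N : Set C), n * c = g := by
    intro g hg
    rw [hKdef] at hg
    exact Subgroup.mem_sup_of_normal_left.1 hg
  have hcomm' : ∀ x ∈ N, ∀ y ∈ N, cm x y ∈ A := hcomm
  obtain ⟨L, hL1, hL2⟩ := exists_LA hAc r
  have hzc : ∀ a ∈ A, ∀ x : C, a * x = x * a := fun a ha x =>
    (mem_center_iff.1 (hA ha) x).symm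
  have hAx : ∀ a ∈ A, ∀ x : C, cm a x = 1 := fun a ha x => cm_eq_one.2 (hzc a ha x)
  have hxA : ∀ a ∈ A, ∀ x : C, cm x a = 1 := fun a ha x => cm_eq_one.2 (hzc a ha x).symm
  have hpow : ∀ x : C, (∀ y ∈ N, cm x y ∈ A) → ∀ y ∈ N, cm x y ^ r = 1 := by
    intro x hx y hy
    have h1 : ∀ k : ℕ, cm x (y ^ k) = cm x y ^ k := by
      intro k
      induction k with
      | zero => rw [pow_zero, pow_zero]; exact hxA 1 A.one_mem x
      | succ k ih => rw [pow_succ, cm_mul_right (hzc _ (hx y hy)), ih, pow_succ]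
    rw [← h1]
    exact hxA _ (hexp y hy) x
  have hLadd : ∀ a ∈ A, a ^ r = 1 → ∀ b ∈ A, b ^ r = 1 → L (a * b) = L a + L b :=
    fun a ha har b hb hbr => hL1 a ha har b hb hbr
  have hLinj : ∀ a ∈ A, a ^ r = 1 → ∀ b ∈ A, b ^ r = 1 → L a = L b → a = b := by
    intro a ha har b hb hbr hab
    have hinv : b⁻¹ ^ r = 1 := by rw [inv_pow, hbr, inv_one]
    have h1 : L (a * b⁻¹) = 0 := by
      have h2 := hLadd (a * b⁻¹) (A.mul_mem ha (A.inv_mem hb))
        (by
          have h3 : Commute a b⁻¹ := hzc a ha b⁻¹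
          rw [h3.mul_pow, har, hinv, one_mul]) b hb hbr
      rw [inv_mul_cancel_right, hab] at h2
      exact left_eq_add.1 (by rw [add_comm]; exact h2)
    have h3 := hL2 (a * b⁻¹) (A.mul_mem ha (A.inv_mem hb)) (by
          have h3 : Commute a b⁻¹ := hzc a ha b⁻¹
          rw [h3.mul_pow, har, hinv, one_mul]) h1
    exact mul_inv_eq_one.1 h3
  -- the quotient
  let A' : Subgroup N := A.subgroupOf N
  have hA'n : A'.Normal := by
    refine ⟨fun x hx g => ?_⟩
    rw [mem_subgroupOf] at hx ⊢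
    have h1 : ((g * x * g⁻¹ : N) : C) = x := by
      push_cast
      rw [← hzc x hx g, mul_inv_cancel_right]
    rw [h1]
    exact hx
  let M := N ⧸ A'
  have hmk : ∀ x y : N, (QuotientGroup.mk x : M) = QuotientGroup.mk y ↔ (x : C)⁻¹ * y ∈ A := by
    intro x y
    rw [QuotientGroup.eq]
    rfl
  letI : CommGroup M :=
    { (inferInstance : Group M) with
      mul_comm := by
        intro a b
        obtain ⟨x, rfl⟩ := QuotientGroup.mk_surjective a
        obtain ⟨y, rfl⟩ := QuotientGroup.mk_surjective b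
        rw [← QuotientGroup.mk_mul, ← QuotientGroup.mk_mul, hmk]
        have h1 := hcomm' (y : C)⁻¹ (N.inv_mem y.2) (x : C)⁻¹ (N.inv_mem x.2)
        unfold cm at h1
        push_cast
        convert h1 using 1
        group }
  have hexpM : ∀ m : M, m ^ r = 1 := by
    intro m
    obtain ⟨x, rfl⟩ := QuotientGroup.mk_surjective m
    rw [← QuotientGroup.mk_pow, ← QuotientGroup.mk_one, eq_comm, hmk]
    push_cast
    rw [inv_one, one_mul]
    exact hexp x x.2
  have hwd : ∀ x y a b : C, a ∈ A → b ∈ A → cm (x * a) (y * b) = cm x y := by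
    intro x y a b ha hb
    have h1 : cm (x * a) (y * b) = cm x (y * b) := by
      rw [cm_mul_left (by rw [hAx a ha]; intro g; rw [one_mul, mul_one]), hAx a ha, mul_one]
    rw [h1, cm_mul_right (by rw [hxA b hb]; intro g; rw [one_mul, mul_one]), hxA b hb, mul_one]
  let c : M → M → ZMod r := fun a b => L (cm ((Quotient.out a : N) : C) ((Quotient.out b : N) : C))
  have hc : ∀ x y : N, c (QuotientGroup.mk x) (QuotientGroup.mk y) = L (cm (x : C) (y : C)) := by
    intro x y
    have h1 : ∀ z : N, ∃ a ∈ A, ((Quotient.out (QuotientGroup.mk z : M) : N) : C) = z * a := by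
      intro z
      refine ⟨(z : C)⁻¹ * ((Quotient.out (QuotientGroup.mk z : M) : N) : C), ?_, by group⟩
      rw [← hmk]
      exact (QuotientGroup.out_eq' _).symm
    obtain ⟨a, ha, hax⟩ := h1 x
    obtain ⟨b, hb, hby⟩ := h1 y
    show L (cm _ _) = _
    rw [hax, hby, hwd _ _ _ _ ha hb]
  have hcN : ∀ x y : N, cm (x : C) (y : C) ∈ A := fun x y => hcomm' x x.2 y y.2
  have hcNr : ∀ x y : N, cm (x : C) (y : C) ^ r = 1 := fun x y =>
    hpow x (fun z hz => hcomm' x x.2 z hz) y y.2
  have hl : ∀ a b d : M, c (a * b) d = c a d + c b d := by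
    intro a b d
    obtain ⟨x, rfl⟩ := QuotientGroup.mk_surjective a
    obtain ⟨y, rfl⟩ := QuotientGroup.mk_surjective b
    obtain ⟨z, rfl⟩ := QuotientGroup.mk_surjective d
    rw [← QuotientGroup.mk_mul, hc, hc, hc, ← hLadd _ (hcN _ _) (hcNr _ _) _ (hcN _ _) (hcNr _ _)]
    congr 1
    push_cast
    exact cm_mul_left (hzc _ (hcN _ _))
  have hrr : ∀ a b d : M, c a (b * d) = c a b + c a d := by
    intro a b d
    obtain ⟨x, rfl⟩ := QuotientGroup.mk_surjective a
    obtain ⟨y, rfl⟩ := QuotientGroup.mk_surjective b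
    obtain ⟨z, rfl⟩ := QuotientGroup.mk_surjective d
    rw [← QuotientGroup.mk_mul, hc, hc, hc, ← hLadd _ (hcN _ _) (hcNr _ _) _ (hcN _ _) (hcNr _ _)]
    congr 1
    push_cast
    exact cm_mul_right (hzc _ (hcN _ _))
  have halt : ∀ a : M, c a a = 0 := by
    intro a
    obtain ⟨x, rfl⟩ := QuotientGroup.mk_surjective a
    rw [hc]
    have h1 : cm (x : C) (x : C) = 1 := cm_eq_one.2 rfl
    have h2 := hLadd 1 A.one_mem (one_pow r) 1 A.one_mem (one_pow r)
    rw [mul_one] at h2
    rw [h1]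
    exact left_eq_add.1 h2
  have hL1' : L 1 = 0 := by
    have h2 := hLadd 1 A.one_mem (one_pow r) 1 A.one_mem (one_pow r)
    rw [mul_one] at h2
    exact left_eq_add.1 h2
  have hnd : ∀ a : M, (∀ b, c a b = 0) → a = 1 := by
    intro a ha
    obtain ⟨x, rfl⟩ := QuotientGroup.mk_surjective a
    rw [← QuotientGroup.mk_one, eq_comm, hmk]
    push_cast
    rw [inv_one, one_mul]
    refine hZ _ x.2 fun y hy => ?_
    have h1 := ha (QuotientGroup.mk ⟨y, hy⟩)
    rw [hc] at h1
    have h2 := hL2 _ (hcN x ⟨y, hy⟩) (hcNr x ⟨y, hy⟩) h1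
    exact cm_eq_one.1 h2
  -- the action
  let φ : C ⧸ K → (M → M) := fun s =>
    QuotientGroup.map A' A' (MulAut.conjNormal (H := N) (Quotient.out s)).toMonoidHom (by
      intro x hx
      rw [mem_comap, mem_subgroupOf]
      rw [mem_subgroupOf] at hx
      have h1 : ((MulAut.conjNormal (Quotient.out s) x : N) : C) = x := by
        rw [MulAut.conjNormal_apply, ← hzc x hx, mul_inv_cancel_right]
      show ((MulAut.conjNormal (Quotient.out s) x : N) : C) ∈ A
      rw [h1]
      exact hx)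
  have hφ : ∀ (g : C) (x : N), φ (QuotientGroup.mk g) (QuotientGroup.mk x) =
      QuotientGroup.mk (⟨g * x * g⁻¹, hN.conj_mem x x.2 g⟩ : N) := by
    intro g x
    have h1 : φ (QuotientGroup.mk g) (QuotientGroup.mk x) =
      (QuotientGroup.mk (MulAut.conjNormal (Quotient.out (QuotientGroup.mk g : C ⧸ K)) x : N) : M) :=
      rfl
    rw [h1, hmk, MulAut.conjNormal_apply]
    have h2 : (Quotient.out (QuotientGroup.mk g : C ⧸ K))⁻¹ * g ∈ K := by
      rw [← QuotientGroup.eq]
      exact QuotientGroup.out_eq' _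
    set k := Quotient.out (QuotientGroup.mk g : C ⧸ K)
    have h3 : cm (x : C)⁻¹ (k⁻¹ * g) ∈ A := by
      obtain ⟨n, hn, c, hc, hnc⟩ := hKmem _ h2
      have h31 : cm (x : C)⁻¹ (n * c) = cm (x : C)⁻¹ n := by
        have h32 : (x : C) * c = c * x := (mem_centralizer_iff.1 hc (x : C) x.2)
        have h33 : c * (x : C) * c⁻¹ = x := by rw [← h32, mul_inv_cancel_right]
        have h34 : cm (x : C)⁻¹ (n * c) = (x : C)⁻¹ * n * (c * x * c⁻¹) * n⁻¹ := by unfold cm; group
        rw [h34, h33]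
        unfold cm
        group
      rw [← hnc, h31]
      exact hcomm' (x : C)⁻¹ (N.inv_mem x.2) n hn
    have h4 : (k * (x : C) * k⁻¹)⁻¹ * (g * x * g⁻¹) = k * cm (x : C)⁻¹ (k⁻¹ * g) * k⁻¹ := by
      unfold cm; group
    show (k * (x : C) * k⁻¹)⁻¹ * (g * x * g⁻¹) ∈ A
    rw [h4, ← hzc _ h3 k, mul_inv_cancel_right]
    exact h3
  have hfinM : Finite M := inferInstanceAs (Finite (N ⧸ A'))
  obtain ⟨⟨n, hn1, hn2⟩, hdual⟩ := abs_sp2 (M := M) (r := r) hexpM (S := C ⧸ K) φ
    (by
      intro s a b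
      obtain ⟨g, rfl⟩ := QuotientGroup.mk_surjective s
      obtain ⟨x, rfl⟩ := QuotientGroup.mk_surjective a
      obtain ⟨y, rfl⟩ := QuotientGroup.mk_surjective b
      rw [← QuotientGroup.mk_mul, hφ, hφ, hφ, ← QuotientGroup.mk_mul]
      congr 1
      apply Subtype.ext
      push_cast
      group)
    (by
      intro a
      obtain ⟨x, rfl⟩ := QuotientGroup.mk_surjective a
      rw [← QuotientGroup.mk_one, hφ]
      congr 1
      apply Subtype.ext
      push_cast
      group)
    (by
      intro s t a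
      obtain ⟨g, rfl⟩ := QuotientGroup.mk_surjective s
      obtain ⟨h, rfl⟩ := QuotientGroup.mk_surjective t
      obtain ⟨x, rfl⟩ := QuotientGroup.mk_surjective a
      rw [← QuotientGroup.mk_mul, hφ, hφ, hφ]
      congr 1
      apply Subtype.ext
      push_cast
      group)
    (by
      intro s hs
      obtain ⟨g, rfl⟩ := QuotientGroup.mk_surjective s
      have hgN : ∀ x ∈ N, cm g x ∈ A := by
        intro x hx
        have h1 := hs (QuotientGroup.mk ⟨x, hx⟩)
        rw [hφ, hmk] at h1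
        have h2 := A.inv_mem h1
        have h3 : cm g x = x * ((g * x * g⁻¹)⁻¹ * x)⁻¹ * x⁻¹ := by unfold cm; group
        rw [h3]
        have h4 := hzc _ h2 x
        rw [← h4, mul_inv_cancel_right]
        exact h2
      let f : M → ZMod r := fun a => L (cm g ((Quotient.out a : N) : C))
      have hf : ∀ x : N, f (QuotientGroup.mk x) = L (cm g (x : C)) := by
        intro x
        show L (cm g ((Quotient.out (QuotientGroup.mk x : M) : N) : C)) = _
        have ha : (x : C)⁻¹ * ((Quotient.out (QuotientGroup.mk x : M) : N) : C) ∈ A := by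
          rw [← hmk]
          exact (QuotientGroup.out_eq' _).symm
        have hx : ((Quotient.out (QuotientGroup.mk x : M) : N) : C) =
            x * ((x : C)⁻¹ * ((Quotient.out (QuotientGroup.mk x : M) : N) : C)) := by group
        rw [hx, cm_mul_right (by rw [hxA _ ha]; intro g; rw [one_mul, mul_one]), hxA _ ha, mul_one]
      obtain ⟨a, ha⟩ := abs_dual hexpM c hl hrr halt hnd f (by
        intro a b
        obtain ⟨x, rfl⟩ := QuotientGroup.mk_surjective a
        obtain ⟨y, rfl⟩ := QuotientGroup.mk_surjective b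
        rw [← QuotientGroup.mk_mul, hf, hf, hf, ← hLadd _ (hgN x x.2) (hpow g hgN x x.2) _
          (hgN y y.2) (hpow g hgN y y.2)]
        congr 1
        push_cast
        exact cm_mul_right (hzc _ (hgN y y.2)))
      obtain ⟨n, rfl⟩ := QuotientGroup.mk_surjective a
      have h1 : (n : C)⁻¹ * g ∈ centralizer (N : Set C) := by
        rw [mem_centralizer_iff]
        intro x hx
        have h2 := ha (QuotientGroup.mk ⟨x, hx⟩)
        rw [hc, hf] at h2
        have h3 := hLinj _ (hcN n ⟨x, hx⟩) (hcNr n ⟨x, hx⟩) _ (hgN x hx) (hpow g hgN x hx) h2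
        have h4 : (n : C) * x * (n : C)⁻¹ = g * x * g⁻¹ := mul_right_cancel h3
        have h5 : x * ((n : C)⁻¹ * g) = (n : C)⁻¹ * (n * x * (n : C)⁻¹) * g := by group
        rw [h5, h4]
        group
      rw [← QuotientGroup.mk_one, QuotientGroup.eq, mul_one]
      have h6 : g = (n : C) * ((n : C)⁻¹ * g) := by group
      rw [h6]
      exact K.inv_mem (K.mul_mem (hNK n.2) (hCK h1))) c hl hrr halt hnd
    (by
      intro s a b
      obtain ⟨g, rfl⟩ := QuotientGroup.mk_surjective s
      obtain ⟨x, rfl⟩ := QuotientGroup.mk_surjective a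
      obtain ⟨y, rfl⟩ := QuotientGroup.mk_surjective b
      rw [hφ, hφ, hc, hc, ← conj_cm, ← hzc _ (hcN x y) g, mul_inv_cancel_right])
  have hrel : A.relIndex N = r ^ (2 * n) := hn1
  refine ⟨n, hrel, ?_⟩
  have hinf : N ⊓ centralizer (N : Set C) = A := by
    apply le_antisymm
    · rintro x ⟨hx, hxc⟩
      exact hZ x hx fun y hy => (mem_centralizer_iff.1 hxc y hy).symm
    · intro a ha
      exact ⟨hAN ha, mem_centralizer_iff.2 fun y _ => (hzc a ha y).symm⟩
  have h1 : (centralizer (N : Set C)).relIndex K = A.relIndex N := by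
    have hn : (centralizer (N : Set C)).Normal := inferInstance
    rw [hKdef, Subgroup.relIndex_sup_right, ← hinf, Subgroup.inf_relIndex_left]
  have h2 : K.index ≤ r ^ (n ^ 2) * ∏ i ∈ Finset.range n, (r ^ (2 * (i + 1)) - 1) := hn2
  rw [← Subgroup.relIndex_mul_index hCK, h1, hrel]
  exact Nat.mul_le_mul le_rfl h2

end Cfsg.Agent.H697.Alm
end

-- part: H832/S4790/MinB
section
/-!
# Minimal normal subgroups above an abelian normal subgroup, below a normal subgroup without components

Adapted from `H698.MinN.exists_min` (helper698).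
-/

set_option autoImplicit false

namespace Cfsg.Agent.H832.S4790.MinB

open Cfsg Subgroup
open scoped commutatorElement

variable {D : Type*} [Group D]

theorem exists_min [Finite D] {B : Subgroup D} (hBn : B.Normal) (hlay : ∀ K : Subgroup D, IsComponent K → ¬ K ≤ B)
    {A : Subgroup D} (hAn : A.Normal) (hAB : A < B) (hBC : B ≤ centralizer (A : Set D)) :
    ∃ N : Subgroup D, N.Normal ∧ A < N ∧ N ≤ B ∧ (∀ x ∈ N, ∀ y ∈ N, ⁅x, y⁆ ∈ A) ∧
      ∃ r : ℕ, r.Prime ∧ ∀ x ∈ N, x ^ r ∈ A := by
  have hAC : A ≤ centralizer (A : Set D) := hAB.le.trans hBC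
  obtain ⟨N, hN⟩ := Set.Finite.exists_minimal
    (s := {N : Subgroup D | N.Normal ∧ A < N ∧ N ≤ B}) (Set.toFinite _) ⟨B, hBn, hAB, le_rfl⟩
  obtain ⟨⟨hNn, hAN, hNB⟩, hmin⟩ := hN
  have hNC : N ≤ centralizer (A : Set D) := hNB.trans hBC
  have hmin' : ∀ M : Subgroup D, M.Normal → A ≤ M → M ≤ N → M = A ∨ M = N := by
    intro M hM h1 h2
    by_cases h3 : M = A
    · exact Or.inl h3
    · right
      exact le_antisymm h2 (hmin ⟨hM, lt_of_le_of_ne h1 (Ne.symm h3), h2.trans hNB⟩ h2)
  have hcen : ∀ x ∈ N, ∀ a ∈ A, a * x = x * a := fun x hx a ha => mem_centralizer_iff.1 (hNC hx) a ha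
  -- commutators
  have hcomm : ∀ x ∈ N, ∀ y ∈ N, ⁅x, y⁆ ∈ A := by
    by_contra hcon
    let M : Subgroup D := ⁅N, N⁆
    have hMn : M.Normal := inferInstance
    have hMN : M ≤ N := commutator_le_left N N
    have h1 : M ⊔ A = N := by
      rcases hmin' (M ⊔ A) inferInstance le_sup_right (sup_le hMN hAN.le) with h | h
      · exfalso
        apply hcon
        intro x hx y hy
        have : M ≤ A := by rw [← h]; exact le_sup_left
        exact this (commutator_mem_commutator hx hy)
      · exact h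
    -- `M` is perfect
    have hMperf : ⁅M, M⁆ = M := by
      apply le_antisymm (commutator_le_left M M)
      change ⁅N, N⁆ ≤ ⁅M, M⁆
      rw [commutator_le]
      intro x hx y hy
      rw [← h1] at hx hy
      obtain ⟨m, hm, a, ha, rfl⟩ := mem_sup_of_normal_right.1 hx
      obtain ⟨m', hm', a', ha', rfl⟩ := mem_sup_of_normal_right.1 hy
      have c1 : ∀ b ∈ A, ∀ x ∈ N, b * x = x * b := fun b hb x hx => hcen x hx b hb
      have e1 : ⁅m * a, m' * a'⁆ = ⁅m, m'⁆ := by
        have k1 := c1 a ha (m' * a') (N.mul_mem (hMN hm') (hAN.le ha'))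
        have k2 := c1 a' ha' m⁻¹ (N.inv_mem (hMN hm))
        calc ⁅m * a, m' * a'⁆ = m * (a * (m' * a')) * a⁻¹ * m⁻¹ * (m' * a')⁻¹ := by
              rw [commutatorElement_def]; group
          _ = m * (m' * a' * a) * a⁻¹ * m⁻¹ * (m' * a')⁻¹ := by rw [k1]
          _ = m * m' * (a' * m⁻¹) * (m' * a')⁻¹ := by group
          _ = m * m' * (m⁻¹ * a') * (m' * a')⁻¹ := by rw [k2]
          _ = ⁅m, m'⁆ := by rw [commutatorElement_def]; group
      rw [e1]
      exact commutator_mem_commutator hm hm'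
    have hMne : M ≠ ⊥ := by
      intro h
      rw [h, bot_sup_eq] at h1
      exact hAN.ne h1
    have hMns : ¬ Group.IsSolvable M := by
      intro hs
      have hp : Group.IsPerfect M := isPerfect_iff.mpr hMperf
      have hnt : Nontrivial M := (Subgroup.nontrivial_iff_ne_bot M).2 hMne
      exact Group.IsPerfect.not_isSolvable M hs
    have hΦn : (fittingSubgroup D).Normal := SignalizersComponents.ComponentExists.fittingSubgroup_normal D
    have hΦs : Group.IsSolvable (fittingSubgroup D) := by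
      have := Lib.Cores.fittingSubgroup_isNilpotent (G := D)
      infer_instance
    have hAΦ : A ≤ fittingSubgroup D := by
      refine SignalizersComponents.ComponentExists.le_fittingSubgroup hAn ?_
      apply SignalizersComponents.ComponentExists.isNilpotent_of_commutator_commutator
      have h2 : ⁅A, A⁆ = ⊥ := by
        rw [commutator_eq_bot_iff_le_centralizer]
        exact hAC
      rw [h2, commutator_bot_left]
    rcases hmin' (fittingSubgroup D ⊓ N) inferInstance (le_inf hAΦ hAN.le) inf_le_right with h | h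
    · -- three subgroups
      have h3 : ⁅⁅fittingSubgroup D, N⁆, N⁆ = ⊥ := by
        have h4 : ⁅fittingSubgroup D, N⁆ ≤ A := by
          rw [← h]
          exact commutator_le_inf _ _
        rw [commutator_eq_bot_iff_le_centralizer]
        refine h4.trans ?_
        intro a ha
        rw [mem_centralizer_iff]
        intro x hx
        exact (hcen x hx a ha).symm
      have h4 : ⁅⁅N, fittingSubgroup D⁆, N⁆ = ⊥ := by rw [commutator_comm N]; exact h3
      have h5 := commutator_commutator_eq_bot_of_rotate h4 h3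
      have h6 : M ≤ centralizer (fittingSubgroup D : Set D) := commutator_eq_bot_iff_le_centralizer.1 h5
      obtain ⟨K, hK, hKM⟩ := SignalizersComponents.ComponentExists.exists_isComponent_le hMn.isSubnormal hMns h6
      exact hlay K hK (hKM.trans (hMN.trans hNB))
    · apply hMns
      refine SignalizersComponents.ComponentExists.isSolvable_of_le ?_ hΦs
      refine hMN.trans ?_
      rw [← h]
      exact inf_le_left
  refine ⟨N, hNn, hAN, hNB, hcomm, ?_⟩
  -- exponent
  have hlt : 1 < A.relIndex N := by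
    have h1 : A.relIndex N ≠ 0 := index_ne_zero_of_finite
    have h2 : A.relIndex N ≠ 1 := fun h => hAN.not_ge (relIndex_eq_one.1 h)
    omega
  obtain ⟨r, hr, hrd⟩ := Nat.exists_prime_and_dvd hlt.ne'
  have : Fact r.Prime := ⟨hr⟩
  have hAn' : (A.subgroupOf N).Normal := hAn.subgroupOf N
  have hmul : ∀ x ∈ N, ∀ y ∈ N, ∀ k : ℕ, ∃ a ∈ A, (x * y) ^ k = x ^ k * y ^ k * a := by
    intro x hx y hy k
    have hq : ∀ u v : N ⧸ A.subgroupOf N, u * v = v * u := by
      intro u v
      induction u using QuotientGroup.induction_on with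
      | H u =>
        induction v using QuotientGroup.induction_on with
        | H v =>
          rw [← QuotientGroup.mk_mul, ← QuotientGroup.mk_mul, QuotientGroup.eq, mem_subgroupOf]
          have h1 := hcomm (v : D)⁻¹ (N.inv_mem v.2) (u : D)⁻¹ (N.inv_mem u.2)
          rw [commutatorElement_def] at h1
          have h2 : (((u * v)⁻¹ * (v * u) : N) : D) = (v : D)⁻¹ * (u : D)⁻¹ * (v : D)⁻¹⁻¹ * (u : D)⁻¹⁻¹ := by
            push_cast
            group
          rw [h2]
          exact h1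
    have h1 : ((⟨x, hx⟩ * ⟨y, hy⟩ : N) : N ⧸ A.subgroupOf N) ^ k =
        ((⟨x, hx⟩ : N) : N ⧸ A.subgroupOf N) ^ k * ((⟨y, hy⟩ : N) : N ⧸ A.subgroupOf N) ^ k := by
      rw [QuotientGroup.mk_mul]
      exact Commute.mul_pow (hq _ _) k
    rw [← QuotientGroup.mk_pow, ← QuotientGroup.mk_pow, ← QuotientGroup.mk_pow, ← QuotientGroup.mk_mul,
      eq_comm, QuotientGroup.eq, mem_subgroupOf] at h1
    refine ⟨_, h1, ?_⟩
    push_cast
    group
  let P : Subgroup D :=
    { carrier := {x | x ∈ N ∧ x ^ r ∈ A}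
      one_mem' := ⟨N.one_mem, by rw [one_pow]; exact A.one_mem⟩
      mul_mem' := by
        rintro x y ⟨hx, hx'⟩ ⟨hy, hy'⟩
        refine ⟨N.mul_mem hx hy, ?_⟩
        obtain ⟨a, ha, h⟩ := hmul x hx y hy r
        rw [h]
        exact A.mul_mem (A.mul_mem hx' hy') ha
      inv_mem' := by
        rintro x ⟨hx, hx'⟩
        exact ⟨N.inv_mem hx, by rw [inv_pow]; exact A.inv_mem hx'⟩ }
  have hPn : P.Normal := ⟨by
    rintro x ⟨hx, hx'⟩ g
    refine ⟨hNn.conj_mem x hx g, ?_⟩
    rw [conj_pow]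
    exact hAn.conj_mem _ hx' g⟩
  refine ⟨r, hr, ?_⟩
  rcases hmin' P hPn (fun a ha => ⟨hAN.le ha, A.pow_mem ha r⟩) (fun x hx => hx.1) with h | h
  · exfalso
    have h1 : r ∣ Nat.card (N ⧸ A.subgroupOf N) := hrd
    obtain ⟨u, hu⟩ := exists_prime_orderOf_dvd_card' r h1
    obtain ⟨x, rfl⟩ := QuotientGroup.mk_surjective u
    have h2 : (x : N ⧸ A.subgroupOf N) ^ r = 1 := by rw [← hu, pow_orderOf_eq_one]
    rw [← QuotientGroup.mk_pow, QuotientGroup.eq_one_iff, mem_subgroupOf] at h2
    have h3 : (x : D) ∈ P := ⟨x.2, h2⟩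
    rw [h] at h3
    have h4 : (x : N ⧸ A.subgroupOf N) = 1 := by
      rw [QuotientGroup.eq_one_iff, mem_subgroupOf]
      exact h3
    rw [h4, orderOf_one] at hu
    exact hr.one_lt.ne hu
  · intro x hx
    rw [← h] at hx
    exact hx.2

end Cfsg.Agent.H832.S4790.MinB
end

-- part: H832/S4790/Num
section
/-!
# S4790, T5: numerical facts
-/

set_option autoImplicit false

namespace Cfsg.Agent.H832.S4790.Num

open Finset

theorem base {r : ℕ} (hr : 3 ≤ r) : r ^ 5 ≤ 16 ^ (r - 1) := by
  induction r, hr using Nat.le_induction with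
  | base => norm_num
  | succ r hr ih =>
    have h1 : (r + 1) ^ 5 ≤ 16 * r ^ 5 := by
      have h2 : 3 * (r + 1) ≤ 4 * r := by omega
      have h3 := Nat.pow_le_pow_left h2 5
      rw [mul_pow, mul_pow] at h3
      linarith only [h3, Nat.zero_le (r ^ 5)]
    obtain ⟨k, rfl⟩ : ∃ k, r = k + 1 := ⟨r - 1, by omega⟩
    have e : k + 1 + 1 - 1 = (k + 1 - 1) + 1 := by omega
    rw [e, pow_succ 16, mul_comm]
    exact h1.trans (Nat.mul_le_mul_left _ ih)

theorem big {r : ℕ} (hr : 3 ≤ r) (j : ℕ) : r ^ (2 * j ^ 2 + 3 * j) ≤ 16 ^ (r ^ j - 1) := by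
  induction j with
  | zero => simp
  | succ j ih =>
    have h1 : 1 ≤ r ^ j := Nat.one_le_pow _ _ (by omega)
    have e1 : 2 * (j + 1) ^ 2 + 3 * (j + 1) = (2 * j ^ 2 + 3 * j) + (4 * j + 5) := by ring
    have e2 : r ^ (j + 1) - 1 = (r ^ j - 1) + r ^ j * (r - 1) := by
      obtain ⟨k, rfl⟩ : ∃ k, r = k + 1 := ⟨r - 1, by omega⟩
      obtain ⟨m, hm⟩ : ∃ m, (k + 1) ^ j = m + 1 := ⟨(k + 1) ^ j - 1, by omega⟩
      rw [pow_succ, hm]
      have : (m + 1) * (k + 1) = (m + (m + 1) * k) + 1 := by ring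
      rw [this]
      simp only [_root_.add_tsub_cancel_right, _root_.Nat.add_left_cancel_iff]
    have h2 : j + 1 ≤ r ^ j := Nat.lt_pow_self (by omega)
    have h3 : r ^ (4 * j + 5) ≤ 16 ^ (r ^ j * (r - 1)) := by
      calc r ^ (4 * j + 5) ≤ r ^ (5 * r ^ j) := Nat.pow_le_pow_right (by omega) (by omega)
        _ = (r ^ 5) ^ (r ^ j) := by rw [pow_mul]
        _ ≤ (16 ^ (r - 1)) ^ (r ^ j) := Nat.pow_le_pow_left (base hr) _
        _ = _ := by rw [← pow_mul, mul_comm]
    rw [e1, e2, pow_add r, pow_add 16]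
    exact Nat.mul_le_mul ih h3

theorem two_exp {j : ℕ} (hj : 3 ≤ j) : 2 * j ^ 2 + 3 * j + 4 ≤ 4 * 2 ^ j := by
  induction j, hj using Nat.le_induction with
  | base => norm_num
  | succ j hj ih =>
    have h2 : j + 1 ≤ 2 ^ j := Nat.lt_pow_self (by omega)
    have e1 : 2 * (j + 1) ^ 2 + 3 * (j + 1) = (2 * j ^ 2 + 3 * j) + (4 * j + 5) := by ring
    rw [e1, pow_succ 2]
    have h3 : 2 * j ≤ 2 ^ j := by
      obtain ⟨k, rfl⟩ : ∃ k, j = k + 1 := ⟨j - 1, by omega⟩
      have h4 : k + 1 ≤ 2 ^ k := Nat.lt_pow_self (by omega)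
      rw [pow_succ]
      omega
    (clear * - hj ih h3; omega)

theorem big_two {j : ℕ} (hj : 3 ≤ j) : 2 ^ (2 * j ^ 2 + 3 * j) ≤ 16 ^ (2 ^ j - 1) := by
  have h := two_exp hj
  have e : (16 : ℕ) = 2 ^ 4 := by norm_num
  rw [e, ← pow_mul]
  exact Nat.pow_le_pow_right (by norm_num) (by omega)

theorem prod_le (r j : ℕ) : ∏ i ∈ range j, (r ^ (2 * (i + 1)) - 1) ≤ r ^ (j ^ 2 + j) := by
  induction j with
  | zero => simp
  | succ j ih =>
    rw [prod_range_succ]
    have e : (j + 1) ^ 2 + (j + 1) = (j ^ 2 + j) + 2 * (j + 1) := by ring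
    rw [e, pow_add]
    exact Nat.mul_le_mul ih (Nat.sub_le _ _)

/-- the order of `r ^ (2 * j) : Sp (2 * j, r)` -/
def S (r j : ℕ) : ℕ := r ^ (2 * j) * (r ^ (j ^ 2) * ∏ i ∈ range j, (r ^ (2 * (i + 1)) - 1))

theorem S_le (r j : ℕ) : S r j ≤ r ^ (2 * j ^ 2 + 3 * j) := by
  have h := prod_le r j
  have e : 2 * j ^ 2 + 3 * j = 2 * j + (j ^ 2 + (j ^ 2 + j)) := by ring
  rw [e, pow_add, pow_add, S]
  exact Nat.mul_le_mul_left _ (Nat.mul_le_mul_left _ h)

theorem pow_sub {p n : ℕ} (hp : 1 ≤ p) (hn : 1 ≤ n) : (p - 1) * p ^ (n - 1) ≤ p ^ n - 1 := by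
  obtain ⟨k, rfl⟩ : ∃ k, n = k + 1 := ⟨n - 1, by omega⟩
  obtain ⟨q, rfl⟩ : ∃ q, p = q + 1 := ⟨p - 1, by omega⟩
  rw [Nat.add_sub_cancel, Nat.add_sub_cancel, pow_succ]
  have h1 : 1 ≤ (q + 1) ^ k := Nat.one_le_pow _ _ (by omega)
  apply Nat.le_sub_of_add_le
  linarith only [h1]

theorem S_of_le {p r j : ℕ} (hp : 23 ≤ p) (hr : 1 ≤ r) (h : r ^ (2 * j ^ 2 + 3 * j) ≤ 16 ^ (r ^ j - 1)) :
    S r j * (p - 1) ≤ p ^ (r ^ j) - 1 := by
  have h1 : 1 ≤ r ^ j := Nat.one_le_pow _ _ hr
  calc S r j * (p - 1) ≤ 16 ^ (r ^ j - 1) * (p - 1) := Nat.mul_le_mul_right _ ((S_le r j).trans h)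
    _ ≤ p ^ (r ^ j - 1) * (p - 1) := Nat.mul_le_mul_right _ (Nat.pow_le_pow_left (by omega) _)
    _ = (p - 1) * p ^ (r ^ j - 1) := mul_comm _ _
    _ ≤ _ := pow_sub (by omega) h1

/-- the symplectic layer -/
theorem S_main {p r j : ℕ} (hp : 23 ≤ p) (hr : 2 ≤ r) : S r j * (p - 1) ≤ p ^ (r ^ j) - 1 := by
  rcases Nat.lt_or_ge 2 r with h | h
  · exact S_of_le hp (by omega) (big h j)
  · obtain rfl : r = 2 := by omega
    rcases Nat.lt_or_ge j 3 with hj | hj
    · obtain ⟨q, rfl⟩ : ∃ q, p = q + 1 := ⟨p - 1, by omega⟩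
      rw [Nat.add_sub_cancel]
      have hq : 22 ≤ q := by omega
      apply Nat.le_sub_of_add_le
      interval_cases j
      · simp only [S, _root_.MulZeroClass.mul_zero, _root_.pow_zero, _root_.ne_eq, _root_.OfNat.ofNat_ne_zero, _root_.not_false_eq_true, _root_.zero_pow, _root_.Finset.range_zero, _root_.Finset.prod_empty, _root_.mul_one, _root_.one_mul, _root_.pow_one, _root_.Std.le_refl]
      · simp only [S, pow_one, mul_one, one_pow, prod_range_one]
        norm_num
        nlinarith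
      · simp only [S, prod_range_succ, prod_range_zero]
        norm_num
        have h2 : 22 * 22 ≤ q * q := Nat.mul_le_mul hq hq
        have h3 : 22 * 22 * 22 ≤ q * q * q := Nat.mul_le_mul h2 hq
        have e : (q + 1) ^ 4 = q * (q * q * q + 4 * (q * q) + 6 * q + 4) + 1 := by ring
        rw [e, mul_comm]
        have h4 : 11520 ≤ q * q * q + 4 * (q * q) + 6 * q + 4 := by omega
        have h5 := Nat.mul_le_mul_left q h4
        omega
    · exact S_of_le hp (by omega) (big_two hj)

theorem pow_mul_pow {p u v : ℕ} (hp : 1 ≤ p) (hv : 1 ≤ v) :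
    (p ^ u - 1) * (p ^ v - 1) ≤ (p - 1) * (p ^ (u * v) - 1) := by
  have h1 : ∀ n : ℕ, 1 ≤ p ^ n := fun n => Nat.one_le_pow _ _ hp
  have key : ((p : ℤ) ^ u - 1) * ((p : ℤ) ^ v - 1) ≤ ((p : ℤ) - 1) * ((p : ℤ) ^ (u * v) - 1) := by
    rw [mul_comm u v, pow_mul, ← geom_sum_mul, ← geom_sum_mul ((p : ℤ) ^ v) u]
    have h2 : (1 : ℤ) ≤ p := by exact_mod_cast hp
    have h3 : (1 : ℤ) ≤ (p : ℤ) ^ v := by exact_mod_cast h1 v
    have h4 : ∑ i ∈ range u, (p : ℤ) ^ i ≤ ∑ i ∈ range u, ((p : ℤ) ^ v) ^ i := by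
      refine sum_le_sum fun i _ => ?_
      rw [← pow_mul]
      exact pow_le_pow_right₀ h2 (Nat.le_mul_of_pos_left _ hv)
    have h5 : 0 ≤ ((p : ℤ) - 1) * ((p : ℤ) ^ v - 1) := mul_nonneg (by linarith only [hp]) (by linarith only [h3])
    linarith only [mul_le_mul_of_nonneg_left h4 h5]
  zify [h1 u, h1 v, h1 (u * v), hp]
  exact key

end Cfsg.Agent.H832.S4790.Num
end

-- part: H832/S4790/Lin
section
/-!
# S4790, T5: scalars, generated algebras
-/

set_option autoImplicit false

namespace Cfsg.Agent.H832.S4790.Lin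

open Module Subgroup
open Cfsg.Agent.H697.Alm

universe u v w

variable {D : Type v} {E : Type u} [Group D] [AddCommGroup E] [DistribMulAction D E]
  {F : Type w} [Field F] [Module F E]

/-- the linear map of an element acting linearly -/
def ln {d : D} (hd : d ∈ CF D E F) : Module.End F E where
  toFun e := d • e
  map_add' := smul_add d
  map_smul' c e := hd c e

theorem ln_apply {d : D} (hd : d ∈ CF D E F) (e : E) : ln hd e = d • e := rfl

theorem ln_mem {N : Subgroup D} (hN : N ≤ CF D E F) {d : D} (hd : d ∈ N) : ln (hN hd) ∈ alg E F N :=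
  Algebra.subset_adjoin ⟨d, hd, fun _ => rfl⟩

theorem alg_mono {N M : Subgroup D} (h : N ≤ M) : alg E F N ≤ alg E F M := by
  apply Algebra.adjoin_mono
  rintro g ⟨n, hn, hg⟩
  exact ⟨n, h hn, hg⟩

theorem alg_comm {N M : Subgroup D} (h : ∀ x ∈ N, ∀ y ∈ M, x * y = y * x) :
    ∀ s ∈ alg E F N, ∀ t ∈ alg E F M, s * t = t * s := by
  intro s hs t ht
  have h1 : alg E F M ≤ Subalgebra.centralizer F {g | ∃ n ∈ N, ∀ e : E, g e = n • e} := by
    apply Algebra.adjoin_le
    rintro g ⟨m, hm, hg⟩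
    rw [SetLike.mem_coe, Subalgebra.mem_centralizer_iff]
    rintro f ⟨n, hn, hf⟩
    refine LinearMap.ext fun e => ?_
    rw [Module.End.mul_apply, Module.End.mul_apply, hg, hf, hf, hg, ← mul_smul, ← mul_smul, h n hn m hm]
  have h2 : alg E F N ≤ Subalgebra.centralizer F {t} := by
    apply Algebra.adjoin_le
    intro g hg
    rw [SetLike.mem_coe, Subalgebra.mem_centralizer_iff]
    rintro f rfl
    have := (Subalgebra.mem_centralizer_iff F).1 (h1 ht) g hg
    exact this.symm
  exact ((Subalgebra.mem_centralizer_iff F).1 (h2 hs) t rfl).symm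

section scalars

theorem CF_le [FaithfulSMul D E] : CF D E F ≤ centralizer (AF D E F : Set D) := by
  intro d hd
  rw [mem_centralizer_iff]
  rintro a ⟨c, hc⟩
  apply FaithfulSMul.eq_of_smul_eq_smul (α := E)
  intro e
  rw [mul_smul, mul_smul, hc, hc, hd]

theorem AF_normal (fr : Fr D E F) : (AF D E F).Normal := by
  refine ⟨?_⟩
  rintro a ⟨c, hc⟩ d
  obtain ⟨c', hc'⟩ := fr.norm d c
  refine ⟨c', fun e => ?_⟩
  rw [mul_smul, mul_smul, hc, hc', smul_inv_smul]

/-- scalars are embedded in the field -/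
theorem AF_cyclic [Finite D] [FaithfulSMul D E] [Nontrivial E] : IsCyclic (AF D E F) := by
  classical
  obtain ⟨v, hv⟩ := exists_ne (0 : E)
  have hinj : ∀ c c' : F, (∀ e : E, c • e = c' • e) → c = c' := by
    intro c c' h
    by_contra hne
    have h1 : (c - c') • v = 0 := by rw [sub_smul, h v, sub_self]
    rcases smul_eq_zero.1 h1 with h2 | h2
    · exact hne (sub_eq_zero.1 h2)
    · exact hv h2
  choose f hf using fun a : AF D E F => a.2
  let φ : AF D E F →* F :=
    { toFun := f
      map_one' := hinj _ _ fun e => by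
        rw [← hf, OneMemClass.coe_one, one_smul, one_smul]
      map_mul' := fun a b => hinj _ _ fun e => by
        rw [← hf, mul_smul, ← hf b, ← hf a, ← mul_smul]
        rfl }
  refine isCyclic_of_injective_ringHom φ ?_
  intro a b hab
  apply Subtype.ext
  apply FaithfulSMul.eq_of_smul_eq_smul (α := E)
  intro e
  rw [hf a, hf b]
  change f a = f b at hab
  rw [hab]

/-- a commutative normal subgroup of `CF` consists of scalars -/
theorem le_AF (fr : Fr D E F) {Z : Subgroup D} (hZn : Z.Normal) (hZ : Z ≤ CF D E F)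
    (hc : ∀ x ∈ Z, ∀ y ∈ Z, x * y = y * x) : Z ≤ AF D E F := by
  intro z hz
  have h1 := alg_comm (E := E) (F := F) hc
  obtain ⟨c, h2⟩ := (fr.csa Z hZn hZ).cen (ln (hZ hz)) (ln_mem hZ hz) (fun y hy => h1 _ (ln_mem hZ hz) y hy)
  refine ⟨c, fun e => ?_⟩
  have h3 := LinearMap.congr_fun h2 e
  rw [ln_apply] at h3
  rw [h3]
  rfl

end scalars

open scoped commutatorElement

/-- coset representatives are linearly independent -/
theorem relIndex_le [Finite D] [Nontrivial E] [FaithfulSMul D E] [Module.Finite F E] {N : Subgroup D}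
    (hN : N ≤ CF D E F)
    (hcomm : ∀ x ∈ N, ∀ y ∈ N, ⁅x, y⁆ ∈ AF D E F) (hZ : ∀ x ∈ N, (∀ y ∈ N, x * y = y * x) → x ∈ AF D E F) :
    (AF D E F).relIndex N ≤ finrank F (alg E F N) := by
  classical
  have hfin : Finite (N ⧸ (AF D E F).subgroupOf N) := inferInstance
  have : Fintype (N ⧸ (AF D E F).subgroupOf N) := Fintype.ofFinite _
  obtain ⟨v, hv⟩ := exists_ne (0 : E)
  choose f hf using fun a : AF D E F => a.2
  let x : N ⧸ (AF D E F).subgroupOf N → Module.End F E := fun q => ln (hN q.out.2)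
  let T : N → (E →ₗ[F] E) →ₗ[F] (E →ₗ[F] E) := fun y =>
    { toFun := fun g => ln (hN y.2) * g * ln (hN y⁻¹.2)
      map_add' := fun a b => by rw [mul_add, add_mul]
      map_smul' := fun c a => by
        rw [RingHom.id_apply, mul_smul_comm, smul_mul_assoc] }
  let l : N ⧸ (AF D E F).subgroupOf N → N → F := fun q y => f ⟨⁅(y : D), (q.out : D)⁆, hcomm _ y.2 _ q.out.2⟩
  have hli : LinearIndependent F x := by
    refine H698.LinInd.linearIndependent x ?_ T l ?_ ?_
    · intro q h
      have h1 : ((q.out : N) : D) • v = 0 := LinearMap.congr_fun h v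
      exact hv ((smul_eq_zero_iff_eq ((q.out : N) : D)).1 h1)
    · intro y q
      refine LinearMap.ext fun v => ?_
      change (y : D) • (((q.out : N) : D) • (((y⁻¹ : N) : D) • v)) = l q y • (((q.out : N) : D) • v)
      change _ = f ⟨⁅(y : D), (q.out : D)⁆, hcomm _ y.2 _ q.out.2⟩ • (((q.out : N) : D) • v)
      rw [← hf, ← mul_smul, ← mul_smul, ← mul_smul]
      congr 1
      change (y : D) * ((q.out : N) : D) * (y : D)⁻¹ =
        ((y : D) * ((q.out : N) : D) * (y : D)⁻¹ * (((q.out : N) : D))⁻¹) * ((q.out : N) : D)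
      group
    · intro q q' hne
      by_contra hcon
      push Not at hcon
      apply hne
      have h1 : ∀ y : N, ⁅(y : D), (q.out : D)⁆ = ⁅(y : D), (q'.out : D)⁆ := by
        intro y
        have h2 := hcon y
        apply FaithfulSMul.eq_of_smul_eq_smul (α := E)
        intro e
        have h3 := hf ⟨⁅(y : D), (q.out : D)⁆, hcomm _ y.2 _ q.out.2⟩ e
        have h4 := hf ⟨⁅(y : D), (q'.out : D)⁆, hcomm _ y.2 _ q'.out.2⟩ e
        change ⁅(y : D), (q.out : D)⁆ • e = _ at h3
        change ⁅(y : D), (q'.out : D)⁆ • e = _ at h4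
        rw [h3, h4]
        exact congrArg (· • e) h2
      have h3 : (((q'.out : N) : D))⁻¹ * ((q.out : N) : D) ∈ AF D E F := by
        refine hZ _ (N.mul_mem (N.inv_mem q'.out.2) q.out.2) ?_
        intro y hy
        have h4 := h1 ⟨y⁻¹, N.inv_mem hy⟩
        rw [commutatorElement_def, commutatorElement_def] at h4
        have h5 : ((q.out : N) : D) * y * (((q.out : N) : D))⁻¹ = ((q'.out : N) : D) * y * (((q'.out : N) : D))⁻¹ := by
          have h6 := congrArg (fun t => y * t) h4
          simp only [inv_inv] at h6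
          have e1 : ∀ u : D, y * (y⁻¹ * u * y * u⁻¹) = u * y * u⁻¹ := fun u => by group
          rwa [e1, e1] at h6
        calc (((q'.out : N) : D))⁻¹ * ((q.out : N) : D) * y =
            (((q'.out : N) : D))⁻¹ * (((q.out : N) : D) * y * (((q.out : N) : D))⁻¹) * ((q.out : N) : D) := by group
          _ = (((q'.out : N) : D))⁻¹ * (((q'.out : N) : D) * y * (((q'.out : N) : D))⁻¹) * ((q.out : N) : D) := by
              rw [h5]
          _ = _ := by group
      have h4 : (q'.out : N ⧸ (AF D E F).subgroupOf N) = (q.out : N ⧸ (AF D E F).subgroupOf N) := by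
        rw [QuotientGroup.eq, Subgroup.mem_subgroupOf]
        exact h3
      have h5 : ∀ q : N ⧸ (AF D E F).subgroupOf N, ((q.out : N) : N ⧸ (AF D E F).subgroupOf N) = q :=
        fun q => QuotientGroup.out_eq' q
      rw [← h5 q, ← h5 q', h4]
  let x' : N ⧸ (AF D E F).subgroupOf N → alg E F N := fun q => ⟨x q, ln_mem hN q.out.2⟩
  have hli' : LinearIndependent F x' := by
    apply LinearIndependent.of_comp (alg E F N).val.toLinearMap
    exact hli
  have h1 := hli'.fintype_card_le_finrank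
  have h2 : (AF D E F).relIndex N = Fintype.card (N ⧸ (AF D E F).subgroupOf N) := by
    rw [← Nat.card_eq_fintype_card]
    rfl
  rw [h2]
  exact h1

end Cfsg.Agent.H832.S4790.Lin
end

-- part: H832/S4790/ChainOf
section
/-!
# S4790, T5: the chain of symplectic layers (T1 is a hypothesis)
-/

set_option autoImplicit false
set_option linter.unusedSectionVars false
set_option linter.unusedVariables false

namespace Cfsg.Agent.H832.S4790.ChainOf

open Module Subgroup Cfsg
open Cfsg.Agent.H697.Alm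
open scoped commutatorElement

universe u

variable {D E : Type u} [Group D] [Finite D] [AddCommGroup E] [Finite E] [Nontrivial E] [DistribMulAction D E]
  [FaithfulSMul D E] {F : Type u} [Field F] [Finite F] [Module F E]

/-- one layer, in the group `B` -/
theorem layer {A N B : Subgroup D} (hAN : A ≤ N) (hNB : N ≤ B) (hBA : B ≤ centralizer (A : Set D))
    (hAc : IsCyclic A) (hNn : N.Normal) {r : ℕ} (hr : r.Prime)
    (hexp : ∀ x ∈ N, x ^ r ∈ A) (hcomm : ∀ x ∈ N, ∀ y ∈ N, ⁅x, y⁆ ∈ A)
    (hZ : ∀ x ∈ N, (∀ y ∈ N, x * y = y * x) → x ∈ A) :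
    ∃ j : ℕ, A.relIndex N = r ^ (2 * j) ∧ (B ⊓ centralizer (N : Set D)).relIndex B ≤ Num.S r j := by
  have : Fact r.Prime := ⟨hr⟩
  have h1 : A.subgroupOf B ≤ N.subgroupOf B := fun x hx => hAN hx
  have h2 : A.subgroupOf B ≤ center B := by
    intro a ha
    rw [mem_center_iff]
    intro b
    apply Subtype.ext
    exact ((mem_centralizer_iff.1 (hBA b.2)) a ha).symm
  have h3 : IsCyclic (A.subgroupOf B) := by
    have e := (subgroupOfEquivOfLe (hAN.trans hNB))
    exact isCyclic_of_surjective e.symm e.symm.surjective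
  obtain ⟨j, hj1, hj2⟩ := symp_layer (C := B) h1 h2 h3 (hNn.subgroupOf B) (r := r)
    (fun x hx => hexp x hx) (fun x hx y hy => hcomm x hx y hy)
    (fun x hx hy => hZ x hx fun y hyN => by
      have := hy ⟨y, hNB hyN⟩ hyN
      exact congrArg Subtype.val this)
  refine ⟨j, ?_, ?_⟩
  · rw [← hj1, relIndex_subgroupOf hNB]
  · rw [inf_relIndex_left]
    have e : (centralizer (N : Set D)).relIndex B = (centralizer ((N.subgroupOf B : Subgroup B) : Set B)).index := by
      rw [relIndex]
      congr 1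
      ext x
      rw [mem_subgroupOf, mem_centralizer_iff, mem_centralizer_iff]
      constructor
      · intro h y hy
        apply Subtype.ext
        exact h y hy
      · intro h y hy
        exact congrArg Subtype.val (h ⟨y, hNB hy⟩ hy)
    rw [e]
    exact hj2

theorem chain_of {p : ℕ} (hp : p.Prime) (h23 : 23 ≤ p)
    (T1 : ∀ S T : Subalgebra F (Module.End F E), _root_.Cfsg.Agent.H697.Alm.CSA S → (∀ s ∈ S, ∀ t ∈ T, s * t = t * s) →
      finrank F S * finrank F T ≤ finrank F (S ⊔ T : Subalgebra F (Module.End F E)))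
    (fr : Fr D E F) : ∀ (n : ℕ) (D' : Subgroup D), Nat.card D' = n → D'.Normal → D' ≤ CF D E F → AF D E F ≤ D' →
      (∀ K : Subgroup D, IsComponent K → ¬ K ≤ D') →
    ∃ w : ℕ, 1 ≤ w ∧ w ^ 2 ≤ finrank F (alg E F D') ∧
      (AF D E F).relIndex D' * (p - 1) ≤ p ^ w - 1 := by
  intro n
  induction n using Nat.strong_induction_on with
  | _ n ih =>
    intro D' hn hD' hC hA hcomp
    have hfin : Module.Finite F E := Module.Finite.of_finite
    by_cases hAD : AF D E F = D'
    · refine ⟨1, le_rfl, ?_, ?_⟩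
      · have : 0 < finrank F (alg E F D') := finrank_pos
        rw [one_pow]
        exact this
      · rw [hAD, relIndex_self, one_mul, pow_one]
    have hAD' : AF D E F < D' := lt_of_le_of_ne hA hAD
    have hAn := Lin.AF_normal fr
    obtain ⟨N, hNn, hAN, hND, hcomm, r, hr, hexp⟩ :=
      MinB.exists_min hD' hcomp hAn hAD' (hC.trans Lin.CF_le)
    have hNC : N ≤ CF D E F := hND.trans hC
    -- the centre of `N`
    have hZ : ∀ x ∈ N, (∀ y ∈ N, x * y = y * x) → x ∈ AF D E F := by
      intro x hx hc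
      have hZn : (N ⊓ centralizer (N : Set D)).Normal := inferInstance
      refine Lin.le_AF fr hZn (inf_le_left.trans hNC) ?_ (mem_inf.2 ⟨hx, ?_⟩)
      · intro x hx y hy
        exact (mem_centralizer_iff.1 hx.2 y hy.1).symm
      · rw [mem_centralizer_iff]
        intro y hy
        exact (hc y hy).symm
    obtain ⟨j, hj1, hj2⟩ := layer hAN.le hND (hC.trans Lin.CF_le) Lin.AF_cyclic hNn hr hexp hcomm hZ
    -- the next group
    obtain ⟨B, hB⟩ : ∃ B : Subgroup D, B = D' ⊓ centralizer (N : Set D) := ⟨_, rfl⟩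
    rw [← hB] at hj2
    have hBn : B.Normal := by rw [hB]; infer_instance
    have hBD : B ≤ D' := by rw [hB]; exact inf_le_left
    have hBN : B ≤ centralizer (N : Set D) := by rw [hB]; exact inf_le_right
    have hAB : AF D E F ≤ B := by
      rw [hB]
      refine le_inf hA ?_
      rw [le_centralizer_iff]
      exact hNC.trans Lin.CF_le
    have hBne : B ≠ D' := by
      intro h
      have h1 : N ≤ centralizer (N : Set D) := hND.trans (h ▸ hBN)
      apply hAN.not_ge
      intro x hx
      exact hZ x hx fun y hy => (mem_centralizer_iff.1 (h1 hx) y hy).symm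
    have hlt : Nat.card B < n := by
      rw [← hn]
      exact Set.ncard_lt_ncard (SetLike.coe_ssubset_coe.2 (lt_of_le_of_ne hBD hBne)) (Set.toFinite _)
    obtain ⟨w, hw1, hw2, hw3⟩ := ih _ hlt B rfl hBn (hBD.trans hC) hAB (fun K hK h => hcomp K hK (h.trans hBD))
    refine ⟨r ^ j * w, ?_, ?_, ?_⟩
    · exact Nat.mul_pos (pow_pos hr.pos _) hw1
    · have h1 := Lin.relIndex_le (E := E) (F := F) hNC hcomm hZ
      rw [hj1] at h1
      have h2 := T1 (alg E F N) (alg E F B) (fr.csa N hNn hNC) (Lin.alg_comm fun x hx y hy =>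
        mem_centralizer_iff.1 (hBN hy) x hx)
      have h3 : finrank F (alg E F N ⊔ alg E F B : Subalgebra F (Module.End F E)) ≤ finrank F (alg E F D') := by
        have h4 : alg E F N ⊔ alg E F B ≤ alg E F D' := sup_le (Lin.alg_mono hND) (Lin.alg_mono hBD)
        exact Submodule.finrank_mono (s := Subalgebra.toSubmodule (alg E F N ⊔ alg E F B))
          (t := Subalgebra.toSubmodule (alg E F D')) h4
      calc (r ^ j * w) ^ 2 = r ^ (2 * j) * w ^ 2 := by ring
        _ ≤ finrank F (alg E F N) * finrank F (alg E F B) := Nat.mul_le_mul h1 hw2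
        _ ≤ _ := h2.trans h3
    · have hnum := Num.S_main (j := j) h23 hr.two_le
      have hnum2 := Num.pow_mul_pow (p := p) (u := w) (v := r ^ j) (by omega) (pow_pos hr.pos _)
      have e1 : (AF D E F).relIndex D' = (AF D E F).relIndex B * B.relIndex D' :=
        (relIndex_mul_relIndex _ _ _ hAB hBD).symm
      have hpos : 0 < p - 1 := by omega
      apply Nat.le_of_mul_le_mul_left _ hpos
      calc (p - 1) * ((AF D E F).relIndex D' * (p - 1)) =
          ((AF D E F).relIndex B * (p - 1)) * (B.relIndex D' * (p - 1)) := by rw [e1]; ring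
        _ ≤ (p ^ w - 1) * (Num.S r j * (p - 1)) := Nat.mul_le_mul hw3 (Nat.mul_le_mul_right _ hj2)
        _ ≤ (p ^ w - 1) * (p ^ (r ^ j) - 1) := Nat.mul_le_mul_left _ hnum
        _ ≤ (p - 1) * (p ^ (w * r ^ j) - 1) := hnum2
        _ = _ := by rw [mul_comm w]

end Cfsg.Agent.H832.S4790.ChainOf
end

-- part: H832/S4790/Chain
section
/-!
# S4790, T5: the chain of symplectic layers
-/

set_option autoImplicit false
set_option linter.unusedSectionVars false
set_option linter.unusedVariables false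

namespace Cfsg.Agent.H832.S4790.Chain

open Module Subgroup Cfsg
open Cfsg.Agent.H697.Alm

universe u

variable {D E : Type u} [Group D] [Finite D] [AddCommGroup E] [Finite E] [Nontrivial E] [DistribMulAction D E]
  [FaithfulSMul D E] {F : Type u} [Field F] [Finite F] [Module F E]

/-- **S4790, T5.** A normal subgroup without components between the scalars and the linear elements. -/
theorem chain {p : ℕ} (hp : p.Prime) (h23 : 23 ≤ p) (hpE : ∀ e : E, p • e = 0) (hcop : ¬ p ∣ Nat.card D)
    (fr : Fr D E F) (D' : Subgroup D) [D'.Normal] (hC : D' ≤ CF D E F) (hA : AF D E F ≤ D')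
    (hcomp : ∀ K : Subgroup D, IsComponent K → ¬ K ≤ D') :
    ∃ w : ℕ, 1 ≤ w ∧ w ^ 2 ≤ finrank F (alg E F D') ∧
      (AF D E F).relIndex D' * (p - 1) ≤ p ^ w - 1 := by
  have hfin : Module.Finite F E := Module.Finite.of_finite
  exact ChainOf.chain_of hp h23 (fun S T hS hc => Cfsg.Agent.H311.S4790.LinDisj.lin_disj S T hS hc) fr _ D' rfl
    inferInstance hC hA hcomp

end Cfsg.Agent.H832.S4790.Chain
end

private theorem dce_9450764b0f27 : _root_.True := by
  try have : _root_.True := by simp only [_root_.Cfsg.Agent.H832.S4790.Num.S.eq_1]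
  exact _root_.True.intro
end

section
prune_inst 0xbfa8f93fb8e9dedfff7e7fafd0ddfc19969fffefdff94bbfe02bdf2fdf230209c5638d05e008fe0e86403410a87843fbffc23fe86bdc7ffffd5ff41ffbee0ff5f6b508519488340fbc0ff603f0778e7f000000000000000000000000000000000200000000

-- part: H697/Alm/Str_mg
section
prune_inst 0x4000060047140020000000000400002240000010000400000080009000809004201020800070005131828008000000000010000200000000000000400000100208080000000000100060089000000000000000000000000000000000000000004000000002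
set_option linter.all false
open scoped Cfsg.Agent.FastGrp

-- part: H697/Alm/Bnd
section
/-!
# S4790: the order bound for simple groups (T7, T8)
-/

set_option autoImplicit false

namespace Cfsg.Agent.H697.Alm

universe u

/-- the bound for a simple group needed here -/
def BndT (T : Type u) [Group T] : Prop :=
  ∀ p m : ℕ, p.Prime → 23 ≤ p → ¬ p ∣ Nat.card T → 3 ≤ m → H698.Rep.{u, u} p m T →
    Nat.card (MulAut T) ≤ 6 * p ^ (m - 1)

end Cfsg.Agent.H697.Alm
end

-- part: H164/S4790/StrNum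
section
set_option autoImplicit false

namespace Cfsg.Agent.H164.S4790

/-- `2 ^ k ≤ ∏ w i` -/
theorem two_pow_le_prod {k : ℕ} (w : Fin k → ℕ) (h : ∀ i, 2 ≤ w i) : 2 ^ k ≤ ∏ i, w i := by
  calc 2 ^ k = ∏ _i : Fin k, 2 := by simp only [_root_.Finset.prod_const, _root_.Finset.card_univ, _root_.Fintype.card_fin]
    _ ≤ ∏ i, w i := Finset.prod_le_prod' fun i _ => h i

theorem succ_le_pow23 (k : ℕ) : 6 * (k + 2) ≤ 23 ^ (2 ^ (k + 1) - 1) := by
  induction k with
  | zero => norm_num
  | succ n ih =>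
    have h1 : 2 ^ (n + 1) - 1 + 1 ≤ 2 ^ (n + 1 + 1) - 1 := by
      have : 1 ≤ 2 ^ (n + 1) := Nat.one_le_two_pow
      rw [pow_succ 2 (n + 1)]
      omega
    calc 6 * (n + 1 + 2) ≤ 6 * (n + 2) * 23 := by omega
      _ ≤ 23 ^ (2 ^ (n + 1) - 1) * 23 := Nat.mul_le_mul_right _ ih
      _ = 23 ^ (2 ^ (n + 1) - 1 + 1) := (pow_succ _ _).symm
      _ ≤ _ := Nat.pow_le_pow_right (by norm_num) h1

/-- exponents -/
theorem exp_identity {W w : ℕ} (hW : 1 ≤ W) (hw : 1 ≤ w) : (W - 1) + (w - 1) + (W - 1) * (w - 1) = W * w - 1 := by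
  obtain ⟨a, rfl⟩ : ∃ a, W = a + 1 := ⟨W - 1, by omega⟩
  obtain ⟨b, rfl⟩ : ∃ b, w = b + 1 := ⟨w - 1, by omega⟩
  simp only [Nat.add_sub_cancel]
  have : (a + 1) * (b + 1) = a * b + a + b + 1 := by ring
  omega

theorem prod_step {p k W w X B : ℕ} (h23 : 23 ≤ p) (hW : 2 ^ (k + 1) ≤ W) (hw : 2 ≤ w) (hX : X ≤ 6 * p ^ (W - 1))
    (hB : B ≤ 6 * p ^ (w - 1)) : (k + 2) * (X * B) ≤ 6 * p ^ (W * w - 1) := by
  have h2 : 2 ^ (k + 1) - 1 ≤ (W - 1) * (w - 1) := by
    calc 2 ^ (k + 1) - 1 ≤ W - 1 := by omega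
      _ = (W - 1) * 1 := (mul_one _).symm
      _ ≤ (W - 1) * (w - 1) := Nat.mul_le_mul_left _ (by omega)
  have h3 : 6 * (k + 2) ≤ p ^ ((W - 1) * (w - 1)) := by
    calc 6 * (k + 2) ≤ 23 ^ (2 ^ (k + 1) - 1) := succ_le_pow23 k
      _ ≤ 23 ^ ((W - 1) * (w - 1)) := Nat.pow_le_pow_right (by norm_num) h2
      _ ≤ p ^ ((W - 1) * (w - 1)) := Nat.pow_le_pow_left h23 _
  have h4 : 1 ≤ W := le_trans Nat.one_le_two_pow hW
  calc (k + 2) * (X * B) ≤ (k + 2) * ((6 * p ^ (W - 1)) * (6 * p ^ (w - 1))) :=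
        Nat.mul_le_mul_left _ (Nat.mul_le_mul hX hB)
    _ = 6 * (p ^ (W - 1) * p ^ (w - 1) * (6 * (k + 2))) := by ring
    _ ≤ 6 * (p ^ (W - 1) * p ^ (w - 1) * p ^ ((W - 1) * (w - 1))) :=
        Nat.mul_le_mul_left _ (Nat.mul_le_mul_left _ h3)
    _ = 6 * p ^ (W * w - 1) := by rw [← pow_add, ← pow_add, exp_identity h4 (by omega)]

theorem prod_le {p : ℕ} (h23 : 23 ≤ p) (k : ℕ) (w B : Fin (k + 1) → ℕ) (hw : ∀ i, 2 ≤ w i)
    (hB : ∀ i, B i ≤ 6 * p ^ (w i - 1)) : (k + 1).factorial * ∏ i, B i ≤ 6 * p ^ ((∏ i, w i) - 1) := by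
  induction k with
  | zero =>
    have h1 : ∏ i : Fin (0 + 1), B i = B 0 := Fin.prod_univ_one B
    have h2 : ∏ i : Fin (0 + 1), w i = w 0 := Fin.prod_univ_one w
    have h3 : (0 + 1).factorial = 1 := rfl
    rw [h1, h2, h3, one_mul]
    exact hB 0
  | succ n ih =>
    rw [Fin.prod_univ_castSucc, Fin.prod_univ_castSucc (f := w)]
    have h1 := ih (fun i => w i.castSucc) (fun i => B i.castSucc) (fun i => hw _) (fun i => hB _)
    have h2 := two_pow_le_prod (fun i : Fin (n + 1) => w i.castSucc) (fun i => hw _)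
    have h3 := prod_step (k := n) h23 h2 (hw (Fin.last _)) h1 (hB (Fin.last _))
    calc (n + 1 + 1).factorial * ((∏ i : Fin (n + 1), B i.castSucc) * B (Fin.last (n + 1)))
        = (n + 2) * (((n + 1).factorial * ∏ i : Fin (n + 1), B i.castSucc) * B (Fin.last (n + 1))) := by
          rw [Nat.factorial_succ (n + 1)]; ring
      _ ≤ _ := h3

/-- `b ≤ 6 p ^ (m - 1)` from `b (p - 1) ≤ p ^ m - 1` -/
theorem le_of_mul_le {p m b : ℕ} (h23 : 23 ≤ p) (hm : 1 ≤ m) (h : b * (p - 1) ≤ p ^ m - 1) : b ≤ 6 * p ^ (m - 1) := by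
  obtain ⟨n, rfl⟩ : ∃ n, m = n + 1 := ⟨m - 1, by omega⟩
  obtain ⟨s, rfl⟩ : ∃ s, p = s + 1 := ⟨p - 1, by omega⟩
  simp only [Nat.add_sub_cancel] at *
  have h1 : b * s ≤ (6 * (s + 1) ^ n) * s := by
    calc b * s ≤ (s + 1) ^ (n + 1) := h.trans (Nat.sub_le _ _)
      _ = (s + 1) ^ n * (s + 1) := pow_succ _ _
      _ ≤ (s + 1) ^ n * (6 * s) := Nat.mul_le_mul_left _ (by omega)
      _ = _ := by ring
  exact Nat.le_of_mul_le_mul_right h1 (by omega)

/-- case `w₀ ≥ 2` -/
theorem case_ge {p W w0 m b b0 P : ℕ} (h23 : 23 ≤ p) (hW : 2 ≤ W) (hw0 : 2 ≤ w0) (hm : W * w0 ≤ m)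
    (hP : P ≤ 6 * p ^ (W - 1)) (hb0 : b0 * (p - 1) ≤ p ^ w0 - 1) (hb : b ≤ b0 * P) :
    b * (p - 1) ≤ p ^ m - 1 := by
  have h1 : W + w0 ≤ W * w0 := by
    obtain ⟨a, rfl⟩ : ∃ a, W = a + 2 := ⟨W - 2, by omega⟩
    obtain ⟨c, rfl⟩ : ∃ c, w0 = c + 2 := ⟨w0 - 2, by omega⟩
    have : (a + 2) * (c + 2) = a * c + 2 * a + 2 * c + 4 := by ring
    have h2 : 0 ≤ a * c := Nat.zero_le _
    omega
  have hp : 1 ≤ p := by omega
  have h2 : p ^ (W + w0) ≤ p ^ m := Nat.pow_le_pow_right hp (h1.trans hm)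
  have h3 : p ^ (W + w0) = p * (p ^ (W - 1) * p ^ w0) := by
    rw [← pow_add, ← pow_succ']
    congr 1
    omega
  have h4 : b * (p - 1) ≤ 6 * (p ^ (W - 1) * p ^ w0) := by
    calc b * (p - 1) ≤ b0 * P * (p - 1) := Nat.mul_le_mul_right _ hb
      _ = P * (b0 * (p - 1)) := by ring
      _ ≤ (6 * p ^ (W - 1)) * (p ^ w0) := Nat.mul_le_mul hP (hb0.trans (Nat.sub_le _ _))
      _ = _ := by ring
  have h5 : 0 < p ^ (W - 1) * p ^ w0 := Nat.mul_pos (Nat.pow_pos (by omega)) (Nat.pow_pos (by omega))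
  have h6 : 6 * (p ^ (W - 1) * p ^ w0) + 1 ≤ p * (p ^ (W - 1) * p ^ w0) := by nlinarith only [h23, h5]
  omega

/-- case `w₀ = 1`, `W < m` -/
theorem case_lt {p W m b : ℕ} (h23 : 23 ≤ p) (hW : 1 ≤ W) (hm : W < m) (hb : b ≤ 6 * p ^ (W - 1)) :
    b * (p - 1) ≤ p ^ m - 1 := by
  have hp : 1 ≤ p := by omega
  have h2 : p ^ (W + 1) ≤ p ^ m := Nat.pow_le_pow_right hp hm
  have h3 : p ^ (W + 1) = p * (p * p ^ (W - 1)) := by
    rw [← pow_succ', ← pow_succ']
    congr 1
    omega
  have h4 : b * (p - 1) ≤ 6 * p ^ (W - 1) * p := Nat.mul_le_mul hb (Nat.sub_le _ _)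
  have h5 : 0 < p ^ (W - 1) := Nat.pow_pos (by omega)
  have h6 : 6 * p ^ (W - 1) * p + 1 ≤ p * (p * p ^ (W - 1)) := by
    have : 6 * p ^ (W - 1) * p = 6 * (p * p ^ (W - 1)) := by ring
    rw [this]
    have h7 : 0 < p * p ^ (W - 1) := Nat.mul_pos (by omega) h5
    nlinarith only [h23, h7]
  omega

theorem thirtysix_le (k : ℕ) : 36 * (k + 3) ≤ 23 ^ (2 ^ (k + 2) - 1) := by
  induction k with
  | zero => norm_num
  | succ n ih =>
    have h1 : 2 ^ (n + 2) - 1 + 1 ≤ 2 ^ (n + 1 + 2) - 1 := by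
      have : 1 ≤ 2 ^ (n + 2) := Nat.one_le_two_pow
      rw [show n + 1 + 2 = n + 2 + 1 by ring, pow_succ 2 (n + 2)]
      omega
    calc 36 * (n + 1 + 3) ≤ 36 * (n + 3) * 23 := by omega
      _ ≤ 23 ^ (2 ^ (n + 2) - 1) * 23 := Nat.mul_le_mul_right _ ih
      _ = 23 ^ (2 ^ (n + 2) - 1 + 1) := (pow_succ _ _).symm
      _ ≤ _ := Nat.pow_le_pow_right (by norm_num) h1

/-- case `k ≥ 2`, `w₀ = 1`, `m = W` -/
theorem case_many {p : ℕ} (h23 : 23 ≤ p) (k : ℕ) (w B : Fin (k + 2) → ℕ) (hw : ∀ i, 2 ≤ w i)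
    (hB : ∀ i, B i ≤ 6 * p ^ (w i - 1)) (b : ℕ) (hb : b ≤ (k + 2).factorial * ∏ i, B i) :
    b * (p - 1) ≤ p ^ (∏ i, w i) - 1 ∨ (k = 0 ∧ ∀ i, w i = 2) := by
  rw [Fin.prod_univ_castSucc] at hb
  rw [Fin.prod_univ_castSucc]
  have h1 := prod_le h23 k (fun i => w i.castSucc) (fun i => B i.castSucc) (fun i => hw _) (fun i => hB _)
  have h2 := two_pow_le_prod (fun i : Fin (k + 1) => w i.castSucc) (fun i => hw _)
  set W := ∏ i : Fin (k + 1), w i.castSucc with hWd
  set v := w (Fin.last (k + 1)) with hv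
  have hv2 : 2 ≤ v := hw _
  have hp : 1 ≤ p := by omega
  have hW2 : 2 ≤ W := le_trans (by rw [pow_succ]; have := Nat.one_le_two_pow (n := k); omega) h2
  have h3 : b ≤ (36 * (k + 2)) * (p ^ (W - 1) * p ^ (v - 1)) := by
    calc b ≤ (k + 2).factorial * ((∏ i : Fin (k + 1), B i.castSucc) * B (Fin.last (k + 1))) := hb
      _ = (k + 2) * (((k + 1).factorial * ∏ i : Fin (k + 1), B i.castSucc) * B (Fin.last (k + 1))) := by
          rw [Nat.factorial_succ (k + 1)]; ring
      _ ≤ (k + 2) * ((6 * p ^ (W - 1)) * (6 * p ^ (v - 1))) :=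
          Nat.mul_le_mul_left _ (Nat.mul_le_mul h1 (hB _))
      _ = _ := by ring
  have key : 36 * (k + 2) ≤ p ^ ((W - 1) * (v - 1)) → b * (p - 1) ≤ p ^ (W * v) - 1 := by
    intro h
    have h4 : p ^ (W * v) = p * (p ^ (W - 1) * p ^ (v - 1) * p ^ ((W - 1) * (v - 1))) := by
      rw [← pow_add, ← pow_add, exp_identity (by omega) (by omega), ← pow_succ']
      congr 1
      have : 1 ≤ W * v := Nat.mul_pos (by omega) (by omega)
      omega
    have h5 : b ≤ p ^ (W - 1) * p ^ (v - 1) * p ^ ((W - 1) * (v - 1)) := by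
      calc b ≤ (36 * (k + 2)) * (p ^ (W - 1) * p ^ (v - 1)) := h3
        _ ≤ p ^ ((W - 1) * (v - 1)) * (p ^ (W - 1) * p ^ (v - 1)) := Nat.mul_le_mul_right _ h
        _ = _ := by ring
    have h6 : 0 < p ^ (W - 1) * p ^ (v - 1) * p ^ ((W - 1) * (v - 1)) :=
      Nat.mul_pos (Nat.mul_pos (Nat.pow_pos (by omega)) (Nat.pow_pos (by omega))) (Nat.pow_pos (by omega))
    rw [h4]
    set Q := p ^ (W - 1) * p ^ (v - 1) * p ^ ((W - 1) * (v - 1))
    have h7 : b * (p - 1) ≤ Q * (p - 1) := Nat.mul_le_mul_right _ h5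
    have h8 : Q * (p - 1) + Q = p * Q := by
      obtain ⟨s, rfl⟩ : ∃ s, p = s + 1 := ⟨p - 1, by omega⟩
      simp only [Nat.add_sub_cancel]
      ring
    omega
  rcases Nat.eq_zero_or_pos k with hk | hk
  · subst hk
    by_cases hx : 2 ≤ (W - 1) * (v - 1)
    · left
      apply key
      calc 36 * (0 + 2) ≤ 23 ^ 2 := by norm_num
        _ ≤ 23 ^ ((W - 1) * (v - 1)) := Nat.pow_le_pow_right (by norm_num) hx
        _ ≤ p ^ ((W - 1) * (v - 1)) := Nat.pow_le_pow_left h23 _
    · right
      have h4 : (W - 1) * (v - 1) = 1 := by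
        have : 0 < (W - 1) * (v - 1) := Nat.mul_pos (by omega) (by omega)
        omega
      have h5 : W - 1 = 1 := Nat.eq_one_of_mul_eq_one_right h4
      have h6 : v - 1 = 1 := Nat.eq_one_of_mul_eq_one_left h4
      have hW' : W = w 0 := by
        rw [hWd]; simp
      refine ⟨rfl, fun i => ?_⟩
      fin_cases i
      · change w 0 = 2
        omega
      · change w (Fin.last 1) = 2
        change w (Fin.last (0 + 1)) = 2
        omega
  · left
    apply key
    obtain ⟨n, rfl⟩ : ∃ n, k = n + 1 := ⟨k - 1, by omega⟩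
    have h4 : 2 ^ (n + 2) - 1 ≤ (W - 1) * (v - 1) := by
      calc 2 ^ (n + 2) - 1 ≤ W - 1 := by
            have : 2 ^ (n + 1 + 1) ≤ W := h2
            have h' : n + 1 + 1 = n + 2 := by ring
            rw [h'] at this
            omega
        _ = (W - 1) * 1 := (mul_one _).symm
        _ ≤ (W - 1) * (v - 1) := Nat.mul_le_mul_left _ (by omega)
    calc 36 * (n + 1 + 2) = 36 * (n + 3) := by ring
      _ ≤ 23 ^ (2 ^ (n + 2) - 1) := thirtysix_le n
      _ ≤ 23 ^ ((W - 1) * (v - 1)) := Nat.pow_le_pow_right (by norm_num) h4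
      _ ≤ p ^ ((W - 1) * (v - 1)) := Nat.pow_le_pow_left h23 _

end Cfsg.Agent.H164.S4790
end

-- part: H164/S4790/Str
section
/-!
# S4790, T7: the structure of `CF`

`str_of` : the statement `str` from the conclusions of `chain` and `comps`.
-/

set_option autoImplicit false

open Cfsg Module Subgroup

namespace Cfsg.Agent.H164.S4790

open Cfsg.Agent.H697.Alm Cfsg.Agent.SignalizersComponents.Components

universe u

section

variable {D E : Type u} [Group D] [AddCommGroup E] [DistribMulAction D E] {F : Type u} [Field F] [Module F E]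

theorem CF_normal (fr : Fr D E F) : (CF D E F).Normal := by
  refine ⟨fun g hg d c e => ?_⟩
  obtain ⟨c', hc'⟩ := fr.norm d⁻¹ c
  have h1 : ∀ e : E, c • e = d • (c' • (d⁻¹ • e)) := fun e => by
    rw [← hc', smul_inv_smul]
  calc (d * g * d⁻¹) • (c • e) = d • (g • (d⁻¹ • (c • e))) := by rw [mul_smul, mul_smul]
    _ = d • (c' • (g • (d⁻¹ • e))) := by rw [hc', hg]
    _ = c • ((d * g * d⁻¹) • e) := by
        rw [h1, mul_smul, mul_smul, inv_smul_smul]

theorem AF_le_CF : AF D E F ≤ CF D E F := by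
  rintro a ⟨c, hc⟩ c' e
  rw [hc, hc, smul_comm]

theorem AF_normal (fr : Fr D E F) : (AF D E F).Normal := by
  refine ⟨?_⟩
  rintro a ⟨c, hc⟩ d
  obtain ⟨c', hc'⟩ := fr.norm d c
  refine ⟨c', fun e => ?_⟩
  rw [mul_smul, mul_smul, hc, hc', smul_inv_smul]

theorem AF_comm [FaithfulSMul D E] {a g : D} (ha : a ∈ AF D E F) (hg : g ∈ CF D E F) : a * g = g * a := by
  obtain ⟨c, hc⟩ := ha
  apply FaithfulSMul.eq_of_smul_eq_smul (α := E)
  intro e
  rw [mul_smul, mul_smul, hc, hc, hg]

end

/-- the simple quotient of a component -/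
theorem quot_nonab {G : Type*} [Group G] {K : Subgroup G} (hK : IsComponent K) :
    IsSimpleGroup (K ⧸ center K) ∧ ¬ IsMulCommutative (K ⧸ center K) := by
  refine ⟨hK.2.2, fun hc => ?_⟩
  have hs : IsSimpleGroup (K ⧸ center K) := hK.2.2
  have h1 : commutator K = ⊤ := hK.2.1.commutator_eq_top
  have h2 : commutator K ≤ center K := by
    rw [commutator_def, Subgroup.commutator_le]
    intro x _ y _
    rw [← QuotientGroup.eq_one_iff, commutatorElement_def]
    have h3 : (x : K ⧸ center K) * (y : K ⧸ center K) = y * x := hc.is_comm.comm _ _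
    rw [QuotientGroup.mk_mul, QuotientGroup.mk_mul, QuotientGroup.mk_mul, QuotientGroup.mk_inv, QuotientGroup.mk_inv,
      h3]
    group
  rw [h1, top_le_iff] at h2
  obtain ⟨a, b, hab⟩ := exists_pair_ne (K ⧸ center K)
  apply hab
  obtain ⟨a, rfl⟩ := QuotientGroup.mk_surjective a
  obtain ⟨b, rfl⟩ := QuotientGroup.mk_surjective b
  rw [QuotientGroup.eq, h2]
  exact mem_top _

theorem comp_ne {G : Type*} [Group G] {K : Subgroup G} (hK : IsComponent K) (h : K ≤ centralizer (K : Set G)) : False := by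
  obtain ⟨h1, h2⟩ := quot_nonab hK
  apply h2
  refine ⟨⟨fun a b => ?_⟩⟩
  obtain ⟨a, rfl⟩ := QuotientGroup.mk_surjective a
  obtain ⟨b, rfl⟩ := QuotientGroup.mk_surjective b
  have h3 : a * b = b * a := Subtype.ext ((mem_centralizer_iff.1 (h b.2)) _ a.2)
  rw [← QuotientGroup.mk_mul, ← QuotientGroup.mk_mul, h3]

theorem normal_of_unique {G : Type*} [Group G] {K : Subgroup G} (hK : IsComponent K)
    (hu : ∀ K' : Subgroup G, IsComponent K' → K = K') : K.Normal := by
  refine ⟨fun x hx g => ?_⟩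
  rw [hu _ (isComponent_conj g hK)]
  exact ⟨x, hx, rfl⟩

variable {D E : Type u} [Group D] [Finite D] [AddCommGroup E] [Finite E] [Nontrivial E] [DistribMulAction D E]
  [FaithfulSMul D E] {F : Type u} [Field F] [Finite F] [Module F E]

omit [Finite D] [Finite E] [Nontrivial E] [Finite F] in
/-- `60` divides the index of the scalars -/
theorem sixty_dvd (fr : Fr D E F) {K : Subgroup D} (hK : K ≤ CF D E F)
    (h60 : Nat.card (K ⧸ center K) = 60) : 60 ∣ (AF D E F).relIndex (CF D E F) := by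
  have hn := AF_normal fr
  have h1 : (AF D E F).relIndex (K ⊔ AF D E F) * (K ⊔ AF D E F).relIndex (CF D E F) =
      (AF D E F).relIndex (CF D E F) := relIndex_mul_relIndex _ _ _ le_sup_right (sup_le hK AF_le_CF)
  rw [← h1, relIndex_sup_right]
  refine Dvd.dvd.mul_right ?_ _
  rw [← h60]
  refine index_dvd_of_le ?_
  intro x hx
  rw [mem_subgroupOf] at hx
  rw [mem_center_iff]
  intro y
  apply Subtype.ext
  exact (AF_comm hx (hK y.2)).symm

theorem str_of {p m : ℕ} (hp : p.Prime) (h23 : 23 ≤ p) (hcop : ¬ p ∣ Nat.card D)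
    (fr : Fr D E F) (hm : finrank F E = m)
    (hB : ∀ (T : Type u) [Group T] [Finite T] [IsSimpleGroup T], ¬ IsMulCommutative T →
      ∀ p m : ℕ, p.Prime → 23 ≤ p → ¬ p ∣ Nat.card T → 3 ≤ m → H698.Rep.{u, u} p m T →
        Nat.card (MulAut T) ≤ 6 * p ^ (m - 1))
    (hT : ∀ (T : Type u) [Group T] [Finite T] [IsSimpleGroup T], ¬ IsMulCommutative T → H698.Rep.{u, u} p 2 T →
      Nat.card T = 60 ∧ Nat.card (MulAut T) ≤ 120)
    (hchain : ∀ (D' : Subgroup D) [D'.Normal], D' ≤ CF D E F → AF D E F ≤ D' →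
      (∀ K : Subgroup D, IsComponent K → ¬ K ≤ D') →
      ∃ w : ℕ, 1 ≤ w ∧ w ^ 2 ≤ finrank F (alg E F D') ∧ (AF D E F).relIndex D' * (p - 1) ≤ p ^ w - 1)
    (hcomps : ∃ (k : ℕ) (K : Fin k → Subgroup D) (w : Fin k → ℕ), Function.Injective K ∧ (∀ i, IsComponent (K i)) ∧
      (∀ K' : Subgroup D, IsComponent K' → ∃ i, K i = K') ∧ (∀ i, K i ≤ CF D E F) ∧ (∀ i, 2 ≤ w i) ∧
      (∀ i, H698.Rep.{u, u} p (w i) (K i ⧸ Subgroup.center (K i))) ∧
      (∏ i, w i) ^ 2 * finrank F (alg E F (CF D E F ⊓ Subgroup.centralizer ((⨆ i, K i : Subgroup D) : Set D))) ≤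
        finrank F E ^ 2 ∧
      (CF D E F ⊓ Subgroup.centralizer ((⨆ i, K i : Subgroup D) : Set D)).relIndex (CF D E F) ≤
        k.factorial * ∏ i, Nat.card (MulAut (K i ⧸ Subgroup.center (K i)))) :
    (m = 1 → CF D E F = AF D E F) ∧ (AF D E F).relIndex (CF D E F) ≤ 6 * p ^ (m - 1) ∧
      ((AF D E F).relIndex (CF D E F) * (p - 1) ≤ p ^ m - 1 ∨
        (3 ≤ m ∧ ∃ K : Subgroup D, IsComponent K ∧ K.Normal ∧ H698.Rep.{u, u} p m (K ⧸ Subgroup.center K) ∧
          CF D E F ⊓ Subgroup.centralizer (K : Set D) = AF D E F) ∨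
        (m = 2 ∧ ∃ K : Subgroup D, IsComponent K) ∨
        (m = 4 ∧ (AF D E F).relIndex (CF D E F) ≤ 28800 ∧ 15 ∣ (AF D E F).relIndex (CF D E F))) := by
  obtain ⟨k, K, w, hinj, hcomp, hall, hKC, hw2, hrep, hdim, hidx⟩ := hcomps
  -- the centralizer of the layer
  have hL : (⨆ i, K i : Subgroup D) = layer D := by
    apply le_antisymm
    · exact iSup_le fun i => le_sSup (hcomp i)
    · refine sSup_le fun K' hK' => ?_
      obtain ⟨i, rfl⟩ := hall K' hK'
      exact le_iSup K i
  have hCn := CF_normal fr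
  have hLn : (⨆ i, K i : Subgroup D).Normal := by rw [hL]; exact layer_normal D
  set L : Subgroup D := ⨆ i, K i with hLdef
  set C := CF D E F with hC
  set A := AF D E F with hA
  have hLC : L ≤ C := iSup_le hKC
  have hDn : (C ⊓ centralizer (L : Set D)).Normal := inferInstance
  have hAD : A ≤ C ⊓ centralizer (L : Set D) := by
    refine le_inf AF_le_CF fun a ha => ?_
    rw [mem_centralizer_iff]
    intro l hl
    exact (AF_comm ha (hLC hl)).symm
  obtain ⟨w0, hw01, hw0d, hb0⟩ := hchain (C ⊓ centralizer (L : Set D)) inf_le_left hAD (fun K' hK' hle => by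
    have h1 : K' ≤ L := by
      obtain ⟨i, rfl⟩ := hall K' hK'
      exact le_iSup K i
    exact comp_ne hK' ((hle.trans inf_le_right).trans (centralizer_le h1)))
  set D' := C ⊓ centralizer (L : Set D) with hD'
  set b0 := A.relIndex D' with hb0d
  set b := A.relIndex C with hbd
  have hbm : b = b0 * D'.relIndex C := (relIndex_mul_relIndex A D' C hAD inf_le_left).symm
  have hbpos : 0 < b0 := Nat.pos_of_ne_zero (by
    rw [hb0d]; exact index_ne_zero_of_finite)
  have hDpos : 0 < D'.relIndex C := Nat.pos_of_ne_zero index_ne_zero_of_finite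
  -- dimensions
  have hWw : (∏ i, w i) * w0 ≤ m := by
    have h1 : ((∏ i, w i) * w0) ^ 2 ≤ m ^ 2 := by
      rw [mul_pow, ← hm]
      exact (Nat.mul_le_mul_left _ hw0d).trans hdim
    exact (Nat.pow_le_pow_iff_left two_ne_zero).1 h1
  -- the factors
  have hcardT : ∀ i, ¬ p ∣ Nat.card (K i ⧸ center (K i)) := fun i h =>
    hcop ((h.trans (card_quotient_dvd_card _)).trans (card_subgroup_dvd_card _))
  have h120 : ∀ i, w i = 2 → Nat.card (K i ⧸ center (K i)) = 60 ∧ Nat.card (MulAut (K i ⧸ center (K i))) ≤ 120 := by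
    intro i hi
    obtain ⟨hs, hna⟩ := quot_nonab (hcomp i)
    exact hT _ hna (hi ▸ hrep i)
  have hBi : ∀ i, Nat.card (MulAut (K i ⧸ center (K i))) ≤ 6 * p ^ (w i - 1) := by
    intro i
    rcases Nat.lt_or_ge (w i) 3 with h3 | h3
    · have h2 : w i = 2 := by have := hw2 i; omega
      have h4 := (h120 i h2).2
      rw [h2]
      simp only [Nat.reduceSub, pow_one]
      omega
    · obtain ⟨hs, hna⟩ := quot_nonab (hcomp i)
      exact hB _ hna p (w i) hp h23 (hcardT i) h3 (hrep i)
  have hp1 : 0 < p - 1 := by omega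
  have hw0one : w0 = 1 → D' = A := by
    intro h
    have h1 : b0 * (p - 1) ≤ 1 * (p - 1) := by
      rw [h, pow_one] at hb0
      omega
    have h2 : b0 ≤ 1 := Nat.le_of_mul_le_mul_right h1 hp1
    have h3 : b0 = 1 := by omega
    exact le_antisymm (relIndex_eq_one.1 h3) hAD
  have hw0b : w0 = 1 → b0 = 1 := fun h => by
    rw [hb0d, hw0one h]
    exact relIndex_self _
  rcases k with _ | _ | n
  · -- no components
    have h1 : D'.relIndex C = 1 := by
      simp only [Nat.factorial_zero, Finset.univ_eq_empty, Finset.prod_empty, mul_one] at hidx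
      omega
    have h2 : (∏ i : Fin 0, w i) = 1 := by simp
    rw [h2, one_mul] at hWw
    rw [h1, mul_one] at hbm
    have h3 : b * (p - 1) ≤ p ^ m - 1 := by
      rw [hbm]
      exact hb0.trans (Nat.sub_le_sub_right (Nat.pow_le_pow_right (by omega) hWw) _)
    refine ⟨fun h => ?_, le_of_mul_le h23 (by omega) h3, Or.inl h3⟩
    have h4 : w0 = 1 := by omega
    refine le_antisymm ?_ AF_le_CF
    rw [← hw0one h4]
    exact relIndex_eq_one.1 h1
  · -- one component
    have hss : Subsingleton (Fin (0 + 1)) := inferInstanceAs (Subsingleton (Fin 1))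
    have h1 : (∏ i : Fin (0 + 1), w i) = w 0 := Fin.prod_univ_one w
    rw [h1] at hWw
    have hW2 := hw2 0
    have h3 : b ≤ b0 * Nat.card (MulAut (K 0 ⧸ center (K 0))) := by
      rw [hbm]
      refine Nat.mul_le_mul_left _ (hidx.trans ?_)
      have h4 : (∏ i : Fin (0 + 1), Nat.card (MulAut (K i ⧸ center (K i)))) = Nat.card (MulAut (K 0 ⧸ center (K 0))) :=
        Fin.prod_univ_one _
      rw [h4]
      simp only [_root_.zero_add, _root_.Nat.factorial_one, _root_.Fin.isValue, _root_.one_mul, _root_.Std.le_refl]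
    rcases Nat.lt_or_ge w0 2 with hw | hw
    · have hw1 : w0 = 1 := by omega
      rw [hw0b hw1, one_mul] at h3
      rw [hw1, mul_one] at hWw
      have h4 := h3.trans (hBi 0)
      have h5 : 2 ≤ m := hW2.trans hWw
      refine ⟨fun h => by omega, h4.trans (Nat.mul_le_mul_left _ (Nat.pow_le_pow_right (by omega) (by omega))), ?_⟩
      rcases Nat.lt_or_ge (w 0) m with h6 | h6
      · exact Or.inl (case_lt h23 (by omega) h6 h4)
      · have h7 : w 0 = m := le_antisymm hWw h6
        rcases Nat.lt_or_ge m 3 with h8 | h8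
        · exact Or.inr (Or.inr (Or.inl ⟨by omega, K 0, hcomp 0⟩))
        · refine Or.inr (Or.inl ⟨h8, K 0, hcomp 0, ?_, h7 ▸ hrep 0, ?_⟩)
          · refine normal_of_unique (hcomp 0) fun K' hK' => ?_
            obtain ⟨i, hi⟩ := hall K' hK'
            rw [← hi, Subsingleton.elim i 0]
          · rw [← hw0one hw1, hD']
            have h9 : L = K 0 := by
              rw [hLdef]
              apply le_antisymm
              · exact iSup_le fun i => by rw [Subsingleton.elim i 0]
              · exact le_iSup K 0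
            rw [h9]
    · have h4 := case_ge h23 hW2 hw hWw (hBi 0) hb0 h3
      have h5 : 1 ≤ m := le_trans (by have : 1 ≤ w 0 * w0 := Nat.mul_pos (by omega) (by omega); exact this) hWw
      refine ⟨fun h => ?_, le_of_mul_le h23 h5 h4, Or.inl h4⟩
      have : 2 * 2 ≤ w 0 * w0 := Nat.mul_le_mul hW2 hw
      omega
  · -- several components
    have h3 : b ≤ b0 * ((n + 2).factorial * ∏ i, Nat.card (MulAut (K i ⧸ center (K i)))) := by
      rw [hbm]
      exact Nat.mul_le_mul_left _ hidx
    have hP := prod_le h23 (n + 1) w (fun i => Nat.card (MulAut (K i ⧸ center (K i)))) hw2 hBi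
    have hW := two_pow_le_prod w hw2
    have hW2 : 2 ≤ ∏ i, w i := le_trans (by rw [pow_succ]; have := Nat.one_le_two_pow (n := n + 1); omega) hW
    rcases Nat.lt_or_ge w0 2 with hw | hw
    · have hw1 : w0 = 1 := by omega
      rw [hw0b hw1, one_mul] at h3
      rw [hw1, mul_one] at hWw
      have h4 : b ≤ 6 * p ^ ((∏ i, w i) - 1) := h3.trans hP
      have h5 : 2 ≤ m := hW2.trans hWw
      refine ⟨fun h => by omega, h4.trans (Nat.mul_le_mul_left _ (Nat.pow_le_pow_right (by omega) (by omega))), ?_⟩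
      rcases Nat.lt_or_ge (∏ i, w i) m with h6 | h6
      · exact Or.inl (case_lt h23 (by omega) h6 h4)
      · have h7 : (∏ i, w i) = m := le_antisymm hWw h6
        rcases case_many h23 n w (fun i => Nat.card (MulAut (K i ⧸ center (K i)))) hw2 hBi b h3 with h8 | ⟨rfl, h8⟩
        · rw [h7] at h8
          exact Or.inl h8
        · refine Or.inr (Or.inr (Or.inr ⟨?_, ?_, ?_⟩))
          · rw [← h7]
            calc (∏ i : Fin (0 + 1 + 1), w i) = ∏ _i : Fin (0 + 1 + 1), 2 := Finset.prod_congr rfl fun i _ => h8 i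
              _ = 4 := by simp
          · refine h3.trans ?_
            rw [Fin.prod_univ_two]
            have e1 := (h120 0 (h8 0)).2
            have e2 := (h120 1 (h8 1)).2
            have e3 : (0 + 2).factorial = 2 := rfl
            rw [e3]
            have e4 := Nat.mul_le_mul e1 e2
            omega
          · exact (show 15 ∣ 60 by norm_num).trans (sixty_dvd fr (hKC 0) (h120 0 (h8 0)).1)
    · have h4 := case_ge h23 hW2 hw hWw hP hb0 h3
      have h5 : 1 ≤ m := le_trans (by have : 1 ≤ (∏ i, w i) * w0 := Nat.mul_pos (by omega) (by omega); exact this) hWw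
      refine ⟨fun h => ?_, le_of_mul_le h23 h5 h4, Or.inl h4⟩
      have : 2 * 2 ≤ (∏ i, w i) * w0 := Nat.mul_le_mul hW2 hw
      omega

end Cfsg.Agent.H164.S4790
end

-- part: H984/S4790/MatAlg
section
/-!
# Semisimple algebras of matrices with scalar centre over a finite field (helper984, for S4790)
-/

set_option autoImplicit false

namespace Cfsg.Agent.H984.S4790

open Cfsg.Agent.H697.Alm Module
open scoped Pointwise

universe u v w

section

variable {F : Type w} [Field F] [Finite F] {S : Type w} [Ring S] [Algebra F S]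

/-- **a finite semisimple algebra over a finite field with centre `F` is a matrix algebra over `F`** -/
theorem exists_matrix [Finite S] [Nontrivial S] [IsSemisimpleRing S]
    (hcen : ∀ x : S, (∀ y : S, x * y = y * x) → ∃ c : F, x = algebraMap F S c) :
    ∃ d : ℕ, 1 ≤ d ∧ Nonempty (S ≃ₐ[F] Matrix (Fin d) (Fin d) F) := by
  classical
  have : Module.Finite F S := Module.Finite.of_finite
  obtain ⟨n, D, d, _, _, _, hd, ⟨e⟩⟩ := IsSemisimpleRing.exists_algEquiv_pi_matrix_divisionRing_finite F S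
  have hfinD : ∀ i, Finite (D i) := fun i => Module.finite_of_finite F
  -- central elements of the product
  have hcen' : ∀ x : (Π i, Matrix (Fin (d i)) (Fin (d i)) (D i)), (∀ y, x * y = y * x) →
      ∃ c : F, x = algebraMap F _ c := by
    intro x hx
    obtain ⟨c, hc⟩ := hcen (e.symm x) fun y => by
      apply e.injective
      rw [map_mul, map_mul, e.apply_symm_apply]
      exact hx _
    refine ⟨c, ?_⟩
    have h1 := congrArg e hc
    rwa [e.apply_symm_apply, AlgEquiv.commutes] at h1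
  have hn : 0 < n := by
    rcases Nat.eq_zero_or_pos n with h | h
    · exfalso
      subst h
      obtain ⟨a, b, hab⟩ := exists_pair_ne S
      exact hab (e.injective (Subsingleton.elim _ _))
    · exact h
  obtain ⟨i₀⟩ : Nonempty (Fin n) := ⟨⟨0, hn⟩⟩
  have hnt : ∀ i, Nontrivial (Matrix (Fin (d i)) (Fin (d i)) (D i)) := fun i => by
    have := hd i
    infer_instance
  have huniq : ∀ i : Fin n, i = i₀ := by
    intro i
    by_contra hne
    obtain ⟨c, hc⟩ := hcen' (Pi.single i₀ 1) fun y => by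
      ext1 j
      rw [Pi.mul_apply, Pi.mul_apply]
      by_cases h : j = i₀
      · subst h
        rw [Pi.single_eq_same, one_mul, mul_one]
      · rw [Pi.single_eq_of_ne h, zero_mul, mul_zero]
    have h1 := congrFun hc i
    rw [Pi.single_eq_of_ne hne, Pi.algebraMap_apply] at h1
    have h2 : c = 0 := by
      have := hnt i
      exact (map_eq_zero (algebraMap F (Matrix (Fin (d i)) (Fin (d i)) (D i)))).1 h1.symm
    have h3 := congrFun hc i₀
    rw [h2, Pi.single_eq_same, Pi.algebraMap_apply, map_zero] at h3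
    have := hnt i₀
    exact one_ne_zero h3
  -- the division ring is `F`
  let _ : Field (D i₀) := littleWedderburn (D i₀)
  have hsurj : Function.Surjective (algebraMap F (D i₀)) := by
    intro x
    have := hd i₀
    obtain ⟨c, hc⟩ := hcen' (Pi.single i₀ (Matrix.scalar (Fin (d i₀)) x)) fun y => by
      ext1 j
      rw [Pi.mul_apply, Pi.mul_apply]
      have hj := huniq j
      subst hj
      rw [Pi.single_eq_same]
      exact Matrix.scalar_commute x (fun r => by exact mul_comm x r) (y j)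
    have h1 := congrFun hc i₀
    rw [Pi.single_eq_same, Pi.algebraMap_apply] at h1
    refine ⟨c, ?_⟩
    have h2 := congrFun (congrFun h1 0) 0
    rw [Matrix.scalar_apply, Matrix.diagonal_apply_eq, Matrix.algebraMap_matrix_apply, if_pos rfl] at h2
    exact h2.symm
  have hbij : Function.Bijective (Algebra.ofId F (D i₀)) := ⟨(algebraMap F (D i₀)).injective, hsurj⟩
  let g : D i₀ ≃ₐ[F] F := (AlgEquiv.ofBijective (Algebra.ofId F (D i₀)) hbij).symm
  let u : Unique (Fin n) := ⟨⟨i₀⟩, huniq⟩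
  let pr : (Π i, Matrix (Fin (d i)) (Fin (d i)) (D i)) →ₐ[F] Matrix (Fin (d i₀)) (Fin (d i₀)) (D i₀) :=
    Pi.evalAlgHom F _ i₀
  have hpr : Function.Bijective pr := by
    constructor
    · intro x y h
      ext1 i
      rw [huniq i]
      exact h
    · intro x
      exact ⟨Pi.single i₀ x, Pi.single_eq_same _ _⟩
  refine ⟨d i₀, ?_, ⟨(e.trans (AlgEquiv.ofBijective pr hpr)).trans g.mapMatrix⟩⟩
  have := hd i₀
  exact Nat.one_le_iff_ne_zero.2 (NeZero.ne _)

end

section

variable {F : Type w} [Field F] {E : Type u} [AddCommGroup E] [Module F E]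

theorem finrank_of_equiv {S : Subalgebra F (Module.End F E)} {d : ℕ} (e : S ≃ₐ[F] Matrix (Fin d) (Fin d) F) :
    finrank F S = d ^ 2 := by
  rw [e.toLinearEquiv.finrank_eq, finrank_matrix, Fintype.card_fin, finrank_self, mul_one, pow_two]

/-- a subalgebra which is a matrix algebra is simple -/
theorem csa_of_equiv {S : Subalgebra F (Module.End F E)} {d : ℕ} (hd : 1 ≤ d)
    (e : S ≃ₐ[F] Matrix (Fin d) (Fin d) F)
    (hcen : ∀ x ∈ S, (∀ y ∈ S, x * y = y * x) → ∃ c : F, x = c • (1 : Module.End F E)) : _root_.Cfsg.Agent.H697.Alm.CSA S := by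
  refine ⟨hcen, fun x hx hx0 => ?_⟩
  have : Nonempty (Fin d) := ⟨⟨0, hd⟩⟩
  have hs : (IsSimpleRing S :) := IsSimpleRing.of_ringEquiv e.symm.toRingEquiv inferInstance
  have h1 : TwoSidedIdeal.span ({(⟨x, hx⟩ : S)} : Set S) = ⊤ := by
    rcases hs.simple.eq_bot_or_eq_top (TwoSidedIdeal.span ({(⟨x, hx⟩ : S)} : Set S)) with h | h
    · exfalso
      have h2 : (⟨x, hx⟩ : S) ∈ TwoSidedIdeal.span ({(⟨x, hx⟩ : S)} : Set S) :=
        TwoSidedIdeal.subset_span rfl
      rw [h, TwoSidedIdeal.mem_bot] at h2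
      exact hx0 (congrArg Subtype.val h2)
    · exact h
  have h3 : (1 : S) ∈ (TwoSidedIdeal.span ({(⟨x, hx⟩ : S)} : Set S) :) := by rw [h1]; trivial
  rw [TwoSidedIdeal.mem_span_iff_mem_addSubgroup_closure] at h3
  have key : ∀ z : S, z ∈ AddSubgroup.closure ((Set.univ : Set S) * ({(⟨x, hx⟩ : S)} : Set S) * (Set.univ : Set S)) →
      (z : Module.End F E) ∈ Submodule.span F {y | ∃ l ∈ S, ∃ r ∈ S, y = l * x * r} := by
    intro z hz
    induction hz using AddSubgroup.closure_induction with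
    | mem z hz =>
      obtain ⟨a, ⟨b, -, c, hc, rfl⟩, r, -, rfl⟩ := hz
      rw [Set.mem_singleton_iff] at hc
      subst hc
      exact Submodule.subset_span ⟨b, b.2, r, r.2, rfl⟩
    | zero => exact Submodule.zero_mem _
    | add a b _ _ ha hb => exact Submodule.add_mem _ ha hb
    | neg a _ ha => exact Submodule.neg_mem _ ha
  exact key 1 h3

end

section

variable {D : Type v} {E : Type u} {F : Type w} [Group D] [AddCommGroup E] [DistribMulAction D E] [Field F]
  [Module F E]

/-- the linear representation of a group of linear elements -/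
def rep (K : Subgroup D) (hK : K ≤ CF D E F) : K →* Module.End F E where
  toFun k :=
    { toFun := fun e => (k : D) • e
      map_add' := fun a b => smul_add _ a b
      map_smul' := fun c e => hK k.2 c e }
  map_one' := LinearMap.ext fun v => one_smul D v
  map_mul' := fun g g' => LinearMap.ext fun v => mul_smul (g : D) (g' : D) v

theorem rep_apply (K : Subgroup D) (hK : K ≤ CF D E F) (k : K) (e : E) : rep K hK k e = (k : D) • e := rfl

theorem rep_mem (K : Subgroup D) (hK : K ≤ CF D E F) (k : K) : rep K hK k ∈ alg E F K :=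
  Algebra.subset_adjoin ⟨k, k.2, fun _ => rfl⟩

/-- the group algebra maps onto `alg` -/
theorem range_lift (K : Subgroup D) (hK : K ≤ CF D E F) :
    (MonoidAlgebra.lift F (Module.End F E) K (rep K hK)).range = alg E F K := by
  apply le_antisymm
  · rintro _ ⟨x, rfl⟩
    change MonoidAlgebra.lift F (Module.End F E) K (rep K hK) x ∈ alg E F K
    induction x using MonoidAlgebra.induction_on with
    | of g =>
      rw [MonoidAlgebra.lift_of]
      exact rep_mem K hK g
    | add a b ha hb => rw [map_add]; exact Subalgebra.add_mem _ ha hb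
    | smul c a ha => rw [map_smul]; exact Subalgebra.smul_mem _ ha c
  · unfold alg
    rw [Algebra.adjoin_le_iff]
    rintro g ⟨n, hn, hg⟩
    refine ⟨MonoidAlgebra.of F K ⟨n, hn⟩, ?_⟩
    change MonoidAlgebra.lift F (Module.End F E) K (rep K hK) (MonoidAlgebra.of F K ⟨n, hn⟩) = g
    rw [MonoidAlgebra.lift_of]
    exact LinearMap.ext fun v => (hg v).symm

/-- `alg` is semisimple -/
theorem alg_semisimple [Finite D] (K : Subgroup D) (hK : K ≤ CF D E F) (hcard : (Nat.card D : F) ≠ 0) :
    IsSemisimpleRing (alg E F K) := by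
  have : NeZero (Nat.card K : F) := ⟨fun h => hcard (by
    obtain ⟨m, hm⟩ := Subgroup.card_subgroup_dvd_card K
    rw [hm, Nat.cast_mul, h, zero_mul])⟩
  rw [← range_lift K hK]
  exact RingHom.isSemisimpleRing_of_surjective
    (MonoidAlgebra.lift F (Module.End F E) K (rep K hK)).rangeRestrict.toRingHom
    (AlgHom.rangeRestrict_surjective _)

end

end Cfsg.Agent.H984.S4790
end

-- part: H984/S4790/Comps
section
/-!
# S4790, T6: the components (helper984)
-/

set_option autoImplicit false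

namespace Cfsg.Agent.H984.S4790

open Cfsg Cfsg.Agent.H697.Alm Module
open Cfsg.Agent.SignalizersComponents.Components
open scoped commutatorElement

universe u v w

section semi

variable {D : Type v} {E : Type u} {F : Type w} [Group D] [AddCommGroup E] [DistribMulAction D E] [Field F]
  [Module F E]

theorem smul_inj' [Nontrivial E] (d : D) {a b : F} (h : ∀ e : E, a • (d • e) = b • (d • e)) : a = b := by
  obtain ⟨x, hx⟩ := exists_ne (0 : E)
  have h1 := h (d⁻¹ • x)
  rw [smul_inv_smul] at h1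
  exact smul_left_injective F hx h1

/-- the semilinear action on `F` -/
theorem exists_sigma [Nontrivial E] [Finite F] (fr : ∀ (d : D) (c : F), ∃ c' : F, ∀ e : E, d • (c • e) = c' • (d • e)) :
    ∃ σ : D →* (F ≃+* F), ∀ (d : D) (c : F) (e : E), d • (c • e) = σ d c • (d • e) := by
  choose s hs using fr
  have hadd : ∀ d a b, s d (a + b) = s d a + s d b := fun d a b => smul_inj' (E := E) d fun e => by
    rw [← hs, add_smul, smul_add, hs, hs, add_smul]
  have hmul : ∀ d a b, s d (a * b) = s d a * s d b := fun d a b => smul_inj' (E := E) d fun e => by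
    rw [← hs, mul_smul, hs, hs, mul_smul]
  have hone : ∀ d, s d 1 = 1 := fun d => smul_inj' (E := E) d fun e => by rw [← hs, one_smul, one_smul]
  have hzero : ∀ d, s d 0 = 0 := fun d => smul_inj' (E := E) d fun e => by
    rw [← hs, zero_smul, zero_smul, smul_zero]
  have hcomp : ∀ d d' c, s (d * d') c = s d (s d' c) := fun d d' c => smul_inj' (E := E) (d * d') fun e => by
    rw [← hs, mul_smul, mul_smul, hs d' c e, hs d (s d' c) (d' • e)]
  have hid : ∀ c, s 1 c = c := fun c => smul_inj' (E := E) (1 : D) fun e => by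
    rw [← hs, one_smul, one_smul]
  let f : D → F →+* F := fun d =>
    { toFun := s d, map_one' := hone d, map_mul' := hmul d, map_zero' := hzero d, map_add' := hadd d }
  have hbij : ∀ d, Function.Bijective (f d) := fun d => Finite.injective_iff_bijective.1 (f d).injective
  let σ : D →* (F ≃+* F) :=
    { toFun := fun d => RingEquiv.ofBijective (f d) (hbij d)
      map_one' := RingEquiv.ext hid
      map_mul' := fun d d' => RingEquiv.ext (hcomp d d') }
  exact ⟨σ, hs⟩

/-- perfect subgroups act linearly -/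
theorem perfect_le_CF [Nontrivial E] [Finite F] (fr : Fr D E F) {K : Subgroup D} (hK : ⁅K, K⁆ = K) :
    K ≤ CF D E F := by
  obtain ⟨σ, hσ⟩ := exists_sigma fr.norm
  have hcyc := Cfsg.Agent.LieRecognition.FieldSemilinear.isCyclic_ringAut F
  have hker : K ≤ σ.ker := by
    rw [← hK, Subgroup.commutator_le]
    intro x _ y _
    rw [MonoidHom.mem_ker, map_commutatorElement, commutatorElement_eq_one_iff_mul_comm]
    exact (IsCyclic.commGroup (α := F ≃+* F)).mul_comm _ _
  intro k hk c e
  have h1 : σ k = 1 := hker hk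
  rw [hσ, h1]
  rfl

/-- the group of elements commuting with an endomorphism -/
def cenGrp (x : Module.End F E) : Subgroup D where
  carrier := {d | ∀ e : E, x (d • e) = d • x e}
  one_mem' := fun e => by rw [one_smul, one_smul]
  mul_mem' := fun {a b} ha hb e => by
    rw [mul_smul, ha (b • e), hb e, mul_smul]
  inv_mem' := fun {a} ha e => by
    have h := ha (a⁻¹ • e)
    rw [smul_inv_smul] at h
    rw [h, inv_smul_smul]

theorem alg_mono {K L : Subgroup D} (h : K ≤ L) : alg E F K ≤ alg E F L :=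
  Algebra.adjoin_mono fun _ ⟨n, hn, hg⟩ => ⟨n, h hn, hg⟩

/-- `x` commutes with `alg K` iff it commutes with `K` -/
theorem comm_of_le_cenGrp {x : Module.End F E} {K : Subgroup D} (h : K ≤ cenGrp x) {y : Module.End F E}
    (hy : y ∈ alg E F K) : x * y = y * x := by
  have h1 : alg E F K ≤ Subalgebra.centralizer F ({x} : Set (Module.End F E)) := by
    unfold alg
    rw [Algebra.adjoin_le_iff]
    rintro g ⟨n, hn, hg⟩
    rw [SetLike.mem_coe, Subalgebra.mem_centralizer_iff]
    intro z hz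
    rw [Set.mem_singleton_iff] at hz
    rw [hz]
    refine LinearMap.ext fun e => ?_
    change x (g e) = g (x e)
    rw [hg, hg]
    exact h hn e
  have h2 := h1 hy
  rw [Subalgebra.mem_centralizer_iff] at h2
  exact h2 x rfl

theorem le_cenGrp_of_comm {x : Module.End F E} {K : Subgroup D} (hK : K ≤ CF D E F)
    (h : ∀ y ∈ alg E F K, x * y = y * x) : K ≤ cenGrp x := by
  intro k hk e
  have h1 := h _ (rep_mem K hK ⟨k, hk⟩)
  exact LinearMap.congr_fun h1 e

theorem alg_comm {K L : Subgroup D} (h : ∀ k ∈ K, ∀ l ∈ L, k * l = l * k) (hL : L ≤ CF D E F) {x y : Module.End F E}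
    (hx : x ∈ alg E F K) (hy : y ∈ alg E F L) : x * y = y * x := by
  refine comm_of_le_cenGrp (fun l hl e => ?_) hy
  have h1 : K ≤ cenGrp (rep L hL ⟨l, hl⟩) := fun k hk e => by
    rw [rep_apply, rep_apply]
    change l • (k • e) = k • (l • e)
    rw [← mul_smul, ← mul_smul, h k hk l hl]
  have h2 := comm_of_le_cenGrp h1 hx
  exact (LinearMap.congr_fun h2 e).symm

end semi

section index

variable {D : Type u} [Group D] [Finite D]

omit [Finite D] in
theorem conj_mem_iff_normalizer {K : Subgroup D} {d : D} :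
    K.map (MulAut.conj d).toMonoidHom = K ↔ d ∈ Subgroup.normalizer (K : Set D) := by
  rw [Subgroup.mem_normalizer_iff]
  constructor
  · intro h x
    constructor
    · intro hx
      have h1 : d * x * d⁻¹ ∈ K.map (MulAut.conj d).toMonoidHom := ⟨x, hx, rfl⟩
      rwa [h] at h1
    · intro hx
      rw [← h] at hx
      obtain ⟨y, hy, hyx⟩ := hx
      have h2 : y = x := (MulAut.conj d).injective hyx
      rwa [← h2]
  · intro h
    ext x
    constructor
    · rintro ⟨y, hy, rfl⟩
      exact (h y).1 hy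
    · intro hx
      refine ⟨d⁻¹ * x * d, (h _).2 ?_, ?_⟩
      · rwa [show d * (d⁻¹ * x * d) * d⁻¹ = x by group]
      · change d * (d⁻¹ * x * d) * d⁻¹ = x
        group

omit [Finite D] in
/-- the action on the components -/
theorem index_normalizers {k : ℕ} (K : Fin k → Subgroup D) (hinj : Function.Injective K)
    (hconj : ∀ (d : D) (i : Fin k), ∃ j, K j = (K i).map (MulAut.conj d).toMonoidHom) :
    (⨅ i, Subgroup.normalizer (K i : Set D)).index ≤ k.factorial := by
  choose f hf using hconj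
  have hcomp : ∀ d d' i, f (d * d') i = f d (f d' i) := by
    intro d d' i
    apply hinj
    rw [hf, hf, hf, Subgroup.map_map]
    congr 1
    ext x
    change d * d' * x * (d * d')⁻¹ = d * (d' * x * d'⁻¹) * d⁻¹
    group
  have hone : ∀ i, f 1 i = i := by
    intro i
    apply hinj
    rw [hf]
    ext x
    constructor
    · rintro ⟨y, hy, rfl⟩
      change 1 * y * 1⁻¹ ∈ K i
      rwa [one_mul, inv_one, mul_one]
    · intro hx
      refine ⟨x, hx, ?_⟩
      change 1 * x * 1⁻¹ = x
      rw [one_mul, inv_one, mul_one]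
  let φ : D →* Equiv.Perm (Fin k) := MonoidHom.mk'
    (fun d => ⟨f d, f d⁻¹, fun i => by rw [← hcomp, inv_mul_cancel, hone],
      fun i => by rw [← hcomp, mul_inv_cancel, hone]⟩)
    (fun a b => Equiv.ext (hcomp a b))
  have hker : φ.ker = ⨅ i, Subgroup.normalizer (K i : Set D) := by
    ext d
    rw [MonoidHom.mem_ker, Subgroup.mem_iInf]
    constructor
    · intro h i
      rw [← conj_mem_iff_normalizer, ← hf]
      have h1 : φ d i = i := by rw [h]; rfl
      exact congrArg K h1
    · intro h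
      apply Equiv.ext
      intro i
      apply hinj
      change K (f d i) = K i
      rw [hf, conj_mem_iff_normalizer]
      exact h i
  rw [← hker, Subgroup.index_ker]
  calc Nat.card φ.range ≤ Nat.card (Equiv.Perm (Fin k)) := Subgroup.card_le_card_group _
    _ = k.factorial := by rw [Nat.card_eq_fintype_card, Fintype.card_perm, Fintype.card_fin]

/-- the action of the common normalizer -/
theorem relIndex_centralizer {k : ℕ} (K : Fin k → Subgroup D) (hperf : ∀ i, Group.IsPerfect (K i)) :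
    (Subgroup.centralizer ((⨆ i, K i : Subgroup D) : Set D)).relIndex (⨅ i, Subgroup.normalizer (K i : Set D)) ≤
      ∏ i, Nat.card (MulAut (K i ⧸ Subgroup.center (K i))) := by
  let N : Subgroup D := ⨅ i, Subgroup.normalizer (K i : Set D)
  have hN : ∀ i, N ≤ Subgroup.normalizer (K i : Set D) := fun i => iInf_le _ i
  let ψ : N →* (Π i, MulAut (K i ⧸ Subgroup.center (K i))) := MonoidHom.pi fun i =>
    (StdRank2.OutAct.quot (K i)).comp ((K i).normalizerMonoidHom.comp (Subgroup.inclusion (hN i)))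
  have hker : ψ.ker = (Subgroup.centralizer ((⨆ i, K i : Subgroup D) : Set D)).subgroupOf N := by
    ext d
    rw [MonoidHom.mem_ker, Subgroup.mem_subgroupOf, Subgroup.mem_centralizer_iff]
    constructor
    · intro h
      have h1 : ∀ i, K i ≤ Subgroup.centralizer ({(d : D)} : Set D) := by
        intro i x hx
        have h2 : StdRank2.OutAct.quot (K i) ((K i).normalizerMonoidHom (Subgroup.inclusion (hN i) d)) = 1 :=
          congrFun h i
        have h3 := H698.CaseS.eq_one_of_quot_eq_one (hperf i) h2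
        have h4 : Subgroup.inclusion (hN i) d ∈ (K i).normalizerMonoidHom.ker := h3
        rw [Subgroup.normalizerMonoidHom_ker, Subgroup.mem_subgroupOf, Subgroup.mem_centralizer_iff] at h4
        have h5 := h4 x hx
        rw [Subgroup.mem_centralizer_singleton_iff]
        exact h5
      intro x hx
      have h6 : x ∈ Subgroup.centralizer ({(d : D)} : Set D) := (iSup_le h1) hx
      rw [Subgroup.mem_centralizer_singleton_iff] at h6
      exact h6
    · intro h
      funext i
      have h4 : Subgroup.inclusion (hN i) d ∈ (K i).normalizerMonoidHom.ker := by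
        rw [Subgroup.normalizerMonoidHom_ker, Subgroup.mem_subgroupOf, Subgroup.mem_centralizer_iff]
        intro x hx
        exact h x ((le_iSup K i) hx)
      rw [MonoidHom.mem_ker] at h4
      change StdRank2.OutAct.quot (K i) ((K i).normalizerMonoidHom (Subgroup.inclusion (hN i) d)) = 1
      rw [h4, map_one]
  rw [Subgroup.relIndex, ← hker, Subgroup.index_ker, ← Nat.card_pi]
  exact Subgroup.card_le_card_group _

end index

section

variable {D E : Type u} [Group D] [Finite D] [AddCommGroup E] [Finite E] [Nontrivial E] [DistribMulAction D E]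
  [FaithfulSMul D E] {F : Type u} [Field F] [Finite F] [Module F E]

omit [Group D] [Finite D] [Finite E] [DistribMulAction D E] [FaithfulSMul D E] [Finite F] in
theorem card_ne_zero {p : ℕ} (hp : p.Prime) (hpE : ∀ e : E, p • e = 0) (hcop : ¬ p ∣ Nat.card D) :
    (Nat.card D : F) ≠ 0 := by
  have hchar : CharP F p := Cfsg.Agent.H698.Fld.charP (E := E) hp hpE
  intro h
  exact hcop ((CharP.cast_eq_zero_iff F p _).1 h)

/-- one component -/
theorem comp_mat {p : ℕ} (hp : p.Prime) (hpE : ∀ e : E, p • e = 0) (hcop : ¬ p ∣ Nat.card D) (fr : Fr D E F)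
    {K : Subgroup D} (hK : IsComponent K) :
    K ≤ CF D E F ∧ ∃ d : ℕ, 2 ≤ d ∧ _root_.Cfsg.Agent.H697.Alm.CSA (alg E F K) ∧ finrank F (alg E F K) = d ^ 2 ∧
      H698.Rep.{u, u} p d (K ⧸ Subgroup.center K) := by
  classical
  have hperf : ∀ K : Subgroup D, IsComponent K → K ≤ CF D E F := fun K hK =>
    perfect_le_CF fr (component_commutator_self hK)
  have hKC := hperf K hK
  refine ⟨hKC, ?_⟩
  have hLC : layer D ≤ CF D E F := layer_le_iff.2 hperf
  have hLn : (layer D).Normal := layer_normal D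
  have hLcsa := fr.csa (layer D) hLn hLC
  have hchar : CharP F p := Cfsg.Agent.H698.Fld.charP (E := E) hp hpE
  -- the centre
  have hcen : ∀ x ∈ alg E F K, (∀ y ∈ alg E F K, x * y = y * x) → ∃ c : F, x = c • (1 : Module.End F E) := by
    intro x hx hxy
    have h1 : layer D ≤ cenGrp x := by
      rw [layer_le_iff]
      intro K' hK'
      by_cases hne : K' = K
      · rw [hne]
        exact le_cenGrp_of_comm hKC hxy
      · refine le_cenGrp_of_comm (hperf K' hK') fun y hy => ?_
        exact alg_comm (fun k hk l hl => (H698.Lay.comm_of_ne hK' hK hne hl hk).symm) (hperf K' hK') hx hy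
    exact hLcsa.cen x (alg_mono (component_le_layer hK) hx) fun y hy => comm_of_le_cenGrp h1 hy
  have hfinE : Finite (Module.End F E) := Finite.of_injective (fun f : Module.End F E => (f : E → E)) DFunLike.coe_injective
  have hss := alg_semisimple (E := E) (F := F) K hKC (card_ne_zero (E := E) hp hpE hcop)
  have hntE : Nontrivial (Module.End F E) := inferInstance
  obtain ⟨d, hd1, ⟨e⟩⟩ := exists_matrix (F := F) (S := alg E F K) fun x hx => by
    obtain ⟨c, hc⟩ := hcen x x.2 fun y hy => congrArg Subtype.val (hx ⟨y, hy⟩)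
    refine ⟨c, Subtype.ext ?_⟩
    rw [hc]
    rfl
  -- the representation
  let r : K →* (alg E F K) :=
    { toFun := fun k => ⟨rep K hKC k, rep_mem K hKC k⟩
      map_one' := Subtype.ext (map_one (rep K hKC))
      map_mul' := fun a b => Subtype.ext (map_mul (rep K hKC) a b) }
  let ρ : K →* Matrix.GeneralLinearGroup (Fin d) F := (((e : (alg E F K) →* Matrix (Fin d) (Fin d) F).comp r).toHomUnits :)
  have hρ : Function.Injective ρ := by
    intro a b h
    have h1 := congrArg (fun x : Matrix.GeneralLinearGroup (Fin d) F => (x : Matrix (Fin d) (Fin d) F)) h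
    have h2 : r a = r b := e.injective h1
    have h3 : rep K hKC a = rep K hKC b := congrArg Subtype.val h2
    apply Subtype.ext
    apply FaithfulSMul.eq_of_smul_eq_smul (α := E)
    intro v
    exact LinearMap.congr_fun h3 v
  have hd2 : 2 ≤ d := by
    by_contra hcon
    have hd : d = 1 := by omega
    subst hd
    apply quasisimple_not_isMulCommutative hK.2
    refine ⟨⟨fun x y => hρ ?_⟩⟩
    rw [map_mul, map_mul]
    exact H698.CaseS.comm_gl_one _ _
  refine ⟨d, hd2, csa_of_equiv hd1 e hcen, finrank_of_equiv e, F, inferInstance, inferInstance, hchar, K, inferInstance,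
    inferInstance, QuotientGroup.mk' _, ρ, QuotientGroup.mk'_surjective _, ?_, hK.2.1.commutator_eq_top, hρ, ?_⟩
  · rw [QuotientGroup.ker_mk']
  · exact fun h => hcop (h.trans (Subgroup.card_subgroup_dvd_card K))

theorem alg_finrank_mono {F : Type u} {E : Type u} [Field F] [AddCommGroup E] [Module F E] [Module.Finite F E]
    {S T : Subalgebra F (Module.End F E)} (h : S ≤ T) : finrank F S ≤ finrank F T := by
  rw [← Subalgebra.finrank_toSubmodule, ← Subalgebra.finrank_toSubmodule]
  exact Submodule.finrank_mono h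

theorem alg_finrank_le {F : Type u} {E : Type u} [Field F] [AddCommGroup E] [Module F E] [Module.Finite F E]
    (S : Subalgebra F (Module.End F E)) : finrank F S ≤ finrank F E ^ 2 := by
  rw [← Subalgebra.finrank_toSubmodule]
  refine (Submodule.finrank_le _).trans ?_
  rw [Module.finrank_linearMap, pow_two]

/-- the statement of T1 -/
def LinDisj (F : Type u) (E : Type u) [Field F] [AddCommGroup E] [Module F E] : Prop :=
  ∀ S T : Subalgebra F (Module.End F E), _root_.Cfsg.Agent.H697.Alm.CSA S → (∀ s ∈ S, ∀ t ∈ T, s * t = t * s) →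
    finrank F S * finrank F T ≤ finrank F (S ⊔ T : Subalgebra F (Module.End F E))

/-- **T6 from T1** -/
theorem comps_of (hT1 : LinDisj F E) {p : ℕ} (hp : p.Prime) (hpE : ∀ e : E, p • e = 0) (hcop : ¬ p ∣ Nat.card D)
    (fr : Fr D E F) :
    ∃ (k : ℕ) (K : Fin k → Subgroup D) (w : Fin k → ℕ), Function.Injective K ∧ (∀ i, IsComponent (K i)) ∧
      (∀ K' : Subgroup D, IsComponent K' → ∃ i, K i = K') ∧ (∀ i, K i ≤ CF D E F) ∧ (∀ i, 2 ≤ w i) ∧
      (∀ i, H698.Rep.{u, u} p (w i) (K i ⧸ Subgroup.center (K i))) ∧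
      (∏ i, w i) ^ 2 * finrank F (alg E F (CF D E F ⊓ Subgroup.centralizer ((⨆ i, K i : Subgroup D) : Set D))) ≤
        finrank F E ^ 2 ∧
      (CF D E F ⊓ Subgroup.centralizer ((⨆ i, K i : Subgroup D) : Set D)).relIndex (CF D E F) ≤
        k.factorial * ∏ i, Nat.card (MulAut (K i ⧸ Subgroup.center (K i))) := by
  classical
  have : Fintype {K : Subgroup D // IsComponent K} := Fintype.ofFinite _
  let en := (Fintype.equivFin {K : Subgroup D // IsComponent K}).symm
  obtain ⟨k, hk⟩ : ∃ k, k = Fintype.card {K : Subgroup D // IsComponent K} := ⟨_, rfl⟩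
  rw [← hk] at en
  let K : Fin k → Subgroup D := fun i => (en i : Subgroup D)
  have hinj : Function.Injective K := fun i j h => en.injective (Subtype.ext h)
  have hK : ∀ i, IsComponent (K i) := fun i => (en i).2
  have hsurj : ∀ K' : Subgroup D, IsComponent K' → ∃ i, K i = K' := fun K' h =>
    ⟨en.symm ⟨K', h⟩, by change ((en (en.symm ⟨K', h⟩) : {K : Subgroup D // IsComponent K}) : Subgroup D) = K'
                         rw [Equiv.apply_symm_apply]⟩
  choose hKC w hw2 hcsa hfr hrep using fun i => comp_mat (F := F) hp hpE hcop fr (hK i)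
  refine ⟨k, K, w, hinj, hK, hsurj, hKC, hw2, hrep, ?_, ?_⟩
  · -- dimensions
    have hfinFE : Module.Finite F E := Module.Finite.of_finite
    let X : Subgroup D := CF D E F ⊓ Subgroup.centralizer ((⨆ i, K i : Subgroup D) : Set D)
    have hXle : ∀ i, ∀ x ∈ X, ∀ y ∈ K i, x * y = y * x := fun i x hx y hy =>
      ((Subgroup.mem_centralizer_iff.1 hx.2) y (le_iSup K i hy)).symm
    have key : ∀ s : Finset (Fin k), (∏ i ∈ s, w i) ^ 2 * finrank F (alg E F X) ≤
        finrank F (alg E F (X ⊔ ⨆ i ∈ s, K i)) := by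
      intro s
      induction s using Finset.induction_on with
      | empty =>
        rw [Finset.prod_empty, one_pow, one_mul]
        exact alg_finrank_mono (alg_mono le_sup_left)
      | insert j s hj ih =>
        let M : Subgroup D := X ⊔ ⨆ i ∈ s, K i
        have hMC : M ≤ CF D E F := sup_le inf_le_left (iSup₂_le fun i _ => hKC i)
        have hcomm : ∀ x ∈ K j, ∀ y ∈ M, x * y = y * x := by
          have h1 : M ≤ Subgroup.centralizer (K j : Set D) := by
            refine sup_le ?_ (iSup₂_le fun i hi => ?_)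
            · intro x hx
              rw [Subgroup.mem_centralizer_iff]
              intro y hy
              exact (hXle j x hx y hy).symm
            · have hne : K i ≠ K j := fun h => hj (by rw [← hinj h]; exact hi)
              exact component_le_centralizer_of_ne (hK i) (hK j) hne
          intro x hx y hy
          exact (Subgroup.mem_centralizer_iff.1 (h1 hy)) x hx
        have h2 := hT1 (alg E F (K j)) (alg E F M) (hcsa j) fun a ha b hb => alg_comm hcomm hMC ha hb
        have h3 : (alg E F (K j) ⊔ alg E F M : Subalgebra F (Module.End F E)) ≤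
            alg E F (X ⊔ ⨆ i ∈ insert j s, K i) := by
          refine sup_le (alg_mono ?_) (alg_mono ?_)
          · exact (le_iSup₂_of_le (f := fun i (_ : i ∈ insert j s) => K i) j (Finset.mem_insert_self j s)
              le_rfl).trans le_sup_right
          · refine sup_le_sup_left (iSup₂_le fun i hi => ?_) X
            exact le_iSup₂_of_le (f := fun i (_ : i ∈ insert j s) => K i) i (Finset.mem_insert_of_mem hi) le_rfl
        have h4 : finrank F (alg E F (K j) ⊔ alg E F M : Subalgebra F (Module.End F E)) ≤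
            finrank F (alg E F (X ⊔ ⨆ i ∈ insert j s, K i)) := alg_finrank_mono h3
        rw [hfr j] at h2
        calc (∏ i ∈ insert j s, w i) ^ 2 * finrank F (alg E F X)
            = w j ^ 2 * ((∏ i ∈ s, w i) ^ 2 * finrank F (alg E F X)) := by
              rw [Finset.prod_insert hj]; ring
          _ ≤ w j ^ 2 * finrank F (alg E F M) := Nat.mul_le_mul_left _ ih
          _ ≤ _ := h2.trans h4
    have h5 := key Finset.univ
    exact h5.trans (alg_finrank_le _)
  · -- index
    have h1 : (CF D E F ⊓ Subgroup.centralizer ((⨆ i, K i : Subgroup D) : Set D)).relIndex (CF D E F) =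
        (Subgroup.centralizer ((⨆ i, K i : Subgroup D) : Set D)).relIndex (CF D E F) := by
      rw [inf_comm, Subgroup.inf_relIndex_right]
    rw [h1]
    have hle : Subgroup.centralizer ((⨆ i, K i : Subgroup D) : Set D) ≤ ⨅ i, Subgroup.normalizer (K i : Set D) := by
      refine le_iInf fun i => ?_
      refine (Subgroup.centralizer_le (show (K i : Set D) ⊆ ((⨆ i, K i : Subgroup D) : Set D) from le_iSup K i)).trans ?_
      exact Subgroup.centralizer_le_normalizer _
    have h2 : (Subgroup.centralizer ((⨆ i, K i : Subgroup D) : Set D)).relIndex (CF D E F) ≤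
        (Subgroup.centralizer ((⨆ i, K i : Subgroup D) : Set D)).index := by
      have hne : (Subgroup.centralizer ((⨆ i, K i : Subgroup D) : Set D)).index ≠ 0 := Subgroup.index_ne_zero_of_finite
      rw [← Subgroup.relIndex_top_right]
      exact Subgroup.relIndex_le_of_le_right le_top (by rwa [Subgroup.relIndex_top_right])
    refine h2.trans ?_
    rw [← Subgroup.relIndex_mul_index hle, mul_comm]
    refine Nat.mul_le_mul (index_normalizers K hinj fun d i => hsurj _ (isComponent_conj d (hK i))) ?_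
    exact relIndex_centralizer K fun i => (hK i).2.1

end

end Cfsg.Agent.H984.S4790
end

-- part: H984/S4790/CompsMain
section
/-!
# S4790, T6 (helper984)
-/

set_option autoImplicit false

namespace Cfsg.Agent.H984.S4790

open Cfsg Cfsg.Agent.H697.Alm Module

universe u

variable {D E : Type u} [Group D] [Finite D] [AddCommGroup E] [Finite E] [Nontrivial E] [DistribMulAction D E]
  [FaithfulSMul D E] {F : Type u} [Field F] [Finite F] [Module F E]

/-- **T6** -/
theorem comps {p : ℕ} (hp : p.Prime) (hpE : ∀ e : E, p • e = 0) (hcop : ¬ p ∣ Nat.card D) (fr : Fr D E F) :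
    ∃ (k : ℕ) (K : Fin k → Subgroup D) (w : Fin k → ℕ), Function.Injective K ∧ (∀ i, IsComponent (K i)) ∧
      (∀ K' : Subgroup D, IsComponent K' → ∃ i, K i = K') ∧ (∀ i, K i ≤ CF D E F) ∧ (∀ i, 2 ≤ w i) ∧
      (∀ i, H698.Rep.{u, u} p (w i) (K i ⧸ Subgroup.center (K i))) ∧
      (∏ i, w i) ^ 2 * finrank F (alg E F (CF D E F ⊓ Subgroup.centralizer ((⨆ i, K i : Subgroup D) : Set D))) ≤
        finrank F E ^ 2 ∧
      (CF D E F ⊓ Subgroup.centralizer ((⨆ i, K i : Subgroup D) : Set D)).relIndex (CF D E F) ≤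
        k.factorial * ∏ i, Nat.card (MulAut (K i ⧸ Subgroup.center (K i))) := by
  have : Module.Finite F E := Module.Finite.of_finite
  exact comps_of (fun S T hS hc => (by exact Cfsg.Agent.H311.S4790.LinDisj.lin_disj S T hS hc)) hp hpE hcop fr

end Cfsg.Agent.H984.S4790
end

-- part: H697/Alm/Str
section
/-!
# S4790: the structure of a primitive coprime linear group
-/

set_option autoImplicit false

namespace Cfsg.Agent.H697.Alm

open Module

universe u

variable {D E : Type u} [Group D] [Finite D] [AddCommGroup E] [Finite E] [Nontrivial E] [DistribMulAction D E]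
  [FaithfulSMul D E] {F : Type u} [Field F] [Finite F] [Module F E]

theorem str {p m : ℕ} (hp : p.Prime) (h23 : 23 ≤ p) (hpE : ∀ e : E, p • e = 0) (hcop : ¬ p ∣ Nat.card D)
    (fr : Fr D E F) (hm : finrank F E = m)
    (hB : ∀ (T : Type u) [Group T] [Finite T] [IsSimpleGroup T], ¬ IsMulCommutative T → BndT T)
    (hT : ∀ (T : Type u) [Group T] [Finite T] [IsSimpleGroup T], ¬ IsMulCommutative T → H698.Rep.{u, u} p 2 T →
      Nat.card T = 60 ∧ Nat.card (MulAut T) ≤ 120) :
    (m = 1 → CF D E F = AF D E F) ∧ (AF D E F).relIndex (CF D E F) ≤ 6 * p ^ (m - 1) ∧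
      ((AF D E F).relIndex (CF D E F) * (p - 1) ≤ p ^ m - 1 ∨
        (3 ≤ m ∧ ∃ K : Subgroup D, IsComponent K ∧ K.Normal ∧ H698.Rep.{u, u} p m (K ⧸ Subgroup.center K) ∧
          CF D E F ⊓ Subgroup.centralizer (K : Set D) = AF D E F) ∨
        (m = 2 ∧ ∃ K : Subgroup D, IsComponent K) ∨
        (m = 4 ∧ (AF D E F).relIndex (CF D E F) ≤ 28800 ∧ 15 ∣ (AF D E F).relIndex (CF D E F))) :=
  H164.S4790.str_of hp h23 hcop fr hm (fun T _ _ _ h => hB T h) (fun T _ _ _ h hR => hT T h hR)
    (fun D' _ hC hA hK => H832.S4790.Chain.chain hp h23 hpE hcop fr D' hC hA hK)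
    (H984.S4790.comps hp hpE hcop fr)

end Cfsg.Agent.H697.Alm
end

-- part: H41/S4790/Imprim
section
/-!
# S4790, T14: the imprimitive case (helper41)

* `ps_imprim`
-/

set_option autoImplicit false

namespace Cfsg.Agent.H41.Imprim

open Cfsg.Agent.H697.Alm

universe u

section

variable {D E : Type u} [Group D] [AddCommGroup E] [DistribMulAction D E] {t : ℕ} {W : Fin t → AddSubgroup E}
  (hW : Blk D E t W)

include hW

/-- the components -/
noncomputable def cp (e : E) : Fin t → E := (hW.sum e).exists.choose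

theorem cp_mem (e : E) (i : Fin t) : cp hW e i ∈ W i := (hW.sum e).exists.choose_spec.1 i

theorem cp_sum (e : E) : ∑ i, cp hW e i = e := (hW.sum e).exists.choose_spec.2

theorem cp_eq {e : E} {f : Fin t → E} (h1 : ∀ i, f i ∈ W i) (h2 : ∑ i, f i = e) : cp hW e = f :=
  (hW.sum e).unique ⟨cp_mem hW e, cp_sum hW e⟩ ⟨h1, h2⟩

theorem cp_add (e f : E) (i : Fin t) : cp hW (e + f) i = cp hW e i + cp hW f i := by
  have h := cp_eq hW (e := e + f) (f := fun i => cp hW e i + cp hW f i)
    (fun i => add_mem (cp_mem hW e i) (cp_mem hW f i)) (by rw [Finset.sum_add_distrib, cp_sum, cp_sum])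
  rw [h]

theorem cp_zero (i : Fin t) : cp hW 0 i = 0 := by
  have h := cp_eq hW (e := 0) (f := fun _ => 0) (fun i => zero_mem _) (by simp only [_root_.Finset.sum_const_zero])
  rw [h]

theorem cp_neg (e : E) (i : Fin t) : cp hW (-e) i = - cp hW e i := by
  have h := cp_add hW e (-e) i
  rw [add_neg_cancel, cp_zero] at h
  exact (neg_eq_of_add_eq_zero_right h.symm).symm

theorem cp_of_mem {e : E} {i : Fin t} (he : e ∈ W i) (j : Fin t) : cp hW e j = if j = i then e else 0 := by
  have h := cp_eq hW (e := e) (f := fun j => if j = i then e else 0) (fun j => by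
    by_cases h : j = i
    · simp only [h, if_true]; exact he
    · simp only [h, if_false]; exact zero_mem _) (by simp only [_root_.Finset.sum_ite_eq', _root_.Finset.mem_univ, ↓ _root_.reduceIte])
  rw [h]

theorem eq_of_mem {e : E} (he : e ≠ 0) {i j : Fin t} (hi : e ∈ W i) (hj : e ∈ W j) : i = j := by
  have h1 := cp_of_mem hW hi i
  have h2 := cp_of_mem hW hj i
  rw [h1, if_pos rfl] at h2
  by_contra hij
  rw [if_neg hij] at h2
  exact he h2

/-- the permutation of the blocks -/
noncomputable def pm (d : D) (i : Fin t) : Fin t := (hW.perm d i).choose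

theorem pm_spec (d : D) (i : Fin t) (e : E) : e ∈ W i ↔ d • e ∈ W (pm hW d i) := (hW.perm d i).choose_spec e

theorem pm_injective (d : D) : Function.Injective (pm hW d) := by
  intro i j hij
  obtain ⟨x, hx⟩ := AddSubgroup.ne_bot_iff_exists_ne_zero.1 (hW.ne i)
  have h1 := (pm_spec hW d i x).1 x.2
  rw [hij, ← pm_spec] at h1
  exact eq_of_mem hW (fun h => hx (Subtype.ext h)) x.2 h1

theorem cp_smul (d : D) (e : E) (i : Fin t) : cp hW (d • e) (pm hW d i) = d • cp hW e i := by
  have hb : Function.Bijective (pm hW d) := Finite.injective_iff_bijective.1 (pm_injective hW d)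
  let σ : Fin t ≃ Fin t := Equiv.ofBijective _ hb
  have h := cp_eq hW (e := d • e) (f := fun j => d • cp hW e (σ.symm j)) (fun j => by
    have h1 := (pm_spec hW d (σ.symm j) _).1 (cp_mem hW e (σ.symm j))
    have h2 : pm hW d (σ.symm j) = j := σ.apply_symm_apply j
    rwa [h2] at h1) (by
    rw [← Finset.smul_sum, Equiv.sum_comp σ.symm (fun i => cp hW e i), cp_sum])
  rw [h]
  show d • cp hW e (σ.symm (σ i)) = _
  rw [σ.symm_apply_apply]

/-- the number of nonzero components -/
noncomputable def wt (e : E) : ℕ := Nat.card {i : Fin t // cp hW e i ≠ 0}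

theorem wt_smul (d : D) (e : E) : wt hW (d • e) = wt hW e := by
  have hb : Function.Bijective (pm hW d) := Finite.injective_iff_bijective.1 (pm_injective hW d)
  symm
  refine Nat.card_congr ((Equiv.ofBijective _ hb).subtypeEquiv fun i => ?_)
  show _ ↔ cp hW (d • e) (pm hW d i) ≠ 0
  rw [cp_smul]
  exact (smul_ne_zero_iff_ne d).symm

omit hW in
/-- the stabilizer of a subgroup -/
def stb (D : Type u) {E : Type u} [Group D] [AddCommGroup E] [DistribMulAction D E] (W0 : AddSubgroup E) : Subgroup D where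
  carrier := {d | ∀ e : E, e ∈ W0 ↔ d • e ∈ W0}
  one_mem' := fun e => by rw [one_smul]
  mul_mem' := fun {a b} ha hb e => by rw [hb e, ha (b • e), mul_smul]
  inv_mem' := fun {a} ha e => by rw [ha (a⁻¹ • e), smul_inv_smul]

theorem mem_stb_of {i : Fin t} {d : D} {e : E} (he : e ≠ 0) (h1 : e ∈ W i) (h2 : d • e ∈ W i) : d ∈ stb D (W i) := by
  have h3 := (pm_spec hW d i e).1 h1
  have h4 := eq_of_mem hW ((smul_ne_zero_iff_ne d).2 he) h3 h2
  intro e'
  have h5 := pm_spec hW d i e'
  rwa [h4] at h5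

instance stbAct (W0 : AddSubgroup E) : DistribMulAction (stb D W0) W0 where
  smul d w := ⟨(d : D) • (w : E), (d.2 w).1 w.2⟩
  one_smul w := Subtype.ext (one_smul D (w : E))
  mul_smul a b w := Subtype.ext (mul_smul (a : D) (b : D) (w : E))
  smul_zero a := Subtype.ext (smul_zero (a : D))
  smul_add a x y := Subtype.ext (smul_add (a : D) (x : E) (y : E))

end

/-! ### the number of classes of a subgroup -/

/-- `k(U) < |D : U| k(D)` -/
theorem card_classes_lt {D : Type u} [Group D] [Finite D] (U : Subgroup D) (hU : U ≠ ⊤) :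
    Nat.card (ConjClasses U) < U.index * Nat.card (ConjClasses D) := by
  have h1 := card_comm_eq_card_conjClasses_mul_card U
  have h2 := card_comm_eq_card_conjClasses_mul_card D
  obtain ⟨y, hy⟩ : ∃ y : D, y ∉ U := by
    by_contra hcon
    push Not at hcon
    exact hU (eq_top_iff.2 fun x _ => hcon x)
  let f : {p : U × U // Commute p.1 p.2} → {p : D × D // Commute p.1 p.2} :=
    fun p => ⟨((p.1.1 : D), (p.1.2 : D)), congrArg Subtype.val p.2⟩
  have hf : Function.Injective f := by
    intro a b hab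
    have h3 := congrArg Subtype.val hab
    have h4 : (a.1.1 : D) = b.1.1 := congrArg Prod.fst h3
    have h5 : (a.1.2 : D) = b.1.2 := congrArg Prod.snd h3
    exact Subtype.ext (Prod.ext (Subtype.ext h4) (Subtype.ext h5))
  have hfn : ¬ Function.Surjective f := by
    intro hs
    obtain ⟨a, ha⟩ := hs ⟨(1, y), Commute.one_left y⟩
    have h5 : (a.1.2 : D) = y := congrArg (fun p => p.1.2) ha
    exact hy (h5 ▸ a.1.2.2)
  have h3 : Nat.card {p : U × U // Commute p.1 p.2} < Nat.card {p : D × D // Commute p.1 p.2} := by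
    classical
    let : Fintype {p : U × U // Commute p.1 p.2} := Fintype.ofFinite _
    let : Fintype {p : D × D // Commute p.1 p.2} := Fintype.ofFinite _
    rw [Nat.card_eq_fintype_card, Nat.card_eq_fintype_card]
    exact Fintype.card_lt_of_injective_not_surjective f hf hfn
  rw [h1, h2, ← U.card_mul_index] at h3
  have h4 : 0 < Nat.card U := Nat.card_pos
  have h5 : Nat.card (ConjClasses U) * Nat.card U < (U.index * Nat.card (ConjClasses D)) * Nat.card U := by
    calc _ < _ := h3
      _ = _ := by ring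
  exact Nat.lt_of_mul_lt_mul_right h5

section main

variable {D E : Type u} [Group D] [Finite D] [AddCommGroup E] [Finite E] [DistribMulAction D E] {t : ℕ}
  {W : Fin t → AddSubgroup E} (hW : Blk D E t W)

include hW

omit [Finite D] [Finite E] in
theorem index_stb (i : Fin t) : (stb D (W i)).index = t := by
  let f : D → Fin t := fun d => pm hW d i
  have hs : Function.Surjective f := by
    intro j
    obtain ⟨d, hd⟩ := hW.trans i j
    refine ⟨d, ?_⟩
    obtain ⟨x, hx⟩ := AddSubgroup.ne_bot_iff_exists_ne_zero.1 (hW.ne i)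
    have hx0 : (x : E) ≠ 0 := fun h => hx (Subtype.ext h)
    exact eq_of_mem hW ((smul_ne_zero_iff_ne d).2 hx0) ((pm_spec hW d i x).1 x.2) ((hd x).1 x.2)
  have hrel : ∀ a b : D, f a = f b ↔ a⁻¹ * b ∈ stb D (W i) := by
    intro a b
    constructor
    · intro h e
      have h1 := pm_spec hW b i e
      have h2 := pm_spec hW a i (a⁻¹ • (b • e))
      rw [smul_inv_smul] at h2
      rw [mul_smul, h2, h1]
      show _ ∈ W (f b) ↔ _ ∈ W (f a)
      rw [h]
    · intro h
      obtain ⟨x, hx⟩ := AddSubgroup.ne_bot_iff_exists_ne_zero.1 (hW.ne i)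
      have hx0 : (x : E) ≠ 0 := fun h => hx (Subtype.ext h)
      have h1 := (h x).1 x.2
      have h2 := (pm_spec hW a i _).1 h1
      rw [mul_smul, smul_inv_smul] at h2
      exact eq_of_mem hW ((smul_ne_zero_iff_ne b).2 hx0) h2 ((pm_spec hW b i x).1 x.2)
  have he : (D ⧸ stb D (W i)) ≃ Fin t := by
    refine Equiv.ofBijective (Quotient.lift f fun a b hab => (hrel a b).2 (QuotientGroup.leftRel_apply.1 hab)) ⟨?_, ?_⟩
    · rintro ⟨a⟩ ⟨b⟩ hab
      exact Quotient.sound (QuotientGroup.leftRel_apply.2 ((hrel a b).1 hab))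
    · intro j
      obtain ⟨d, hd⟩ := hs j
      exact ⟨QuotientGroup.mk d, hd⟩
  have h := Nat.card_congr he
  rw [Nat.card_eq_fintype_card (α := Fin t), Fintype.card_fin] at h
  exact h

omit [Finite D] [Finite E] in
/-- the stabilizer is irreducible on `W i` -/
theorem irr_stb (hirr : IrrAct D E) (i : Fin t) (X : AddSubgroup (W i))
    (hX : ∀ (d : stb D (W i)), ∀ w ∈ X, d • w ∈ X) : X = ⊥ ∨ X = ⊤ := by
  let Y : AddSubgroup E :=
    { carrier := {e | ∀ d : D, (⟨cp hW (d • e) i, cp_mem hW _ i⟩ : W i) ∈ X}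
      zero_mem' := by
        intro d
        have : (⟨cp hW (d • (0 : E)) i, cp_mem hW _ i⟩ : W i) = 0 := Subtype.ext (by
          show cp hW (d • (0 : E)) i = 0
          rw [smul_zero, cp_zero])
        rw [this]
        exact zero_mem _
      add_mem' := by
        intro a b ha hb d
        have : (⟨cp hW (d • (a + b)) i, cp_mem hW _ i⟩ : W i) =
            ⟨cp hW (d • a) i, cp_mem hW _ i⟩ + ⟨cp hW (d • b) i, cp_mem hW _ i⟩ := Subtype.ext (by
          show cp hW (d • (a + b)) i = cp hW (d • a) i + cp hW (d • b) i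
          rw [smul_add, cp_add])
        rw [this]
        exact add_mem (ha d) (hb d)
      neg_mem' := by
        intro a ha d
        have : (⟨cp hW (d • (-a)) i, cp_mem hW _ i⟩ : W i) = -⟨cp hW (d • a) i, cp_mem hW _ i⟩ := Subtype.ext (by
          show cp hW (d • (-a)) i = - cp hW (d • a) i
          rw [smul_neg, cp_neg])
        rw [this]
        exact neg_mem (ha d) }
  rcases hirr Y (fun d e he d' => by rw [← mul_smul]; exact he (d' * d)) with h | h
  · left
    rw [eq_bot_iff]
    intro x hx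
    rw [AddSubgroup.mem_bot]
    have hxY : (x : E) ∈ Y := by
      intro d
      by_cases hx0 : x = 0
      · have : (⟨cp hW (d • (x : E)) i, cp_mem hW _ i⟩ : W i) = 0 := Subtype.ext (by
          show cp hW (d • (x : E)) i = 0
          rw [hx0, AddSubgroup.coe_zero, smul_zero, cp_zero])
        rw [this]
        exact zero_mem _
      have hx0' : (x : E) ≠ 0 := fun h => hx0 (Subtype.ext h)
      have h1 := (pm_spec hW d i x).1 x.2
      by_cases hi : i = pm hW d i
      · have hd : d ∈ stb D (W i) := mem_stb_of hW hx0' x.2 (by rw [← hi] at h1; exact h1)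
        have h2 := hX ⟨d, hd⟩ x hx
        have : (⟨cp hW (d • (x : E)) i, cp_mem hW _ i⟩ : W i) = (⟨d, hd⟩ : stb D (W i)) • x := Subtype.ext (by
          show cp hW (d • (x : E)) i = d • (x : E)
          rw [cp_of_mem hW h1, if_pos hi])
        rw [this]
        exact h2
      · have : (⟨cp hW (d • (x : E)) i, cp_mem hW _ i⟩ : W i) = 0 := Subtype.ext (by
          show cp hW (d • (x : E)) i = 0
          rw [cp_of_mem hW h1, if_neg hi])
        rw [this]
        exact zero_mem _
    rw [h, AddSubgroup.mem_bot] at hxY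
    exact Subtype.ext hxY
  · right
    rw [eq_top_iff]
    intro x _
    have hxY : (x : E) ∈ Y := by rw [h]; trivial
    have h1 := hxY 1
    have : (⟨cp hW ((1 : D) • (x : E)) i, cp_mem hW _ i⟩ : W i) = x := Subtype.ext (by
      show cp hW ((1 : D) • (x : E)) i = x
      rw [one_smul, cp_of_mem hW x.2, if_pos rfl])
    rwa [this] at h1

/-- elements carrying the block `i` to the block `j` -/
noncomputable def dd (i j : Fin t) : D := (hW.trans i j).choose

omit [Finite D] [Finite E] in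
theorem dd_spec (i j : Fin t) (e : E) : e ∈ W i ↔ dd hW i j • e ∈ W j := (hW.trans i j).choose_spec e

/-- the sum of the first copies of `w` -/
noncomputable def vv (i j : Fin t) (w : W i) : E := ∑ l, if l ≤ j then dd hW i l • (w : E) else 0

omit [Finite D] [Finite E] in
theorem cp_vv (i j : Fin t) (w : W i) : cp hW (vv hW i j w) = fun l => if l ≤ j then dd hW i l • (w : E) else 0 := by
  refine cp_eq hW (fun l => ?_) rfl
  by_cases h : l ≤ j
  · simp only [h, if_true]
    exact (dd_spec hW i l w).1 w.2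
  · simp only [h, if_false]
    exact zero_mem _

omit [Finite D] [Finite E] in
theorem wt_vv (i j : Fin t) {w : W i} (hw : w ≠ 0) : wt hW (vv hW i j w) = (j : ℕ) + 1 := by
  have hw0 : (w : E) ≠ 0 := fun h => hw (Subtype.ext h)
  have h1 : ∀ l : Fin t, cp hW (vv hW i j w) l ≠ 0 ↔ l ≤ j := by
    intro l
    rw [cp_vv]
    by_cases h : l ≤ j
    · simp only [h, if_true, iff_true]
      exact (smul_ne_zero_iff_ne _).2 hw0
    · simp only [h, if_false, ne_eq, not_true_eq_false]
  have h2 : wt hW (vv hW i j w) = Nat.card {l : Fin t // l ≤ j} :=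
    Nat.card_congr (Equiv.subtypeEquivRight h1)
  rw [h2, Nat.card_eq_fintype_card]
  have h3 : Fintype.card {l : Fin t // l ≤ j} = (Finset.Iic j).card := by
    rw [Fintype.card_subtype]
    congr 1
    ext l
    simp only [_root_.Finset.mem_filter, _root_.Finset.mem_univ, _root_.true_and, _root_.Finset.mem_Iic]
  rw [h3, Fin.card_Iic]

omit [Finite D] in
theorem orb_le (i : Fin t) : t * orb (stb D (W i)) (W i) ≤ orb D E := by
  classical
  let Q := MulAction.orbitRel.Quotient (stb D (W i)) (W i)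
  let q0 : Q := Quotient.mk'' 0
  let f : Option (Fin t × {q : Q // q ≠ q0}) → MulAction.orbitRel.Quotient D E := fun o => match o with
    | none => Quotient.mk'' 0
    | some (j, q) => Quotient.mk'' (vv hW i j q.1.out)
  have hne : ∀ q : {q : Q // q ≠ q0}, q.1.out ≠ 0 := by
    intro q hq
    apply q.2
    have h1 : (Quotient.mk'' (q.1.out) : Q) = q.1 := Quotient.out_eq' q.1
    rw [← h1, hq]
  have hzero : ∀ (j : Fin t) (q : {q : Q // q ≠ q0}),
      (Quotient.mk'' (vv hW i j q.1.out) : MulAction.orbitRel.Quotient D E) ≠ Quotient.mk'' 0 := by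
    intro j q h
    have h1 : vv hW i j q.1.out ∈ MulAction.orbit D (0 : E) := MulAction.orbitRel_apply.1 (Quotient.eq''.1 h)
    obtain ⟨d, hd⟩ := h1
    have hd' : d • (0 : E) = vv hW i j q.1.out := hd
    rw [smul_zero] at hd'
    have h2 := wt_vv hW i j (hne q)
    rw [← hd'] at h2
    have h3 : wt hW (0 : E) = 0 := by
      unfold wt
      rw [Nat.card_eq_zero]
      left
      exact ⟨fun l => l.2 (cp_zero hW l.1)⟩
    omega
  have hf : Function.Injective f := by
    rintro (_ | ⟨j, q⟩) (_ | ⟨j', q'⟩) h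
    · rfl
    · exact absurd h.symm (hzero j' q')
    · exact absurd h (hzero j q)
    · have h1 : vv hW i j q.1.out ∈ MulAction.orbit D (vv hW i j' q'.1.out) :=
        MulAction.orbitRel_apply.1 (Quotient.eq''.1 h)
      obtain ⟨d, hd⟩ := h1
      have hd' : d • vv hW i j' q'.1.out = vv hW i j q.1.out := hd
      have hw := wt_smul hW d (vv hW i j' q'.1.out)
      rw [hd', wt_vv hW i j (hne q), wt_vv hW i j' (hne q')] at hw
      have hj : j = j' := Fin.ext (by omega)
      subst hj
      -- a nonzero component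
      have h2 := cp_smul hW d (vv hW i j q'.1.out) j
      rw [hd', cp_vv, cp_vv] at h2
      simp only [le_refl, if_true] at h2
      have hq'0 : ((q'.1.out : W i) : E) ≠ 0 := fun h => hne q' (Subtype.ext h)
      by_cases hl : pm hW d j ≤ j
      · rw [if_pos hl] at h2
        set u : D := (dd hW i (pm hW d j))⁻¹ * d * dd hW i j with hu
        have h3 : u • ((q'.1.out : W i) : E) = q.1.out := by
          rw [hu, mul_smul, mul_smul, ← h2, inv_smul_smul]
        have hus : u ∈ stb D (W i) := mem_stb_of hW hq'0 (q'.1.out).2 (by rw [h3]; exact (q.1.out).2)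
        have h4 : q.1 = q'.1 := by
          have e1 : (Quotient.mk'' (q.1.out) : Q) = q.1 := Quotient.out_eq' q.1
          have e2 : (Quotient.mk'' (q'.1.out) : Q) = q'.1 := Quotient.out_eq' q'.1
          rw [← e1, ← e2]
          refine Quotient.eq''.2 (MulAction.orbitRel_apply.2 ⟨⟨u, hus⟩, Subtype.ext ?_⟩)
          exact h3
        rw [Subtype.ext h4]
      · rw [if_neg hl] at h2
        exact absurd h2.symm ((smul_ne_zero_iff_ne _).2 ((smul_ne_zero_iff_ne _).2 hq'0))
  have h1 := Nat.card_le_card_of_injective f hf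
  rw [Finite.card_option, Nat.card_prod, Nat.card_eq_fintype_card (α := Fin t), Fintype.card_fin] at h1
  have h2 : Nat.card {q : Q // q ≠ q0} = Nat.card Q - 1 := by
    let : Fintype Q := Fintype.ofFinite Q
    rw [Nat.card_eq_fintype_card, Nat.card_eq_fintype_card, Fintype.card_subtype_compl, Fintype.card_subtype_eq]
  rw [h2] at h1
  show t * (Nat.card Q - 1) ≤ Nat.card (MulAction.orbitRel.Quotient D E) - 1
  omega

end main

section range

variable {U V : Type u} [Group U] [AddCommGroup V] [DistribMulAction U V]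

/-- the group induced on `V` -/
abbrev rg (U V : Type u) [Group U] [AddCommGroup V] [DistribMulAction U V] : Subgroup (Equiv.Perm V) :=
  (MulAction.toPermHom U V).range

instance rgAct : DistribMulAction (rg U V) V where
  smul_zero := by
    rintro ⟨_, u, rfl⟩
    exact smul_zero u
  smul_add := by
    rintro ⟨_, u, rfl⟩ v w
    exact smul_add u v w

theorem card_rg_dvd [Finite U] : Nat.card (rg U V) ∣ Nat.card U :=
  Subgroup.card_range_dvd _

theorem classes_rg [Finite U] : Nat.card (ConjClasses (rg U V)) ≤ Nat.card (ConjClasses U) :=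
  Nat.card_le_card_of_surjective _ (ConjClasses.map_surjective (MulAction.toPermHom U V).rangeRestrict_surjective)

theorem orb_rg [Finite V] : orb (rg U V) V ≤ orb U V := by
  unfold orb
  refine Nat.sub_le_sub_right ?_ 1
  refine Nat.card_le_card_of_surjective (Quotient.map' (s₁ := MulAction.orbitRel U V)
    (s₂ := MulAction.orbitRel (rg U V) V) id fun a b hab => ?_) ?_
  · obtain ⟨u, hu⟩ := MulAction.orbitRel_apply.1 hab
    exact MulAction.orbitRel_apply.2 ⟨⟨MulAction.toPermHom U V u, ⟨u, rfl⟩⟩, hu⟩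
  · rintro ⟨v⟩
    exact ⟨Quotient.mk'' v, rfl⟩

end range

variable {D E : Type u} [Group D] [Finite D] [AddCommGroup E] [Finite E] [Nontrivial E] [DistribMulAction D E]
  [FaithfulSMul D E]

theorem ps_imprim {p : ℕ} (hp : p.Prime) (hpE : ∀ e : E, p • e = 0) (hcop : ¬ p ∣ Nat.card D)
    (hirr : IrrAct D E) {t : ℕ} (ht : 2 ≤ t) (W : Fin t → AddSubgroup E) (hW : Blk D E t W)
    (IH : ∀ (D' E' : Type u) [Group D'] [Finite D'] [AddCommGroup E'] [Finite E'] [Nontrivial E']
      [DistribMulAction D' E'] [FaithfulSMul D' E'], (∀ e : E', p • e = 0) → ¬ p ∣ Nat.card D' → IrrAct D' E' →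
      Nat.card E' < Nat.card E → p - 1 ≤ orb D' E' * Nat.card (ConjClasses D')) :
    p - 1 < orb D E * Nat.card (ConjClasses D) := by
  let i : Fin t := ⟨0, by omega⟩
  let U := stb D (W i)
  have hUi : U.index = t := index_stb hW i
  have hU : U ≠ ⊤ := by
    intro h
    rw [h, Subgroup.index_top] at hUi
    omega
  have hnt : Nontrivial (W i) := (AddSubgroup.nontrivial_iff_ne_bot _).2 (hW.ne i)
  have hlt : Nat.card (W i) < Nat.card E := by
    have h1 := AddSubgroup.card_addSubgroup_dvd_card (W i)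
    refine lt_of_le_of_ne (Nat.le_of_dvd Nat.card_pos h1) fun h => ?_
    have h2 : W i = ⊤ := AddSubgroup.eq_top_of_card_eq _ h
    let j : Fin t := ⟨1, by omega⟩
    obtain ⟨x, hx⟩ := AddSubgroup.ne_bot_iff_exists_ne_zero.1 (hW.ne j)
    have h3 : i = j := eq_of_mem hW (fun h => hx (Subtype.ext h)) (by rw [h2]; trivial) x.2
    have h4 : (0 : ℕ) = 1 := congrArg Fin.val h3
    omega
  have hcop' : ¬ p ∣ Nat.card (rg U (W i)) := fun h =>
    hcop ((h.trans card_rg_dvd).trans (Subgroup.card_subgroup_dvd_card U))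
  have hirr' : IrrAct (rg U (W i)) (W i) := by
    intro X hX
    exact irr_stb hW hirr i X fun d w hw => hX ⟨MulAction.toPermHom U (W i) d, ⟨d, rfl⟩⟩ w hw
  have h1 := IH (rg U (W i)) (W i) (fun e => Subtype.ext (by
    show ((p • e : W i) : E) = 0
    rw [AddSubgroup.coe_nsmul]
    exact hpE e)) hcop' hirr' hlt
  have h2 := orb_le hW i
  have h3 := card_classes_lt U hU
  rw [hUi] at h3
  have h4 := orb_rg (U := U) (V := W i)
  have h5 := classes_rg (U := U) (V := W i)
  have hp2 := hp.two_le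
  have h6 : orb (rg U (W i)) (W i) * Nat.card (ConjClasses (rg U (W i))) ≤ orb U (W i) * Nat.card (ConjClasses U) :=
    Nat.mul_le_mul h4 h5
  have h7 : 0 < orb U (W i) := by
    rcases Nat.eq_zero_or_pos (orb U (W i)) with h0 | h0
    · rw [h0, zero_mul] at h6
      omega
    · exact h0
  calc p - 1 ≤ _ := h1
    _ ≤ _ := h6
    _ < orb U (W i) * (t * Nat.card (ConjClasses D)) := Nat.mul_lt_mul_of_pos_left h3 h7
    _ = (t * orb U (W i)) * Nat.card (ConjClasses D) := by ring
    _ ≤ _ := Nat.mul_le_mul_right _ h2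

end Cfsg.Agent.H41.Imprim
end

private theorem dce_e4cffcd2a266 : _root_.True := by
  try have : _root_.True := by simp only [_root_.Cfsg.Agent.H41.Imprim.pm.congr_simp]
  try have : _root_.True := by simp only [_root_.Cfsg.Agent.H41.Imprim.dd.congr_simp]
  exact _root_.True.intro
end

-- part: H813/S4790/Frame
section
prune_inst 0x405700c007140120000000000c0200020140001020040000060000d02090a106080c200810e000c16182800810001000003dc0030420000000a00000000050020900010048208090406000f000080000000000000010000000000000000041004000000002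
set_option linter.all false
open scoped Cfsg.Agent.FastGrp

-- part: H813/S4790/Idem
section
/-!
# S4790, T3: idempotents, blocks and the semisimple ring generated by a normal subgroup (helper813)

* `one_mem_of_semisimple` : a nonzero two-sided ideal of a semisimple ring without central idempotents is everything;
* `idem_trivial` : for a primitive group the idempotents of a commutative normalised set of endomorphisms are trivial;
* `inj_of_reduced` : a commutative normalised reduced ring of endomorphisms acts by injective maps.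
-/

set_option autoImplicit false

namespace Cfsg.Agent.H813.S4790

open Cfsg.Agent.H717.FieldOf Cfsg.Agent.H697.Alm Cfsg.Agent.H698.Idem

universe u v

/-! ### Semisimple rings -/

theorem eq_zero_of_central_sq {R : Type*} [Ring R] [IsSemisimpleRing R] {z : R} (hz : ∀ r, z * r = r * z)
    (h2 : z * z = 0) : z = 0 := by
  obtain ⟨e, he, hI⟩ := IsSemisimpleRing.ideal_eq_span_idempotent (Ideal.span {z})
  have h1 : e ∈ Ideal.span {z} := by rw [hI]; exact Ideal.mem_span_singleton_self e
  have h3 : z ∈ Ideal.span {e} := by rw [← hI]; exact Ideal.mem_span_singleton_self z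
  obtain ⟨r, hr⟩ := Ideal.mem_span_singleton'.1 h1
  obtain ⟨s, hs⟩ := Ideal.mem_span_singleton'.1 h3
  have h4 : e = 0 := by
    rw [← he.eq, ← hr]
    calc r * z * (r * z) = r * (z * r) * z := by simp only [mul_assoc]
      _ = r * (r * z) * z := by rw [hz]
      _ = r * r * (z * z) := by simp only [mul_assoc]
      _ = 0 := by rw [h2, mul_zero]
  rw [← hs, h4, mul_zero]

theorem one_mem_of_semisimple {R : Type*} [Ring R] [IsSemisimpleRing R]
    (hc : ∀ e : R, IsIdempotentElem e → (∀ r, e * r = r * e) → e = 0 ∨ e = 1) (I : Ideal R)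
    (hI : ∀ y ∈ I, ∀ r, y * r ∈ I) (hne : I ≠ ⊥) : (1 : R) ∈ I := by
  obtain ⟨e, he, hIe⟩ := IsSemisimpleRing.ideal_eq_span_idempotent I
  have heI : e ∈ I := by rw [hIe]; exact Ideal.mem_span_singleton_self e
  -- right identity
  have h1 : ∀ y ∈ I, y * e = y := by
    intro y hy
    rw [hIe] at hy
    obtain ⟨a, rfl⟩ := Ideal.mem_span_singleton'.1 hy
    rw [mul_assoc, he.eq]
  -- left identity
  have h2 : ∀ y ∈ I, e * y = y := by
    intro y hy
    obtain ⟨w, hw⟩ : ∃ w, w = y - e * y := ⟨_, rfl⟩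
    have hwI : w ∈ I := by rw [hw]; exact I.sub_mem hy (I.mul_mem_left e hy)
    have h3 : ∀ z ∈ I, z * w = 0 := by
      intro z hz
      rw [hw, mul_sub, ← mul_assoc, h1 z hz, sub_self]
    obtain ⟨g, hg, hJ⟩ := IsSemisimpleRing.ideal_eq_span_idempotent (Ideal.span {w})
    have h4 : g ∈ Ideal.span {w} := by rw [hJ]; exact Ideal.mem_span_singleton_self g
    obtain ⟨r, hr⟩ := Ideal.mem_span_singleton'.1 h4
    have h5 : g = 0 := by
      rw [← hg.eq, ← hr]
      calc r * w * (r * w) = r * ((w * r) * w) := by simp only [mul_assoc]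
        _ = 0 := by rw [h3 _ (hI w hwI r), mul_zero]
    have h6 : w ∈ Ideal.span {g} := by rw [← hJ]; exact Ideal.mem_span_singleton_self w
    obtain ⟨s, hs⟩ := Ideal.mem_span_singleton'.1 h6
    rw [h5, mul_zero] at hs
    rw [← hs] at hw
    exact (sub_eq_zero.1 hw.symm).symm
  have h3 : ∀ r, e * r = r * e := by
    intro r
    rw [← h1 _ (hI e heI r), ← h2 _ (I.mul_mem_left r heI), mul_assoc]
  rcases hc e he h3 with h4 | h4
  · exfalso
    apply hne
    rw [hIe, h4, Ideal.span_singleton_eq_bot]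
  · rw [← h4]; exact heI

/-! ### Idempotents give blocks -/

variable {D : Type v} {E : Type u} [Group D] [AddCommGroup E] [DistribMulAction D E]

/-- **the idempotents of a commutative normalised set are trivial** -/
theorem idem_trivial [Finite D] [Finite E] (hirr : IrrAct D E) (hprim : Prim D E)
    (B : Set (AddMonoid.End E)) (hBc : ∀ a ∈ B, ∀ b ∈ B, a * b = b * a)
    (hBm : ∀ a ∈ B, ∀ b ∈ B, a * b ∈ B) (hBd : ∀ (d : D), ∀ b ∈ B, cj E d b ∈ B) {e₀ : AddMonoid.End E}
    (he₀ : e₀ ∈ B) (hi₀ : e₀ * e₀ = e₀) : e₀ = 0 ∨ e₀ = 1 := by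
  classical
  by_contra hcon01
  rw [not_or] at hcon01
  obtain ⟨h0, h1⟩ := hcon01
  have hfin : Finite (AddMonoid.End E) := finite_end
  -- a minimal idempotent
  let P : AddMonoid.End E → Prop := fun e => e ∈ B ∧ e * e = e ∧ e ≠ 0
  have hex : ∃ n : ℕ, ∃ e, P e ∧ Nat.card (rg e) = n := ⟨_, e₀, ⟨he₀, hi₀, h0⟩, rfl⟩
  obtain ⟨e, ⟨heB, hei, he0⟩, hen⟩ := Nat.find_spec hex
  have hmin : ∀ g, P g → Nat.card (rg e) ≤ Nat.card (rg g) := by
    intro g hg
    rw [hen]
    exact Nat.find_min' hex ⟨g, hg, rfl⟩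
  have hrange1 : ∀ g : AddMonoid.End E, g * g = g → g ≠ 1 → Nat.card (rg g) < Nat.card E := by
    intro g hg hg1
    rw [← AddSubgroup.card_top (G := E)]
    apply lt_of_le_of_ne (AddSubgroup.card_le_of_le le_top)
    intro h
    have h3 : rg g = ⊤ := AddSubgroup.eq_top_of_card_eq _ (by rw [h, AddSubgroup.card_top])
    apply hg1
    refine AddMonoidHom.ext fun v => ?_
    have h4 : v ∈ rg g := by rw [h3]; trivial
    obtain ⟨w, rfl⟩ := h4
    exact DFunLike.congr_fun hg w
  have he1 : e ≠ 1 := by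
    rintro rfl
    have h3 := hmin e₀ ⟨he₀, hi₀, h0⟩
    have h4 := hrange1 e₀ hi₀ h1
    have h5 : Nat.card (rg (1 : AddMonoid.End E)) = Nat.card E := by
      rw [show rg (1 : AddMonoid.End E) = ⊤ from by rw [eq_top_iff]; exact fun v _ => ⟨v, rfl⟩,
        AddSubgroup.card_top]
    omega
  -- conjugates
  let X : Set (AddMonoid.End E) := Set.range fun d : D => cj E d e
  have hXP : ∀ g ∈ X, g ∈ B ∧ g * g = g ∧ g ≠ 0 ∧ Nat.card (rg g) = Nat.card (rg e) := by
    rintro _ ⟨d, rfl⟩
    refine ⟨hBd d e heB, by rw [← map_mul, hei],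
      fun h => he0 (cj_injective d (h.trans (map_zero (cj E d)).symm)), card_range_cj d e⟩
  have hXd : ∀ (d : D), ∀ g ∈ X, cj E d g ∈ X := by
    rintro d _ ⟨c, rfl⟩
    exact ⟨d * c, cj_mul d c e⟩
  have horth : ∀ g ∈ X, ∀ k ∈ X, g ≠ k → g * k = 0 := by
    intro g hg k hk hne
    by_contra hcon
    obtain ⟨gB, gi, g0, gc⟩ := hXP g hg
    obtain ⟨kB, ki, k0, kc⟩ := hXP k hk
    have hc := hBc g gB k kB
    have hPgk : P (g * k) := by
      refine ⟨hBm g gB k kB, ?_, hcon⟩
      calc g * k * (g * k) = g * (k * g) * k := by simp only [mul_assoc]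
        _ = g * (g * k) * k := by rw [← hc]
        _ = (g * g) * (k * k) := by simp only [mul_assoc]
        _ = g * k := by rw [gi, ki]
    have h3 := hmin _ hPgk
    have hsub1 : rg (g * k) ≤ rg g := by
      rintro _ ⟨v, rfl⟩
      exact ⟨k v, rfl⟩
    have hsub2 : rg (g * k) ≤ rg k := by
      rw [hc]
      rintro _ ⟨v, rfl⟩
      exact ⟨g v, rfl⟩
    have e1 : rg (g * k) = rg g :=
      AddSubgroup.eq_of_le_of_card_ge hsub1 (by rw [gc]; exact h3)
    have e2 : rg (g * k) = rg k :=
      AddSubgroup.eq_of_le_of_card_ge hsub2 (by rw [kc]; exact h3)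
    have e3 : rg g = rg k := e1.symm.trans e2
    apply hne
    have e4 : g * k = k := by
      refine AddMonoidHom.ext fun v => ?_
      have h4 : k v ∈ rg g := by rw [e3]; exact ⟨v, rfl⟩
      obtain ⟨w, hw⟩ := h4
      change g (k v) = k v
      rw [← hw]
      exact DFunLike.congr_fun gi w
    have e5 : k * g = g := by
      refine AddMonoidHom.ext fun v => ?_
      have h4 : g v ∈ rg k := by rw [← e3]; exact ⟨v, rfl⟩
      obtain ⟨w, hw⟩ := h4
      change k (g v) = g v
      rw [← hw]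
      exact DFunLike.congr_fun ki w
    rw [← e5, ← hc, e4]
  have horth' : ∀ g ∈ X, ∀ k ∈ X, g ≠ k → ∀ v, g (k v) = 0 := fun g hg k hk hne v =>
    DFunLike.congr_fun (horth g hg k hk hne) v
  have hidem' : ∀ g ∈ X, ∀ v, g (g v) = g v := fun g hg v => DFunLike.congr_fun (hXP g hg).2.1 v
  have heX : e ∈ X := ⟨1, cj_one e⟩
  -- the sum of the conjugates
  have : Fintype X := Fintype.ofFinite X
  let s : E → E := fun v => ∑ x : X, (x : AddMonoid.End E) v
  have hsd : ∀ (d : D) (v : E), s (d • v) = d • s v := by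
    intro d v
    change ∑ x : X, (x : AddMonoid.End E) (d • v) = d • ∑ x : X, (x : AddMonoid.End E) v
    rw [Finset.smul_sum]
    let f : X → X := fun x => ⟨cj E d x, hXd d x x.2⟩
    have hf : Function.Bijective f := by
      rw [← Finite.injective_iff_bijective]
      intro a b hab
      exact Subtype.ext (cj_injective d (congrArg Subtype.val hab))
    rw [← hf.sum_comp (fun x : X => (x : AddMonoid.End E) (d • v))]
    refine Finset.sum_congr rfl fun x _ => ?_
    exact cj_smul d (x : AddMonoid.End E) v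
  have hsg : ∀ (g : X) (v : E), s ((g : AddMonoid.End E) v) = (g : AddMonoid.End E) v := by
    intro g v
    change ∑ x : X, (x : AddMonoid.End E) ((g : AddMonoid.End E) v) = _
    rw [Finset.sum_eq_single g]
    · exact hidem' g g.2 v
    · intro x _ hx
      exact horth' x x.2 g g.2 (fun h => hx (Subtype.ext h)) v
    · intro h; exact absurd (Finset.mem_univ g) h
  have hsadd : ∀ v w : E, s (v + w) = s v + s w := by
    intro v w
    change ∑ x : X, (x : AddMonoid.End E) (v + w) = _
    rw [Finset.sum_congr rfl fun (x : X) _ => map_add (x : AddMonoid.End E) v w, Finset.sum_add_distrib]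
  let sH : AddMonoid.End E := AddMonoidHom.mk' s hsadd
  have hsH : ∀ v, sH v = s v := fun _ => rfl
  have hs1 : ∀ v : E, s v = v := by
    have hinv : ∀ (d : D), ∀ w ∈ rg sH, d • w ∈ rg sH := by
      rintro d _ ⟨w, rfl⟩
      exact ⟨d • w, by rw [hsH, hsH, hsd]⟩
    have hss : ∀ v, s (s v) = s v := by
      intro v
      change s (∑ x : X, (x : AddMonoid.End E) v) = ∑ x : X, (x : AddMonoid.End E) v
      rw [← hsH, map_sum]
      exact Finset.sum_congr rfl fun x _ => hsg x v
    rcases hirr _ hinv with h3 | h3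
    · exfalso
      apply he0
      refine AddMonoidHom.ext fun v => ?_
      have h4 : e v ∈ rg sH := ⟨e v, hsg ⟨e, heX⟩ v⟩
      rw [h3] at h4
      exact h4
    · intro v
      have h4 : v ∈ rg sH := by rw [h3]; trivial
      obtain ⟨w, rfl⟩ := h4
      exact hss w
  -- the blocks
  let eqv : Fin (Fintype.card X) ≃ X := (Fintype.equivFin X).symm
  let W : Fin (Fintype.card X) → AddSubgroup E := fun i => rg (eqv i : AddMonoid.End E)
  have hWd : ∀ (d : D) (g : AddMonoid.End E) (v : E), v ∈ rg g ↔ d • v ∈ rg (cj E d g) := by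
    intro d g v
    constructor
    · rintro ⟨w, rfl⟩
      exact ⟨d • w, cj_smul d g w⟩
    · rintro ⟨w, hw⟩
      refine ⟨d⁻¹ • w, ?_⟩
      rw [cj_apply'] at hw
      exact (smul_left_cancel d hw)
  have hblk : Blk D E (Fintype.card X) W := by
    refine ⟨?_, ?_, ?_, ?_⟩
    · intro d i
      refine ⟨eqv.symm ⟨cj E d (eqv i : AddMonoid.End E), hXd d _ (eqv i).2⟩, fun v => ?_⟩
      change v ∈ rg (eqv i : AddMonoid.End E) ↔ d • v ∈ rg ((eqv (eqv.symm _) : X) : AddMonoid.End E)
      rw [Equiv.apply_symm_apply]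
      exact hWd d _ v
    · intro i j
      obtain ⟨a, ha⟩ := (eqv i).2
      obtain ⟨b, hb⟩ := (eqv j).2
      refine ⟨b * a⁻¹, fun v => ?_⟩
      change v ∈ rg (eqv i : AddMonoid.End E) ↔ (b * a⁻¹) • v ∈ rg (eqv j : AddMonoid.End E)
      have h3 : (eqv j : AddMonoid.End E) = cj E (b * a⁻¹) (eqv i : AddMonoid.End E) := by
        rw [← ha, ← hb]
        simp only
        rw [← cj_mul]
        group
      rw [h3]
      exact hWd _ _ v
    · intro i h3
      apply (hXP _ (eqv i).2).2.2.1
      refine AddMonoidHom.ext fun v => ?_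
      have h4 : (eqv i : AddMonoid.End E) v ∈ W i := ⟨v, rfl⟩
      rw [h3] at h4
      exact h4
    · intro v
      refine ⟨fun i => (eqv i : AddMonoid.End E) v, ⟨fun i => ⟨v, rfl⟩, ?_⟩, ?_⟩
      · rw [← hs1 v]
        change ∑ i, (eqv i : AddMonoid.End E) (s v) = s v
        rw [hs1 v]
        exact (eqv.sum_comp (fun x : X => (x : AddMonoid.End E) v)).trans (hs1 v)
      · rintro c ⟨hc1, hc2⟩
        funext k
        rw [← hc2, map_sum, Finset.sum_eq_single k]
        · obtain ⟨w, hw⟩ := hc1 k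
          rw [← hw]
          exact (hidem' _ (eqv k).2 w).symm
        · intro i _ hik
          obtain ⟨w, hw⟩ := hc1 i
          rw [← hw]
          exact horth' _ (eqv k).2 _ (eqv i).2 (fun h => hik (eqv.injective (Subtype.ext h)).symm) w
        · intro h; exact absurd (Finset.mem_univ k) h
  have hle := hprim _ W hblk
  -- only one conjugate
  apply he1
  have hsub : Subsingleton X := Fintype.card_le_one_iff_subsingleton.1 hle
  refine AddMonoidHom.ext fun v => ?_
  have h3 := hs1 v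
  change ∑ x : X, (x : AddMonoid.End E) v = v at h3
  rw [Fintype.sum_eq_single (⟨e, heX⟩ : X) (fun x hx => absurd (Subsingleton.elim _ _) hx)] at h3
  exact h3

/-- **a reduced commutative normalised ring acts by injective maps** -/
theorem inj_of_reduced [Finite D] [Finite E] (hirr : IrrAct D E) (hprim : Prim D E)
    (L : Subring (AddMonoid.End E)) (hLc : ∀ a ∈ L, ∀ b ∈ L, a * b = b * a)
    (hLd : ∀ (d : D), ∀ b ∈ L, cj E d b ∈ L) (hred : ∀ z ∈ L, z * z = 0 → z = 0) {r : AddMonoid.End E}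
    (hr : r ∈ L) {v : E} (hv : v ≠ 0) (hrv : r v = 0) : r = 0 := by
  have hfin : Finite (AddMonoid.End E) := finite_end
  by_contra hr0
  -- powers are nonzero
  have hpow : ∀ n : ℕ, r ^ n ≠ 0 := by
    have h2 : ∀ k : ℕ, r ^ (2 ^ k) ≠ 0 := by
      intro k
      induction k with
      | zero => rw [pow_zero, pow_one]; exact hr0
      | succ k ih =>
        intro h
        apply ih
        apply hred _ (pow_mem hr _)
        rw [← pow_add, ← two_mul, ← pow_succ']
        exact h
    intro n h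
    apply h2 n
    obtain ⟨c, hc⟩ : ∃ c, 2 ^ n = n + c := ⟨2 ^ n - n, by have := (Nat.lt_two_pow_self (n := n)).le; omega⟩
    rw [hc, pow_add, h, zero_mul]
  obtain ⟨a, b, hab, he⟩ := Finite.exists_ne_map_eq_of_infinite (fun n : ℕ => r ^ n)
  wlog hlt : a < b generalizing a b
  · exact this b a hab.symm he.symm (by omega)
  obtain ⟨c, rfl⟩ : ∃ c, b = a + (c + 1) := ⟨b - a - 1, by omega⟩
  have h1 : ∀ n, a ≤ n → r ^ (n + (c + 1)) = r ^ n := by
    intro n hn
    obtain ⟨m, rfl⟩ := Nat.exists_eq_add_of_le hn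
    rw [show a + m + (c + 1) = m + (a + (c + 1)) by ring, pow_add, ← he, ← pow_add, add_comm]
  have h2 : ∀ (k n : ℕ), a ≤ n → r ^ (n + k * (c + 1)) = r ^ n := by
    intro k
    induction k with
    | zero => intro n _; rw [zero_mul, add_zero]
    | succ k ih =>
      intro n hn
      rw [show n + (k + 1) * (c + 1) = (n + k * (c + 1)) + (c + 1) by ring, h1 _ (by omega), ih n hn]
  let e := r ^ ((a + 1) * (c + 1))
  have hee : e * e = e := by
    change r ^ ((a + 1) * (c + 1)) * r ^ ((a + 1) * (c + 1)) = _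
    rw [← pow_add]
    exact h2 (a + 1) _ (by nlinarith)
  have heL : e ∈ L := pow_mem hr _
  rcases idem_trivial hirr hprim (L : Set (AddMonoid.End E)) hLc (fun a ha b hb => mul_mem ha hb) hLd heL hee with h3 | h3
  · exact hpow _ h3
  · have h4 : e v = 0 := by
      change (r ^ ((a + 1) * (c + 1))) v = 0
      have h5 : 0 < (a + 1) * (c + 1) := by positivity
      obtain ⟨m, hm⟩ : ∃ m, (a + 1) * (c + 1) = m + 1 := ⟨(a + 1) * (c + 1) - 1, by omega⟩
      rw [hm, pow_succ]
      change (r ^ m) (r v) = 0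
      rw [hrv, map_zero]
    rw [h3] at h4
    exact hv h4

end Cfsg.Agent.H813.S4790
end

-- part: H813/S4790/Frame
section
/-!
# S4790, T3: the frame (helper813)
-/

set_option autoImplicit false
set_option linter.style.haveILetI false

namespace Cfsg.Agent.H813.S4790

open Cfsg.Agent.H717.FieldOf Cfsg.Agent.H697.Alm Cfsg.Agent.H698.Idem

universe u v w

variable {D : Type v} {E : Type u} [Group D] [AddCommGroup E] [DistribMulAction D E]

section field

variable {F : Type w} [Field F] [Module F E]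

/-- the linear map of an element of `CF` -/
def lin (E : Type u) (F : Type w) [AddCommGroup E] [DistribMulAction D E] [Field F] [Module F E] {n : D}
    (hn : n ∈ CF D E F) : Module.End F E where
  toFun e := n • e
  map_add' := smul_add n
  map_smul' c e := hn c e

theorem lin_mem {N : Subgroup D} {n : D} (hn : n ∈ CF D E F) (hnN : n ∈ N) : lin E F hn ∈ alg E F N :=
  Algebra.subset_adjoin ⟨n, hnN, fun _ => rfl⟩

/-- the ring generated by a finite group of invertible order is semisimple -/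
theorem semisimple_alg [Finite D] (N : Subgroup D) (hN : N ≤ CF D E F) [NeZero (Nat.card N : F)] :
    IsSemisimpleRing (alg E F N) := by
  let ρ : N →* alg E F N :=
    { toFun := fun n => ⟨lin E F (hN n.2), lin_mem (hN n.2) n.2⟩
      map_one' := Subtype.ext (LinearMap.ext fun e => one_smul D e)
      map_mul' := fun a b => Subtype.ext (LinearMap.ext fun e => mul_smul (a : D) (b : D) e) }
  let f : MonoidAlgebra F N →ₐ[F] alg E F N := MonoidAlgebra.lift F (alg E F N) N ρ
  have hρ : ∀ n : N, f (MonoidAlgebra.of F N n) = ρ n := fun n => MonoidAlgebra.lift_of ρ n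
  have hsurj : Function.Surjective f := by
    rintro ⟨x, hx⟩
    have h1 : alg E F N ≤ ((alg E F N).val.comp f).range := by
      refine Algebra.adjoin_le ?_
      rintro g ⟨n, hn, hg⟩
      refine ⟨MonoidAlgebra.of F N ⟨n, hn⟩, ?_⟩
      change ((f (MonoidAlgebra.of F N ⟨n, hn⟩) : alg E F N) : Module.End F E) = g
      rw [hρ]
      exact LinearMap.ext fun e => (hg e).symm
    obtain ⟨y, hy⟩ := h1 hx
    exact ⟨y, Subtype.ext hy⟩
  exact RingHom.isSemisimpleRing_of_surjective (f : MonoidAlgebra F N →+* alg E F N) hsurj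

/-- the algebra is normalised -/
theorem alg_conj (hnorm : ∀ (d : D) (c : F), ∃ c' : F, ∀ e : E, d • (c • e) = c' • (d • e)) {N : Subgroup D}
    [hNn : N.Normal] (hN : N ≤ CF D E F) (d : D) {x : Module.End F E} (hx : x ∈ alg E F N) :
    ∃ y ∈ alg E F N, ∀ e : E, y e = d • x (d⁻¹ • e) := by
  unfold alg at hx
  induction hx using Algebra.adjoin_induction with
  | mem g hg =>
    obtain ⟨n, hn, hg⟩ := hg
    have h1 : d * n * d⁻¹ ∈ N := hNn.conj_mem n hn d
    refine ⟨lin E F (hN h1), lin_mem (hN h1) h1, fun e => ?_⟩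
    change (d * n * d⁻¹) • e = d • g (d⁻¹ • e)
    rw [hg, mul_smul, mul_smul]
  | algebraMap c =>
    obtain ⟨c', hc'⟩ := hnorm d c
    refine ⟨algebraMap F _ c', Subalgebra.algebraMap_mem _ _, fun e => ?_⟩
    change c' • e = d • (c • (d⁻¹ • e))
    rw [hc', smul_inv_smul]
  | add a b _ _ ha hb =>
    obtain ⟨a', ha', ha⟩ := ha
    obtain ⟨b', hb', hb⟩ := hb
    refine ⟨a' + b', add_mem ha' hb', fun e => ?_⟩
    change a' e + b' e = d • (a (d⁻¹ • e) + b (d⁻¹ • e))
    rw [ha, hb, smul_add]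
  | mul a b _ _ ha hb =>
    obtain ⟨a', ha', ha⟩ := ha
    obtain ⟨b', hb', hb⟩ := hb
    refine ⟨a' * b', mul_mem ha' hb', fun e => ?_⟩
    change a' (b' e) = d • (a (b (d⁻¹ • e)))
    rw [ha, hb, inv_smul_smul]

/-- as additive endomorphisms -/
def tau (E : Type u) (F : Type w) [AddCommGroup E] [Field F] [Module F E] : Module.End F E →+* AddMonoid.End E :=
  Module.toAddMonoidEnd (Module.End F E) E

theorem tau_injective : Function.Injective (tau E F) := by
  intro x y h
  exact LinearMap.ext fun e => DFunLike.congr_fun h e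

/-- the centre -/
def cent (E : Type u) (F : Type w) [AddCommGroup E] [DistribMulAction D E] [Field F] [Module F E] (N : Subgroup D) :
    Subring (AddMonoid.End E) :=
  ((alg E F N).toSubring ⊓ Subring.centralizer (alg E F N : Set (Module.End F E))).map (tau E F)

theorem mem_cent {N : Subgroup D} {r : AddMonoid.End E} :
    r ∈ cent E F N ↔ ∃ x : Module.End F E, x ∈ alg E F N ∧ (∀ y ∈ alg E F N, y * x = x * y) ∧ tau E F x = r := by
  unfold cent
  rw [Subring.mem_map]
  constructor
  · rintro ⟨x, ⟨h1, h2⟩, h3⟩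
    exact ⟨x, h1, fun y hy => (Subring.mem_centralizer_iff.1 h2) y hy, h3⟩
  · rintro ⟨x, h1, h2, h3⟩
    exact ⟨x, ⟨h1, Subring.mem_centralizer_iff.2 h2⟩, h3⟩

theorem cent_comm {N : Subgroup D} {r s : AddMonoid.End E} (hr : r ∈ cent E F N) (hs : s ∈ cent E F N) :
    r * s = s * r := by
  obtain ⟨x, h1, h2, rfl⟩ := mem_cent.1 hr
  obtain ⟨y, h4, h5, rfl⟩ := mem_cent.1 hs
  rw [← map_mul, ← map_mul, h2 y h4]

theorem cent_cj (hnorm : ∀ (d : D) (c : F), ∃ c' : F, ∀ e : E, d • (c • e) = c' • (d • e)) {N : Subgroup D}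
    [hNn : N.Normal] (hN : N ≤ CF D E F) (d : D) {r : AddMonoid.End E} (hr : r ∈ cent E F N) :
    cj E d r ∈ cent E F N := by
  obtain ⟨x, h1, h2, rfl⟩ := mem_cent.1 hr
  obtain ⟨y, hy, hyx⟩ := alg_conj hnorm hN d h1
  refine mem_cent.2 ⟨y, hy, fun z hz => ?_, ?_⟩
  · obtain ⟨z', hz', hzz⟩ := alg_conj hnorm hN d⁻¹ hz
    refine LinearMap.ext fun e => ?_
    change z (y e) = y (z e)
    rw [hyx, hyx]
    have h3 := LinearMap.congr_fun (h2 z' hz') (d⁻¹ • e)
    change z' (x (d⁻¹ • e)) = x (z' (d⁻¹ • e)) at h3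
    rw [hzz, hzz, inv_inv, smul_inv_smul] at h3
    rw [← h3, smul_inv_smul]
  · refine AddMonoidHom.ext fun e => ?_
    exact hyx e

theorem cent_reduced [Finite D] {N : Subgroup D} (hN : N ≤ CF D E F) [NeZero (Nat.card N : F)]
    {r : AddMonoid.End E} (hr : r ∈ cent E F N) (h0 : r * r = 0) : r = 0 := by
  have hss := semisimple_alg N hN
  obtain ⟨x, h1, h2, rfl⟩ := mem_cent.1 hr
  rw [← map_mul] at h0
  have h3 : x * x = 0 := tau_injective (h0.trans (map_zero _).symm)
  have h4 : (⟨x, h1⟩ : alg E F N) = 0 :=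
    eq_zero_of_central_sq (fun y => Subtype.ext (h2 y y.2).symm) (Subtype.ext h3)
  have h5 : x = 0 := congrArg Subtype.val h4
  rw [h5, map_zero]

/-- central simplicity, from the centre -/
theorem csa_of_cen [Finite D] {N : Subgroup D} (hN : N ≤ CF D E F) [NeZero (Nat.card N : F)]
    (hcen : ∀ x ∈ alg E F N, (∀ y ∈ alg E F N, x * y = y * x) → ∃ c : F, x = c • (1 : Module.End F E)) :
    CSA (alg E F N) := by
  have hss := semisimple_alg N hN
  refine ⟨hcen, fun x hx hx0 => ?_⟩
  let J : Submodule F (Module.End F E) := Submodule.span F {y | ∃ l ∈ alg E F N, ∃ r ∈ alg E F N, y = l * x * r}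
  have hJl : ∀ a ∈ alg E F N, ∀ y ∈ J, a * y ∈ J := by
    intro a ha y hy
    induction hy using Submodule.span_induction with
    | mem y hy =>
      obtain ⟨l, hl, r, hr, rfl⟩ := hy
      exact Submodule.subset_span ⟨a * l, mul_mem ha hl, r, hr, by simp only [mul_assoc]⟩
    | zero => rw [mul_zero]; exact J.zero_mem
    | add y z _ _ hy hz => rw [mul_add]; exact J.add_mem hy hz
    | smul c y _ hy => rw [mul_smul_comm]; exact J.smul_mem c hy
  have hJr : ∀ a ∈ alg E F N, ∀ y ∈ J, y * a ∈ J := by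
    intro a ha y hy
    induction hy using Submodule.span_induction with
    | mem y hy =>
      obtain ⟨l, hl, r, hr, rfl⟩ := hy
      exact Submodule.subset_span ⟨l, hl, r * a, mul_mem hr ha, by simp only [mul_assoc]⟩
    | zero => rw [zero_mul]; exact J.zero_mem
    | add y z _ _ hy hz => rw [add_mul]; exact J.add_mem hy hz
    | smul c y _ hy => rw [smul_mul_assoc]; exact J.smul_mem c hy
  let I : Ideal (alg E F N) :=
    { carrier := {y | (y : Module.End F E) ∈ J}
      add_mem' := fun {a b} ha hb => J.add_mem ha hb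
      zero_mem' := J.zero_mem
      smul_mem' := fun a y hy => hJl a a.2 y hy }
  have hI : ∀ y : alg E F N, y ∈ I ↔ (y : Module.End F E) ∈ J := fun _ => Iff.rfl
  have h1 : (1 : alg E F N) ∈ I := by
    refine one_mem_of_semisimple ?_ I (fun y hy r => hJr r r.2 y hy) ?_
    · intro e he hec
      obtain ⟨c, hc⟩ := hcen e e.2 (fun y hy => congrArg Subtype.val (hec ⟨y, hy⟩))
      by_cases h0 : (1 : Module.End F E) = 0
      · left
        apply Subtype.ext
        rw [hc, h0, smul_zero]
        rfl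
      have h2 : (e : Module.End F E) * e = e := congrArg Subtype.val he.eq
      rw [hc, smul_mul_smul_comm, mul_one, ← sub_eq_zero, ← sub_smul, smul_eq_zero] at h2
      have h3 : c * c - c = 0 := h2.resolve_right h0
      have h4 : c * (c - 1) = 0 := by linear_combination h3
      rcases mul_eq_zero.1 h4 with h5 | h5
      · left
        apply Subtype.ext
        rw [hc, h5, zero_smul]
        rfl
      · right
        apply Subtype.ext
        rw [hc, sub_eq_zero.1 h5, one_smul]
        rfl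
    · intro hbot
      have h2 : (⟨x, hx⟩ : alg E F N) ∈ I :=
        Submodule.subset_span ⟨1, one_mem _, 1, one_mem _, by rw [one_mul, mul_one]⟩
      rw [hbot] at h2
      exact hx0 (congrArg Subtype.val (Submodule.mem_bot _ |>.1 h2))
  exact h1

end field

theorem not_dvd_of_smul {p : ℕ} (hp : p.Prime) (hpE : ∀ e : E, p • e = 0) {n : ℕ} (hn : ¬ p ∣ n) {e : E}
    (h : n • e = 0) : e = 0 := by
  by_contra he
  have h1 : addOrderOf e ∣ p := addOrderOf_dvd_of_nsmul_eq_zero (hpE e)
  rcases (Nat.dvd_prime hp).1 h1 with h2 | h2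
  · exact he (AddMonoid.addOrderOf_eq_one_iff.1 h2)
  · exact hn (h2 ▸ addOrderOf_dvd_of_nsmul_eq_zero h)

/-- **S4790, T3** -/
theorem exists_frame {D E : Type u} [Group D] [Finite D] [AddCommGroup E] [Finite E] [Nontrivial E]
    [DistribMulAction D E] [FaithfulSMul D E] {p : ℕ} (hp : p.Prime) (hpE : ∀ e : E, p • e = 0)
    (hcop : ¬ p ∣ Nat.card D) (hirr : IrrAct D E) (hprim : Prim D E) :
    ∃ (F : Type u) (_ : Field F) (_ : Finite F) (_ : Module F E), Fr D E F := by
  have hfin : Finite (AddMonoid.End E) := finite_end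
  have hfin' : Finite (Subring (AddMonoid.End E)) :=
    Finite.of_injective (fun K : Subring (AddMonoid.End E) => (K : Set (AddMonoid.End E))) SetLike.coe_injective
  obtain ⟨x₀, hx₀⟩ := exists_ne (0 : E)
  -- a maximal normalised field
  let 𝒦 : Set (Subring (AddMonoid.End E)) := {K | (∀ a ∈ K, ∀ b ∈ K, a * b = b * a) ∧
    (∀ (d : D), ∀ b ∈ K, cj E d b ∈ K) ∧ ∀ r ∈ K, ∀ v : E, v ≠ 0 → r v = 0 → r = 0}
  have hbot : (⊥ : Subring (AddMonoid.End E)) ∈ 𝒦 := by
    refine ⟨?_, ?_, ?_⟩
    · intro a ha b _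
      obtain ⟨m, rfl⟩ := Subring.mem_bot.1 ha
      exact (Int.cast_commute m b).eq
    · intro d b hb
      obtain ⟨m, rfl⟩ := Subring.mem_bot.1 hb
      rw [map_intCast]
      exact intCast_mem _ m
    · intro r hr v hv hrv
      obtain ⟨m, rfl⟩ := Subring.mem_bot.1 hr
      have h1 : m • v = 0 := hrv
      have h2 : m.natAbs • v = 0 := by
        rcases Int.natAbs_eq m with h3 | h3
        · rw [h3, natCast_zsmul] at h1; exact h1
        · rw [h3, neg_smul, natCast_zsmul, neg_eq_zero] at h1; exact h1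
      have h3 : p ∣ m.natAbs := by
        by_contra h4
        exact hv (not_dvd_of_smul hp hpE h4 h2)
      obtain ⟨c, hc⟩ := Int.natCast_dvd.2 h3
      refine AddMonoidHom.ext fun w => ?_
      change m • w = 0
      rw [hc, mul_comm, mul_smul, natCast_zsmul, hpE, smul_zero]
  obtain ⟨K, hK⟩ := (Set.toFinite 𝒦).exists_maximal ⟨⊥, hbot⟩
  obtain ⟨hKc, hKd, hKi⟩ := hK.prop
  let F : Type u := K
  letI : CommRing K := { (inferInstance : Ring K) with
    mul_comm := fun a b => Subtype.ext (hKc a a.2 b b.2) }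
  haveI : Nontrivial K := ⟨⟨0, 1, by
    intro h
    have h2 : (0 : AddMonoid.End E) = 1 := congrArg Subtype.val h
    have h3 := DFunLike.congr_fun h2 x₀
    exact hx₀ h3.symm⟩⟩
  haveI : NoZeroDivisors K := ⟨by
    intro a b hab
    by_contra hne
    rw [not_or] at hne
    have hb : ∃ y : E, (b : AddMonoid.End E) y ≠ 0 := by
      by_contra hcon
      push Not at hcon
      exact hne.2 (Subtype.ext (AddMonoidHom.ext hcon))
    obtain ⟨y, hy⟩ := hb
    have h4 : (a : AddMonoid.End E) ((b : AddMonoid.End E) y) = 0 := by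
      have := congrArg (fun r : K => (r : AddMonoid.End E) y) hab
      exact this
    exact hne.1 (Subtype.ext (hKi a a.2 _ hy h4))⟩
  haveI : IsDomain K := NoZeroDivisors.to_isDomain K
  letI : Field K := (Finite.isField_of_domain K).toField
  letI : Module K E := inferInstance
  have hsm : ∀ (r : K) (e : E), r • e = (r : AddMonoid.End E) e := fun _ _ => rfl
  have hnorm : ∀ (d : D) (c : K), ∃ c' : K, ∀ e : E, d • (c • e) = c' • (d • e) := by
    intro d c
    refine ⟨⟨cj E d c, hKd d c c.2⟩, fun e => ?_⟩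
    change d • ((c : AddMonoid.End E) e) = d • ((c : AddMonoid.End E) (d⁻¹ • (d • e)))
    rw [inv_smul_smul]
  refine ⟨K, inferInstance, inferInstance, inferInstance, hnorm, fun N hN hNC => ?_⟩
  have hne : NeZero (Nat.card N : K) := ⟨by
    intro h
    have h1 : Nat.card N • x₀ = 0 := by
      have h2 : (Nat.card N : K) • x₀ = 0 := by rw [h, zero_smul]
      rwa [Nat.cast_smul_eq_nsmul] at h2
    exact hx₀ (not_dvd_of_smul hp hpE (fun h3 => hcop (h3.trans (Subgroup.card_subgroup_dvd_card N))) h1)⟩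
  refine csa_of_cen hNC fun x hx hxc => ?_
  have hmem : cent E K N ∈ 𝒦 :=
    ⟨fun a ha b hb => cent_comm ha hb, fun d b hb => cent_cj hnorm hNC d hb, fun r hr v hv hrv =>
      inj_of_reduced hirr hprim (cent E K N) (fun a ha b hb => cent_comm ha hb)
        (fun d b hb => cent_cj hnorm hNC d hb) (fun z hz h0 => cent_reduced hNC hz h0) hr hv hrv⟩
  have hle : K ≤ cent E K N := by
    intro k hk
    refine mem_cent.2 ⟨algebraMap K _ ⟨k, hk⟩, Subalgebra.algebraMap_mem _ _, fun y _ => ?_, ?_⟩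
    · exact (Algebra.commutes _ _).symm
    · exact AddMonoidHom.ext fun e => rfl
  have h1 : cent E K N ≤ K := hK.le_of_ge hmem hle
  have h2 : tau E K x ∈ K := h1 (mem_cent.2 ⟨x, hx, fun y hy => (hxc y hy).symm, rfl⟩)
  exact ⟨⟨tau E K x, h2⟩, LinearMap.ext fun e => rfl⟩

end Cfsg.Agent.H813.S4790
end
end

-- part: H697/Alm/LinMain
section
prune_inst 0x4504c00104000000000000280201e0204000000000b040044020000000000220980268001000005020000010001000002cc00004000000000000400000400001080000021400000000090000000000000000000010000000000000000000000000000000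
set_option linter.all false
open scoped Cfsg.Agent.FastGrp

-- part: H615/S4790/Count
section
/-!
# S4790: counting (T10, T11)
-/

set_option autoImplicit false
set_option linter.unusedSectionVars false
set_option linter.unusedVariables false
open Cfsg Module

namespace Cfsg.Agent.H615.S4790

open Cfsg.Agent Cfsg.Agent.H697.Alm
open Cfsg.Agent.SignalizersComponents.Components

universe u v w

/-- `|E| - 1 ≤ r |D|` -/
theorem card_le_orb {D : Type v} {E : Type u} [Group D] [AddCommGroup E] [DistribMulAction D E] [Finite D] [Finite E] :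
    Nat.card E ≤ orb D E * Nat.card D + 1 := by
  classical
  have := Fintype.ofFinite E
  have := Fintype.ofFinite (MulAction.orbitRel.Quotient D E)
  let f : E → MulAction.orbitRel.Quotient D E := fun e => Quotient.mk _ e
  have hf : ∀ e e' : E, f e = f e' ↔ e ∈ MulAction.orbit D e' := by
    intro e e'
    exact Quotient.eq.trans (MulAction.orbitRel_apply)
  have h1 : (Finset.univ.erase (0 : E)).card ≤ Nat.card D * (Finset.univ.erase (f 0)).card := by
    refine Finset.card_le_mul_card_image_of_maps_to (f := f) ?_ (Nat.card D) ?_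
    · intro e he
      rw [Finset.mem_erase] at he ⊢
      refine ⟨fun h => he.1 ?_, Finset.mem_univ _⟩
      rw [hf] at h
      obtain ⟨d, hd⟩ := h
      rw [← hd]
      exact smul_zero d
    · intro c hc
      obtain ⟨e, rfl⟩ := Quotient.exists_rep c
      have hle : (MulAction.orbit D e).ncard ≤ Nat.card D := by
        rw [← MulAction.index_stabilizer]
        exact Nat.le_of_dvd Nat.card_pos (Subgroup.index_dvd_card _)
      refine le_trans ?_ hle
      rw [Set.ncard_eq_toFinset_card']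
      refine Finset.card_le_card fun y hy => ?_
      rw [Set.mem_toFinset]
      exact (hf y e).1 (Finset.mem_filter.1 hy).2
  rw [Finset.card_erase_of_mem (Finset.mem_univ _), Finset.card_erase_of_mem (Finset.mem_univ _), Finset.card_univ,
    Finset.card_univ, ← Nat.card_eq_fintype_card, ← Nat.card_eq_fintype_card] at h1
  have h2 : orb D E = Nat.card (MulAction.orbitRel.Quotient D E) - 1 := rfl
  rw [← h2, mul_comm] at h1
  omega

section

variable {D E : Type u} [Group D] [Finite D] [AddCommGroup E] [Finite E] [Nontrivial E] [DistribMulAction D E]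
  [FaithfulSMul D E] {F : Type u} [Field F] [Finite F] [Module F E]

omit [FaithfulSMul D E] in
theorem orb_pos : 1 ≤ orb D E := by
  have h1 := card_le_orb (D := D) (E := E)
  have h2 : 1 < Nat.card E := Finite.one_lt_card
  by_contra hcon
  have h3 : orb D E = 0 := by omega
  rw [h3] at h1
  omega

theorem charP {p : ℕ} (hp : p.Prime) (hpE : ∀ e : E, p • e = 0) (F : Type u) [Field F] [Module F E] : CharP F p := by
  have h1 : (p : F) = 0 := by
    obtain ⟨e, he⟩ := exists_ne (0 : E)
    have h2 : (p : F) • e = 0 := by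
      rw [Nat.cast_smul_eq_nsmul]
      exact hpE e
    rcases smul_eq_zero.1 h2 with h | h
    · exact h
    · exact absurd h he
  have := Fact.mk hp
  obtain ⟨q, hq⟩ := CharP.exists F
  have h3 : q ∣ p := (CharP.cast_eq_zero_iff F q p).1 h1
  rcases (Nat.dvd_prime hp).1 h3 with h | h
  · exfalso
    subst h
    exact CharP.ringChar_ne_one (R := F) (ringChar.eq F 1)
  · rwa [← h]

/-- over the prime field everything is linear -/
theorem CF_eq_top {p : ℕ} (hp : p.Prime) (hpE : ∀ e : E, p • e = 0) (hF : Nat.card F = p) : CF D E F = ⊤ := by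
  have hch := charP hp hpE F
  have := Fact.mk hp
  rw [eq_top_iff]
  intro d _
  have hsurj : Function.Surjective (Nat.cast : ℕ → F) := by
    have h1 : Function.Injective (ZMod.castHom (dvd_refl p) F) := (ZMod.castHom (dvd_refl p) F).injective
    have h2 : Function.Bijective (ZMod.castHom (dvd_refl p) F) := by
      have := Fintype.ofFinite F
      rw [Fintype.bijective_iff_injective_and_card]
      refine ⟨h1, ?_⟩
      rw [ZMod.card, ← hF, Nat.card_eq_fintype_card]
    intro c
    obtain ⟨a, rfl⟩ := h2.2 c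
    refine ⟨a.val, ?_⟩
    rw [ZMod.castHom_apply, ZMod.cast_eq_val]
  intro c e
  obtain ⟨n, rfl⟩ := hsurj c
  rw [Nat.cast_smul_eq_nsmul, Nat.cast_smul_eq_nsmul]
  exact map_nsmul (DistribSMul.toAddMonoidHom E d) n e

omit [Nontrivial E] [Finite E] [Finite D] [Finite F] in
theorem AF_le_center (hC : CF D E F = ⊤) : AF D E F ≤ Subgroup.center D := by
  rintro a ⟨c, hc⟩
  rw [Subgroup.mem_center_iff]
  intro d
  apply FaithfulSMul.eq_of_smul_eq_smul (α := E)
  intro e
  have hd : d ∈ CF D E F := hC ▸ Subgroup.mem_top d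
  rw [mul_smul, mul_smul, hc, hc, hd c e]

/-- the arithmetic of T11 -/
theorem arith11 {p r z x k kx N : ℕ} (h3 : 3 ≤ r) (hz : 1 ≤ z) (hx : 1 ≤ x) (hN : 1 ≤ N) (hp : 1 ≤ p)
    (hNr : N ≤ r * (x * z)) (hk : z + kx ≤ k + 1) (hkx : 2 ≤ kx)
    (hfine : ∀ z' : ℕ, N + 1 ≤ 2 * z' * x + 1 → p + 3 ≤ 2 * (z' + kx)) : p - 1 < r * k := by
  rcases Nat.lt_or_ge N (x * (p - 1)) with h | h
  · -- the least `z'`
    classical
    have hex : ∃ z', N ≤ 2 * z' * x := ⟨N, by have := Nat.mul_le_mul_left (2 * N) hx; omega⟩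
    obtain ⟨z', hz', hmin⟩ : ∃ z', N ≤ 2 * z' * x ∧ ∀ y < z', ¬ N ≤ 2 * y * x :=
      ⟨Nat.find hex, Nat.find_spec hex, fun y hy => Nat.find_min hex hy⟩
    have hz1 : 1 ≤ z' := by
      rcases Nat.eq_zero_or_pos z' with h0 | h0
      · subst h0
        omega
      · exact h0
    have hm := hmin (z' - 1) (by omega)
    push Not at hm
    have hf := hfine z' (by omega)
    obtain ⟨s, hs⟩ : ∃ s, s = 2 * (z' - 1) := ⟨_, rfl⟩
    rw [← hs] at hm
    have hs1 : s < r * z := by
      have : s * x < (r * z) * x := by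
        calc s * x < N := hm
          _ ≤ r * (x * z) := hNr
          _ = (r * z) * x := by ring
      exact Nat.lt_of_mul_lt_mul_right this
    have hs2 : s < p - 1 := by
      have : s * x < (p - 1) * x := by
        calc s * x < N := hm
          _ < x * (p - 1) := h
          _ = (p - 1) * x := by ring
      exact Nat.lt_of_mul_lt_mul_right this
    have hf' : p + 1 ≤ s + 2 * kx := by omega
    obtain ⟨q, rfl⟩ : ∃ q, p = q + 1 := ⟨p - 1, by omega⟩
    rw [Nat.add_sub_cancel] at hs2 ⊢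
    have hk2 : 2 * z + q ≤ 2 * k + s := by omega
    rcases Nat.lt_or_ge s (2 * z) with h4 | h4
    · have h5 : q + 1 ≤ 2 * k := by omega
      have h6 := Nat.mul_le_mul_right k h3
      omega
    · obtain ⟨d, rfl⟩ : ∃ d, s = 2 * z + d := ⟨s - 2 * z, by omega⟩
      obtain ⟨e, rfl⟩ : ∃ e, q = 2 * z + d + e := ⟨q - (2 * z + d), by (clear * - hs2; omega)⟩
      have he : 1 ≤ e := by omega
      -- `2 k ≥ 2 z + e`, `r z ≥ 2 z + d + 1`
      have h5 : 2 * z + e ≤ 2 * k := by omega
      have h6 : 2 * z + d + 1 ≤ r * z := hs1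
      have h7 : (2 * z + d + 1) * (2 * z + e) ≤ (r * z) * (2 * k) := Nat.mul_le_mul h6 h5
      have h8 : z * (2 * (2 * z + d + e)) < z * (2 * (r * k)) := by
        have h8 : (2 * z + d + 1) * (2 * z + e) = z * (2 * (2 * z + d + e)) + (d * e + 2 * z + e) := by ring
        calc z * (2 * (2 * z + d + e)) < (2 * z + d + 1) * (2 * z + e) := by
              rw [h8]
              exact Nat.lt_add_of_pos_right (Nat.add_pos_right _ he)
          _ ≤ (r * z) * (2 * k) := h7
          _ = z * (2 * (r * k)) := by ring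
      have h9 := Nat.lt_of_mul_lt_mul_left h8
      (clear * - h9; omega)
  · have h1 : (p - 1) * x ≤ (r * z) * x := by
      calc (p - 1) * x = x * (p - 1) := by ring
        _ ≤ N := h
        _ ≤ r * (x * z) := hNr
        _ = (r * z) * x := by ring
    have h2 : p - 1 ≤ r * z := Nat.le_of_mul_le_mul_right h1 hx
    have h4 : z + 1 ≤ k := by omega
    have h5 := Nat.mul_le_mul_left r h4
    rw [Nat.mul_add, Nat.mul_one] at h5
    omega

/-- T11 -/
theorem ps_comp {p m : ℕ} (hp : p.Prime) (h23 : 23 ≤ p) (hpE : ∀ e : E, p • e = 0)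
    (hcop : ¬ p ∣ Nat.card D) (fr : Fr D E F) (hF : Nat.card F = p) (hm : finrank F E = m) (hm3 : 3 ≤ m)
    (hfine : ∀ (T : Type u) [Group T] [Finite T] [IsSimpleGroup T], ¬ IsMulCommutative T → H698.Fine.{u, u} T)
    (h3 : 3 ≤ orb D E) (K : Subgroup D) (hK : IsComponent K) (hKn : K.Normal)
    (hR : H698.Rep.{u, u} p m (K ⧸ Subgroup.center K))
    (hc : CF D E F ⊓ Subgroup.centralizer (K : Set D) = AF D E F) :
    p - 1 < orb D E * Nat.card (ConjClasses D) := by
  have hpf := Fact.mk hp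
  have hCF := CF_eq_top (D := D) (F := F) hp hpE hF
  have hcen := AF_le_center hCF
  rw [hCF, top_inf_eq] at hc
  have hsimple : IsSimpleGroup (K ⧸ Subgroup.center K) := hK.2.2
  have hna := H698.CaseS.not_comm_quot hK.2
  obtain ⟨A, hA⟩ : ∃ A : Subgroup D, A = AF D E F := ⟨_, rfl⟩
  rw [← hA] at hc hcen
  have hAn : A.Normal := by rw [← hc]; infer_instance
  have hker : (H698.CaseS.psi K).ker = A := by rw [← hc]; exact H698.CaseS.psi_ker K hK.2.1
  let e : (D ⧸ A) ≃* (H698.CaseS.psi K).range :=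
    (QuotientGroup.quotientMulEquivOfEq hker.symm).trans (QuotientGroup.quotientKerEquivRange (H698.CaseS.psi K))
  have hXq : Nat.card (D ⧸ A) = Nat.card (H698.CaseS.psi K).range := Nat.card_congr e.toEquiv
  have hXcl : Nat.card (ConjClasses (D ⧸ A)) = Nat.card (ConjClasses (H698.CaseS.psi K).range) :=
    H697.ClassCount.card_conjClasses_congr e
  have hDA : Nat.card D = Nat.card (H698.CaseS.psi K).range * Nat.card A := by
    rw [← hXq]
    exact Subgroup.card_eq_card_quotient_mul_card_subgroup A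
  have hAc : Subgroup.centralizer (A : Set D) = ⊤ := by
    rw [eq_top_iff]
    intro d _
    rw [Subgroup.mem_centralizer_iff]
    intro a ha
    exact (Subgroup.mem_center_iff.1 (hcen ha) d).symm
  obtain ⟨z, hz1, hz2⟩ := H698.Count.count A (a := 1) (by rw [hAc, Subgroup.index_top])
  rw [one_mul] at hz1
  rw [hXcl] at hz2
  have hfin : Module.Finite F E := Module.Finite.of_finite
  have hE : Nat.card E = p ^ m := by
    rw [Module.natCard_eq_pow_finrank (K := F), hF, hm]
  have hcard := card_le_orb (D := D) (E := E)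
  rw [hE, hDA] at hcard
  have hpm : 1 < p ^ m := Nat.one_lt_pow (by omega) hp.one_lt
  have hT := hfine (K ⧸ Subgroup.center K) hna p m hp (by omega) (by
    intro hd
    apply hcop
    have h1 : Nat.card (K ⧸ Subgroup.center K) ∣ Nat.card K := Subgroup.card_quotient_dvd_card _
    exact (hd.trans h1).trans (Subgroup.card_subgroup_dvd_card K)) hm3 hR (H698.CaseS.psi K).range
    (H698.CaseS.conj_range_le K)
  have hXne : 2 ≤ Nat.card (ConjClasses (H698.CaseS.psi K).range) := by
    have hnt : Nontrivial (H698.CaseS.psi K).range := by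
      have : Nontrivial (K ⧸ Subgroup.center K) := hsimple.toNontrivial
      have h1 := H698.card_le_of_range (T := K ⧸ Subgroup.center K) (by
        rcases hsimple.eq_bot_or_eq_top_of_normal (Subgroup.center (K ⧸ Subgroup.center K)) inferInstance with h | h
        · exact h
        · exfalso
          apply hna
          refine ⟨⟨fun a b => ?_⟩⟩
          have : b ∈ Subgroup.center (K ⧸ Subgroup.center K) := by rw [h]; exact Subgroup.mem_top b
          exact Subgroup.mem_center_iff.1 this a) (H698.CaseS.conj_range_le K)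
      rw [← Finite.one_lt_card_iff_nontrivial]
      exact lt_of_lt_of_le (Finite.one_lt_card_iff_nontrivial.2 this) h1
    have : Nontrivial (ConjClasses (H698.CaseS.psi K).range) := by
      obtain ⟨x, hx⟩ := exists_ne (1 : (H698.CaseS.psi K).range)
      refine ⟨ConjClasses.mk x, ConjClasses.mk 1, ?_⟩
      rw [Ne, ConjClasses.mk_eq_mk_iff_isConj, isConj_comm, isConj_one_right]
      exact hx
    exact Finite.one_lt_card_iff_nontrivial.2 this
  have hA1 : 1 ≤ Nat.card A := Nat.card_pos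
  refine arith11 (N := p ^ m - 1) (x := Nat.card (H698.CaseS.psi K).range) (z := Nat.card A)
    (kx := Nat.card (ConjClasses (H698.CaseS.psi K).range)) h3 hA1 Nat.card_pos (by omega) hp.one_le (by omega)
    (by omega) hXne ?_
  intro z' hz'
  exact hT z' (by omega)

/-- `|D : CF| ≤ a` -/
theorem index_CF_le {p a : ℕ} (hp : p.Prime) (fr : Fr D E F) (hF : Nat.card F = p ^ a) (ha : 1 ≤ a) :
    (CF D E F).index ≤ a := by
  classical
  choose σ hσ using fr.norm
  have huniq : ∀ (d : D) (c k : F), (∀ e : E, d • (c • e) = k • (d • e)) → σ d c = k := by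
    intro d c k h
    obtain ⟨e, he⟩ := exists_ne (0 : E)
    have h1 := hσ d c (d⁻¹ • e)
    rw [h (d⁻¹ • e), smul_inv_smul] at h1
    by_contra hne
    have h2 : (k - σ d c) • e = 0 := by rw [sub_smul, h1, sub_self]
    rcases smul_eq_zero.1 h2 with h3 | h3
    · exact hne (sub_eq_zero.1 h3).symm
    · exact he h3
  let inst : MulSemiringAction D F :=
    { smul := σ
      one_smul := fun c => huniq 1 c c (fun e => by rw [one_smul, one_smul])
      mul_smul := fun d d' c => huniq (d * d') c (σ d (σ d' c)) (fun e => by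
        rw [mul_smul, mul_smul, hσ d' c e, hσ])
      smul_zero := fun d => huniq d 0 0 (fun e => by rw [zero_smul, zero_smul, smul_zero])
      smul_add := fun d c c' => huniq d (c + c') (σ d c + σ d c') (fun e => by
        rw [add_smul, smul_add, hσ, hσ, add_smul])
      smul_one := fun d => huniq d 1 1 (fun e => by rw [one_smul, one_smul])
      smul_mul := fun d c c' => huniq d (c * c') (σ d c * σ d c') (fun e => by
        rw [mul_smul, hσ, hσ, mul_smul]) }
  let φ : D →* RingAut F := MulSemiringAction.toRingAut D F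
  have hφ : ∀ d c, φ d c = σ d c := fun d c => rfl
  have hker : φ.ker = CF D E F := by
    ext d
    rw [MonoidHom.mem_ker]
    constructor
    · intro h c e
      have h1 : σ d c = c := by
        rw [← hφ, h]
        rfl
      rw [hσ, h1]
    · intro h
      ext c
      rw [hφ]
      exact huniq d c c (fun e => h c e)
  rw [← hker, Subgroup.index_ker]
  have := Fintype.ofFinite F
  have hpf := Fact.mk hp
  have h1 := Lib.FieldAutCard.card_ringAut (F := F) ha (by rw [← hF, Nat.card_eq_fintype_card])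
  rw [← h1]
  have : Finite (RingAut F) := Finite.of_injective (fun e : RingAut F => (e : F → F)) DFunLike.coe_injective
  exact Nat.card_le_card_of_injective (Subtype.val : φ.range → RingAut F) Subtype.val_injective

omit [Finite D] [Finite E] [FaithfulSMul D E] [Nontrivial E] [Finite F] in
theorem AF_le_CF : AF D E F ≤ CF D E F := by
  rintro a ⟨c, hc⟩ c' e
  rw [hc, hc, smul_smul, smul_smul, mul_comm]

omit [Finite D] [Finite E] [FaithfulSMul D E] [Nontrivial E] [Finite F] in
theorem AF_normal (fr : Fr D E F) : (AF D E F).Normal := by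
  constructor
  rintro a ⟨c, hc⟩ d
  obtain ⟨c', hc'⟩ := fr.norm d c
  refine ⟨c', fun e => ?_⟩
  rw [mul_smul, mul_smul, hc, hc', smul_inv_smul]

omit [Finite D] [Finite E] [Nontrivial E] [Finite F] in
theorem CF_le_cen : CF D E F ≤ Subgroup.centralizer ((AF D E F : Subgroup D) : Set D) := by
  intro g hg
  rw [Subgroup.mem_centralizer_iff]
  rintro a ⟨c, hc⟩
  apply FaithfulSMul.eq_of_smul_eq_smul (α := E)
  intro e
  rw [mul_smul, mul_smul, hc, hc, hg c e]

theorem arith10a {p a : ℕ} (hp : 23 ≤ p) (ha : 2 ≤ a) : (p - 1) * a ^ 2 + 1 < p ^ a := by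
  obtain ⟨q, rfl⟩ : ∃ q, p = q + 1 := ⟨p - 1, by omega⟩
  rw [Nat.add_sub_cancel]
  obtain ⟨k, rfl⟩ : ∃ k, a = k + 2 := ⟨a - 2, by omega⟩
  clear ha
  induction k with
  | zero =>
    have e1 : (q + 1) ^ (0 + 2) = (q + 1) * (q + 1) := by ring
    have e2 : q * (0 + 2) ^ 2 = 4 * q := by ring
    rw [e1, e2]
    have h1 := Nat.mul_le_mul_right (q + 1) hp
    omega
  | succ k ih =>
    have h1 : (q + 1) ^ (k + 1 + 2) = (q + 1) * (q + 1) ^ (k + 2) := by ring
    rw [h1]
    have h2 : (q + 1) * (q * (k + 2) ^ 2 + 1 + 1) ≤ (q + 1) * (q + 1) ^ (k + 2) := Nat.mul_le_mul_left _ ih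
    refine lt_of_lt_of_le ?_ h2
    have h3 : (k + 1 + 2) ^ 2 ≤ (q + 1) * (k + 2) ^ 2 := by
      calc (k + 1 + 2) ^ 2 ≤ 23 * (k + 2) ^ 2 := by
            have e1 : (k + 1 + 2) ^ 2 = k * k + 6 * k + 9 := by ring
            have e2 : 23 * (k + 2) ^ 2 = 23 * (k * k) + 92 * k + 92 := by ring
            rw [e1, e2]
            omega
        _ ≤ (q + 1) * (k + 2) ^ 2 := Nat.mul_le_mul_right _ hp
    have h4 : q * (k + 1 + 2) ^ 2 ≤ q * ((q + 1) * (k + 2) ^ 2) := Nat.mul_le_mul_left _ h3
    have h5 : (q + 1) * (q * (k + 2) ^ 2 + 1 + 1) = q * ((q + 1) * (k + 2) ^ 2) + 2 * (q + 1) := by ring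
    rw [h5]
    omega

theorem arith10b {k : ℕ} (hk : 1 ≤ k) : 6 * (k + 1) ^ 2 < 529 ^ k := by
  obtain ⟨j, rfl⟩ : ∃ j, k = j + 1 := ⟨k - 1, by omega⟩
  clear hk
  induction j with
  | zero => norm_num
  | succ j ih =>
    have h1 : 529 ^ (j + 1 + 1) = 529 * 529 ^ (j + 1) := by ring
    have e1 : (j + 1 + 1 + 1) ^ 2 = j * j + 6 * j + 9 := by ring
    have e2 : (j + 1 + 1) ^ 2 = j * j + 4 * j + 4 := by ring
    rw [h1, e1]
    rw [e2] at ih
    generalize 529 ^ (j + 1) = w at ih ⊢
    omega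

theorem arith10c {p a m : ℕ} (hp : 23 ≤ p) (ha : 2 ≤ a) (hm : 2 ≤ m) :
    (p - 1) * ((6 * p ^ (m - 1)) * a ^ 2) + 1 < p ^ (a * m) := by
  have h1 : (p - 1) * ((6 * p ^ (m - 1)) * a ^ 2) + 1 ≤ 6 * a ^ 2 * p ^ m := by
    obtain ⟨n, rfl⟩ : ∃ n, m = n + 1 := ⟨m - 1, by omega⟩
    obtain ⟨q, rfl⟩ : ∃ q, p = q + 1 := ⟨p - 1, by omega⟩
    have e1 : (q + 1) ^ (n + 1) = (q + 1) ^ n * (q + 1) := pow_succ _ _
    rw [Nat.add_sub_cancel, Nat.add_sub_cancel, e1]
    have h2 : 1 ≤ (q + 1) ^ n := Nat.one_le_pow _ _ (by omega)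
    have h3 : 1 ≤ a ^ 2 := Nat.one_le_pow _ _ (by omega)
    have h4 : 1 ≤ (q + 1) ^ n * a ^ 2 := Nat.mul_pos h2 h3
    calc q * (6 * (q + 1) ^ n * a ^ 2) + 1 ≤ q * (6 * (q + 1) ^ n * a ^ 2) + 6 * ((q + 1) ^ n * a ^ 2) := by omega
      _ = 6 * a ^ 2 * ((q + 1) ^ n * (q + 1)) := by ring
  refine lt_of_le_of_lt h1 ?_
  obtain ⟨k, rfl⟩ : ∃ k, a = k + 1 := ⟨a - 1, by omega⟩
  have h2 := arith10b (k := k) (by omega)
  have h3 : 529 ^ k ≤ p ^ (k * m) := by
    calc 529 ^ k = (23 ^ 2) ^ k := by norm_num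
      _ = 23 ^ (2 * k) := by rw [← pow_mul]
      _ ≤ p ^ (2 * k) := Nat.pow_le_pow_left hp _
      _ ≤ p ^ (k * m) := Nat.pow_le_pow_right (by omega) (by rw [Nat.mul_comm]; exact Nat.mul_le_mul_left k hm)
  calc 6 * (k + 1) ^ 2 * p ^ m < 529 ^ k * p ^ m := Nat.mul_lt_mul_of_pos_right h2 (by positivity)
    _ ≤ p ^ (k * m) * p ^ m := Nat.mul_le_mul_right _ h3
    _ = p ^ ((k + 1) * m) := by rw [← pow_add]; congr 1; ring

/-- T10: counting, all cases with a good bound -/
theorem ps_count {p a m : ℕ} (hp : p.Prime) (h23 : 23 ≤ p) (hpE : ∀ e : E, p • e = 0)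
    (hcop : ¬ p ∣ Nat.card D) (fr : Fr D E F) (hF : Nat.card F = p ^ a) (hm : finrank F E = m) (hne : Nat.card E ≠ p)
    (h1 : m = 1 → CF D E F = AF D E F) (h2 : (AF D E F).relIndex (CF D E F) ≤ 6 * p ^ (m - 1))
    (h3 : a = 1 → (AF D E F).relIndex (CF D E F) * (p - 1) ≤ p ^ m - 1) :
    p - 1 < orb D E * Nat.card (ConjClasses D) := by
  have hfin : Module.Finite F E := Module.Finite.of_finite
  have hE : Nat.card E = p ^ (a * m) := by
    rw [Module.natCard_eq_pow_finrank (K := F), hF, hm, pow_mul]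
  have hE1 : 1 < Nat.card E := Finite.one_lt_card
  have ha1 : 1 ≤ a := by
    rcases Nat.eq_zero_or_pos a with h | h
    · subst h
      rw [hE, zero_mul, pow_zero] at hE1
      omega
    · exact h
  have hm1 : 1 ≤ m := by
    rcases Nat.eq_zero_or_pos m with h | h
    · subst h
      rw [hE, mul_zero, pow_zero] at hE1
      omega
    · exact h
  obtain ⟨A, hA⟩ : ∃ A : Subgroup D, A = AF D E F := ⟨_, rfl⟩
  have hAn : A.Normal := by rw [hA]; exact AF_normal fr
  have hCa := index_CF_le (D := D) hp fr hF ha1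
  obtain ⟨b, hb⟩ : ∃ b, b = (AF D E F).relIndex (CF D E F) := ⟨_, rfl⟩
  rw [← hb] at h2 h3
  have hidx : A.index = b * (CF D E F).index := by
    rw [hA, hb]
    exact (Subgroup.relIndex_mul_index AF_le_CF).symm
  have hb1 : 1 ≤ b := by
    rw [hb]
    exact Nat.pos_of_ne_zero Subgroup.index_ne_zero_of_finite
  have hcenA : (Subgroup.centralizer (A : Set D)).index ≤ a := by
    refine le_trans (Nat.le_of_dvd (Nat.pos_of_ne_zero Subgroup.index_ne_zero_of_finite)
      (Subgroup.index_dvd_of_le ?_)) hCa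
    rw [hA]
    exact CF_le_cen
  obtain ⟨z, hz1, hz2⟩ := H698.Count.count A hcenA
  have hcard := card_le_orb (D := D) (E := E)
  have hDA : Nat.card D = Nat.card A * A.index := (A.card_mul_index).symm
  have hqpos : 1 ≤ Nat.card (ConjClasses (D ⧸ A)) := Nat.card_pos
  have hr := orb_pos (D := D) (E := E)
  rcases Nat.lt_or_ge a 2 with ha2 | ha2
  · have ha : a = 1 := by omega
    subst ha
    rw [one_mul] at hz1 hE
    rw [pow_one] at hF
    have hCF := CF_eq_top (D := D) (F := F) hp hpE hF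
    rw [hCF, Subgroup.index_top, mul_one] at hidx
    have h3' := h3 rfl
    rw [hE, hDA, hidx] at hcard
    by_cases hb2 : b = 1
    · subst hb2
      have hm2 : 2 ≤ m := by
        by_contra hcon
        have : m = 1 := by omega
        rw [this, pow_one] at hE
        exact hne hE
      have h5 : p ^ 2 ≤ p ^ m := Nat.pow_le_pow_right hp.pos hm2
      rw [mul_one] at hcard
      have h6 : Nat.card A ≤ Nat.card (ConjClasses D) := by omega
      have h7 : orb D E * Nat.card A ≤ orb D E * Nat.card (ConjClasses D) := Nat.mul_le_mul_left _ h6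
      have h8 : p < p ^ 2 := (pow_one p).symm.trans_lt (Nat.pow_lt_pow_right hp.one_lt Nat.one_lt_two)
      omega
    · have hnt : Nontrivial (D ⧸ A) := by
        rw [← Finite.one_lt_card_iff_nontrivial]
        have : Nat.card (D ⧸ A) = b := hidx
        omega
      have hq2 : 2 ≤ Nat.card (ConjClasses (D ⧸ A)) := by
        have : Nontrivial (ConjClasses (D ⧸ A)) := by
          obtain ⟨x, hx⟩ := exists_ne (1 : D ⧸ A)
          refine ⟨ConjClasses.mk x, ConjClasses.mk 1, ?_⟩
          rw [Ne, ConjClasses.mk_eq_mk_iff_isConj, isConj_comm, isConj_one_right]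
          exact hx
        exact Finite.one_lt_card_iff_nontrivial.2 this
      have h6 : Nat.card A + 1 ≤ Nat.card (ConjClasses D) := by omega
      have h7 : (orb D E * (Nat.card A + 1)) * b ≤ (orb D E * Nat.card (ConjClasses D)) * b :=
        Nat.mul_le_mul_right _ (Nat.mul_le_mul_left _ h6)
      have h8 : 1 ≤ orb D E * b := Nat.mul_pos hr hb1
      have h9 : (p - 1) * b < (orb D E * Nat.card (ConjClasses D)) * b := by
        calc (p - 1) * b = b * (p - 1) := by ring
          _ ≤ p ^ m - 1 := h3'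
          _ ≤ orb D E * (Nat.card A * b) := by omega
          _ < orb D E * (Nat.card A * b) + orb D E * b := by omega
          _ = (orb D E * (Nat.card A + 1)) * b := by ring
          _ ≤ _ := h7
      exact Nat.lt_of_mul_lt_mul_right h9
  · by_contra hcon
    push Not at hcon
    have h4 : Nat.card E ≤ (p - 1) * (b * a ^ 2) + 1 := by
      have h5 : Nat.card D ≤ (a * Nat.card (ConjClasses D)) * (b * a) := by
        rw [hDA, hidx]
        refine Nat.mul_le_mul (hz1.trans (Nat.mul_le_mul_left _ (by omega))) (Nat.mul_le_mul_left _ hCa)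
      calc Nat.card E ≤ orb D E * Nat.card D + 1 := hcard
        _ ≤ orb D E * ((a * Nat.card (ConjClasses D)) * (b * a)) + 1 := by
            have := Nat.mul_le_mul_left (orb D E) h5
            omega
        _ = (orb D E * Nat.card (ConjClasses D)) * (b * a ^ 2) + 1 := by ring
        _ ≤ (p - 1) * (b * a ^ 2) + 1 := by
            have := Nat.mul_le_mul_right (b * a ^ 2) hcon
            omega
    rw [hE] at h4
    rcases Nat.lt_or_ge m 2 with hm2 | hm2
    · have hm' : m = 1 := by omega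
      subst hm'
      have hb' : b = 1 := by
        rw [hb, h1 rfl, Subgroup.relIndex_self]
      rw [hb', one_mul, mul_one] at h4
      have := arith10a h23 ha2
      omega
    · have h5 := arith10c h23 ha2 hm2
      have h6 : (p - 1) * (b * a ^ 2) ≤ (p - 1) * ((6 * p ^ (m - 1)) * a ^ 2) :=
        Nat.mul_le_mul_left _ (Nat.mul_le_mul_right _ h2)
      omega

end

end Cfsg.Agent.H615.S4790
end

-- part: H930/S4790/Small
section
/-!
# S4790, T12: dimensions two and four over the prime field (helper930)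
-/

set_option autoImplicit false
set_option linter.unusedSectionVars false

namespace Cfsg.Agent.H930.Alm

open Cfsg Cfsg.Agent.H697.Alm Module

universe u v w

section A

variable {D E : Type u} [Group D] [Finite D] [AddCommGroup E] [Finite E] [Nontrivial E] [DistribMulAction D E]
  [FaithfulSMul D E] {F : Type u} [Field F] [Finite F] [Module F E]

/-- every element of a field with `p` elements is a natural number -/
theorem exists_nat {p : ℕ} (hp : p.Prime) (hF : Nat.card F = p) (c : F) : ∃ n : ℕ, c = n := by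
  have := Fintype.ofFinite F
  have := Fact.mk hp
  rw [Nat.card_eq_fintype_card] at hF
  obtain ⟨e⟩ : Nonempty (ZMod p ≃+* F) := ⟨ZMod.ringEquivOfPrime F hp hF⟩
  refine ⟨(e.symm c).val, ?_⟩
  have h1 : e (((e.symm c).val : ℕ) : ZMod p) = ((e.symm c).val : F) := map_natCast e _
  rw [← h1, ZMod.natCast_zmod_val, RingEquiv.apply_symm_apply]

theorem lin_of_prime {p : ℕ} (hp : p.Prime) (hF : Nat.card F = p) (d : D) (c : F) (e : E) :
    d • (c • e) = c • (d • e) := by
  obtain ⟨n, rfl⟩ := exists_nat hp hF c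
  rw [Nat.cast_smul_eq_nsmul, Nat.cast_smul_eq_nsmul]
  exact map_nsmul (DistribSMul.toAddMonoidHom E d) n e

/-- the number of orbits times the order -/
theorem card_le_orb : Nat.card E ≤ orb D E * Nat.card D + 1 := by
  classical
  have := Fintype.ofFinite D
  have := Fintype.ofFinite E
  have hfin : Finite (MulAction.orbitRel.Quotient D E) := Quotient.finite _
  have := Fintype.ofFinite (MulAction.orbitRel.Quotient D E)
  let π : E → MulAction.orbitRel.Quotient D E := fun e => Quotient.mk'' e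
  have hfib : ∀ q : MulAction.orbitRel.Quotient D E, (Finset.univ.filter fun e => π e = q).card ≤ Nat.card D := by
    intro q
    obtain ⟨x, rfl⟩ := Quotient.mk''_surjective q
    have h1 : (Finset.univ.filter fun e => π e = Quotient.mk'' x) ⊆ Finset.univ.image fun d : D => d • x := by
      intro e he
      rw [Finset.mem_filter] at he
      have h2 : e ∈ MulAction.orbit D x := MulAction.orbitRel_apply.1 (Quotient.exact he.2)
      obtain ⟨d, hd⟩ := h2
      rw [Finset.mem_image]
      exact ⟨d, Finset.mem_univ _, hd⟩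
    refine (Finset.card_le_card h1).trans (Finset.card_image_le.trans ?_)
    rw [Finset.card_univ, Nat.card_eq_fintype_card]
  have hzero : (Finset.univ.filter fun e => π e = π 0).card = 1 := by
    rw [Finset.card_eq_one]
    refine ⟨0, ?_⟩
    ext e
    rw [Finset.mem_filter, Finset.mem_singleton]
    constructor
    · rintro ⟨-, he⟩
      have h2 : e ∈ MulAction.orbit D (0 : E) := MulAction.orbitRel_apply.1 (Quotient.exact he)
      obtain ⟨d, hd⟩ := h2
      rw [← hd]
      exact smul_zero d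
    · rintro rfl
      exact ⟨Finset.mem_univ _, rfl⟩
  have h1 : Fintype.card E = ∑ q : MulAction.orbitRel.Quotient D E, (Finset.univ.filter fun e => π e = q).card := by
    rw [← Finset.card_univ]
    exact Finset.card_eq_sum_card_fiberwise fun x _ => Finset.mem_coe.2 (Finset.mem_univ _)
  rw [Nat.card_eq_fintype_card, h1, ← Finset.add_sum_erase _ _ (Finset.mem_univ (π 0)), hzero, add_comm]
  apply Nat.add_le_add_right
  refine (Finset.sum_le_card_nsmul _ _ (Nat.card D) fun q _ => hfib q).trans ?_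
  rw [smul_eq_mul, Finset.card_erase_of_mem (Finset.mem_univ _), Finset.card_univ, orb,
    Nat.card_eq_fintype_card (α := MulAction.orbitRel.Quotient D E)]

/-- the linear map of an element -/
def lmap (hlin : ∀ (d : D) (c : F) (e : E), d • (c • e) = c • (d • e)) (d : D) : E →ₗ[F] E where
  toFun e := d • e
  map_add' := smul_add d
  map_smul' c e := hlin d c e

theorem lmap_mul (hlin : ∀ (d : D) (c : F) (e : E), d • (c • e) = c • (d • e)) (a b : D) :
    lmap hlin (a * b) = lmap hlin a * lmap hlin b := by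
  ext e
  exact mul_smul a b e

theorem lmap_one (hlin : ∀ (d : D) (c : F) (e : E), d • (c • e) = c • (d • e)) :
    lmap hlin (1 : D) = 1 := by
  ext e
  exact one_smul D e

/-- a scalar element is central -/
theorem central (hlin : ∀ (d : D) (c : F) (e : E), d • (c • e) = c • (d • e)) {a : D} (ha : a ∈ AF D E F) (g : D) :
    a * g = g * a := by
  obtain ⟨c, hc⟩ := ha
  apply FaithfulSMul.eq_of_smul_eq_smul (α := E)
  intro e
  rw [mul_smul, mul_smul, hc, hc, hlin]

/-- conjugation by a scalar factor: the factor is trivial if `o(x)` is prime to the dimension -/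
theorem eq_one_of_conj (hlin : ∀ (d : D) (c : F) (e : E), d • (c • e) = c • (d • e)) {a : D} (ha : a ∈ AF D E F)
    {g x : D} (h : g * x * g⁻¹ = a * x) {N : ℕ} (hN : x ^ N = 1) (hcop : N.Coprime (finrank F E)) : a = 1 := by
  have hfin : Module.Finite F E := Module.Finite.of_finite
  obtain ⟨c, hc⟩ := ha
  have haN : a ^ N = 1 := by
    have h1 : (a * x) ^ N = 1 := by rw [← h, conj_pow, hN, mul_one, mul_inv_cancel]
    have h2 : Commute a x := central hlin ⟨c, hc⟩ x
    rwa [h2.mul_pow, hN, mul_one] at h1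
  have hla : lmap hlin a = c • (1 : E →ₗ[F] E) := by
    ext e
    exact hc e
  have hpow : ∀ k : ℕ, lmap hlin (a ^ k) = c ^ k • (1 : E →ₗ[F] E) := by
    intro k
    induction k with
    | zero => rw [pow_zero, pow_zero, one_smul, lmap_one]
    | succ k ih => rw [pow_succ, lmap_mul, ih, hla, smul_mul_assoc, mul_smul_comm, smul_smul, one_mul, pow_succ]
  obtain ⟨v, hv⟩ := exists_ne (0 : E)
  have hcN : c ^ N = 1 := by
    have h1 := hpow N
    rw [haN, lmap_one] at h1
    have h2 := LinearMap.congr_fun h1 v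
    have h3 : (c ^ N - 1) • v = 0 := by
      rw [sub_smul, one_smul, sub_eq_zero]
      exact h2.symm
    exact sub_eq_zero.1 ((smul_eq_zero.1 h3).resolve_right hv)
  have hdet : c ^ finrank F E = 1 := by
    have h1 : lmap hlin g * lmap hlin x = c • (lmap hlin x * lmap hlin g) := by
      have h2 : g * x = a * (x * g) := by rw [← mul_assoc, ← h]; group
      rw [← lmap_mul, h2, lmap_mul, hla, lmap_mul, smul_mul_assoc, one_mul]
    have h2 := congrArg LinearMap.det h1
    rw [LinearMap.det_smul, map_mul, map_mul, mul_comm (LinearMap.det (lmap hlin x))] at h2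
    have h3 : ∀ g : D, LinearMap.det (lmap hlin g) ≠ 0 := by
      intro g h0
      have h4 : LinearMap.det (lmap hlin g * lmap hlin g⁻¹) = 1 := by
        rw [← lmap_mul, mul_inv_cancel, lmap_one, map_one]
      rw [map_mul, h0, zero_mul] at h4
      exact zero_ne_one h4
    exact (mul_right_cancel₀ (mul_ne_zero (h3 g) (h3 x)) (by rw [one_mul]; exact h2)).symm
  have hc1 : c = 1 := by
    have h1 : orderOf c ∣ Nat.gcd N (finrank F E) :=
      Nat.dvd_gcd (orderOf_dvd_of_pow_eq_one hcN) (orderOf_dvd_of_pow_eq_one hdet)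
    rw [hcop] at h1
    exact orderOf_eq_one_iff.1 (Nat.dvd_one.1 h1)
  apply FaithfulSMul.eq_of_smul_eq_smul (α := E)
  intro e
  rw [hc, hc1, one_smul, one_smul]

/-- an element of `r`-power order outside `A` -/
theorem exists_pelt (A : Subgroup D) {r : ℕ} (hr : r.Prime) (h : r ∣ A.index) :
    ∃ x : D, x ∉ A ∧ ∃ a : ℕ, x ^ r ^ a = 1 := by
  have := Fact.mk hr
  obtain ⟨P⟩ : Nonempty (Sylow r D) := inferInstance
  by_contra hcon
  push Not at hcon
  have hle : (P : Subgroup D) ≤ A := by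
    intro x hx
    by_contra hxA
    obtain ⟨a, ha⟩ := P.isPGroup' ⟨x, hx⟩
    exact hcon x hxA a (congrArg Subtype.val ha)
  exact P.not_dvd_index (h.trans (Subgroup.index_dvd_of_le hle))

/-- three classes for every scalar -/
theorem three_classes (hlin : ∀ (d : D) (c : F) (e : E), d • (c • e) = c • (d • e))
    (h15 : 15 ∣ (AF D E F).index) (h3 : (3 : ℕ).Coprime (finrank F E)) (h5 : (5 : ℕ).Coprime (finrank F E)) :
    3 * Nat.card (AF D E F) ≤ Nat.card (ConjClasses D) := by
  classical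
  obtain ⟨x, hx, i, hxi⟩ := exists_pelt (AF D E F) (r := 3) (by norm_num) (dvd_trans (by norm_num) h15)
  obtain ⟨y, hy, j, hyj⟩ := exists_pelt (AF D E F) (r := 5) (by norm_num) (dvd_trans (by norm_num) h15)
  have hcen := fun (a : D) (ha : a ∈ AF D E F) (g : D) => central hlin ha g
  have key : ∀ {a b g x : D}, a ∈ AF D E F → b ∈ AF D E F → g * (a * x) * g⁻¹ = b * x → ∀ N : ℕ, x ^ N = 1 →
      N.Coprime (finrank F E) → a = b := by
    intro a b g x ha hb h N hN hcop
    have h1 : g * x * g⁻¹ = a⁻¹ * b * x := by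
      calc g * x * g⁻¹ = a⁻¹ * (a * g * x * g⁻¹) := by group
        _ = a⁻¹ * (g * a * x * g⁻¹) := by rw [hcen a ha]
        _ = a⁻¹ * (g * (a * x) * g⁻¹) := by group
        _ = a⁻¹ * b * x := by rw [h]; group
    have h2 := eq_one_of_conj hlin (mul_mem (inv_mem ha) hb) h1 hN hcop
    rw [inv_mul_eq_one] at h2
    exact h2
  have hconj : ∀ {a g : D}, a ∈ AF D E F → g * a * g⁻¹ = a := by
    intro a g ha
    rw [← hcen a ha]; group
  let Φ : (AF D E F) × Fin 3 → ConjClasses D := fun z => ConjClasses.mk ((z.1 : D) * ![1, x, y] z.2)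
  have hΦ : Function.Injective Φ := by
    rintro ⟨⟨a, ha⟩, k⟩ ⟨⟨b, hb⟩, l⟩ hab
    have h1 : IsConj (a * ![1, x, y] k) (b * ![1, x, y] l) := ConjClasses.mk_eq_mk_iff_isConj.1 hab
    obtain ⟨g, hg⟩ := isConj_iff.1 h1
    -- the coset is determined
    have hout : ∀ {a b g u v : D}, a ∈ AF D E F → b ∈ AF D E F → g * (a * u) * g⁻¹ = b * v → ∀ {M N : ℕ},
        u ^ M = 1 → v ^ N = 1 → M.Coprime N → v ∈ AF D E F := by
      intro a b g u v ha hb h M N hM hN hcop
      have e1 : (b * v) ^ M = a ^ M := by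
        have h2 : Commute a u := hcen a ha u
        rw [← h, conj_pow, h2.mul_pow, hM, mul_one, hconj (pow_mem ha M)]
      have h2 : Commute b v := hcen b hb v
      rw [h2.mul_pow] at e1
      have e2 : v ^ M ∈ AF D E F := by
        have : v ^ M = (b ^ M)⁻¹ * a ^ M := by rw [← e1]; group
        rw [this]
        exact mul_mem (inv_mem (pow_mem hb M)) (pow_mem ha M)
      obtain ⟨s, t, hst⟩ : ∃ s t : ℤ, (M : ℤ) * s + N * t = 1 := by
        have h3 := Nat.gcd_eq_gcd_ab M N
        rw [hcop] at h3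
        exact ⟨_, _, by rw [← h3]; simp⟩
      have e3 : v = (v ^ M) ^ s := by
        calc v = v ^ ((M : ℤ) * s + N * t) := by rw [hst, zpow_one]
          _ = (v ^ M) ^ s * (v ^ N) ^ t := by rw [zpow_add, zpow_mul, zpow_mul, zpow_natCast, zpow_natCast]
          _ = (v ^ M) ^ s := by rw [hN, one_zpow, mul_one]
      rw [e3]
      exact zpow_mem e2 s
    have h35 : (3 ^ i).Coprime (5 ^ j) := Nat.Coprime.pow _ _ (by norm_num)
    have hg' : g⁻¹ * (b * ![1, x, y] l) * g⁻¹⁻¹ = a * ![1, x, y] k := by rw [← hg]; group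
    have hone : (1 : D) ^ 1 = 1 := one_pow 1
    have hk : k = l := by
      fin_cases k <;> fin_cases l
      all_goals first
        | rfl
        | exact absurd (hout ha hb hg hone hxi (Nat.coprime_one_left _)) hx
        | exact absurd (hout ha hb hg hone hyj (Nat.coprime_one_left _)) hy
        | exact absurd (hout hb ha hg' hone hxi (Nat.coprime_one_left _)) hx
        | exact absurd (hout hb ha hg' hone hyj (Nat.coprime_one_left _)) hy
        | exact absurd (hout ha hb hg hxi hyj h35) hy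
        | exact absurd (hout hb ha hg' hxi hyj h35) hy
    subst hk
    have hab' : a = b := by
      fin_cases k
      · exact key (x := 1) ha hb hg 1 hone (Nat.coprime_one_left _)
      · exact key ha hb hg _ hxi (Nat.Coprime.pow_left _ h3)
      · exact key ha hb hg _ hyj (Nat.Coprime.pow_left _ h5)
    subst hab'
    rfl
  have h1 := Nat.card_le_card_of_injective Φ hΦ
  rw [Nat.card_prod, Nat.card_eq_fintype_card (α := Fin 3), Fintype.card_fin] at h1
  omega

/-- dimension two: the order modulo scalars is sixty -/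
theorem index_two (hlin : ∀ (d : D) (c : F) (e : E), d • (c • e) = c • (d • e)) {p : ℕ} (hp : p.Prime) [CharP F p]
    (hcop : ¬ p ∣ Nat.card D) (hm : finrank F E = 2) {K : Subgroup D} (hK : IsComponent K) :
    (AF D E F).index = 60 := by
  have := Fact.mk hp
  obtain ⟨Z, hZn, hZ, hcases⟩ := H717.Dickson.cases (K := F) p (D := D) (E := E) hm hlin hcop
  have hZA : Z = AF D E F := by
    ext d
    exact hZ d
  have hns : ¬ Group.IsSolvable D := fun h =>
    Lib.ComponentSolvable.quasisimple_not_solvable hK.2 inferInstance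
  have hZs : Group.IsSolvable Z := Group.isSolvable_of_comm fun a b => Subtype.ext (by
    have h1 : (a : D) ∈ AF D E F := by rw [← hZA]; exact a.2
    exact central hlin h1 b)
  have hq : ∀ {N : Subgroup D} [N.Normal], Group.IsSolvable N → ¬ Group.IsSolvable (D ⧸ N) := fun h1 h2 =>
    hns ((Group.isSolvable_iff_subgroup_quotient _).2 ⟨h1, h2⟩)
  rw [← hZA]
  have h4 := H76.PermFour.solvable_perm_four
  rcases hcases with ⟨B, hBn, hBc, hBi, -⟩ | ⟨⟨g⟩⟩ | ⟨⟨g⟩⟩ | ⟨⟨g⟩⟩
  · exfalso
    refine hq (N := B) (Group.isSolvable_of_comm fun a b => Subtype.ext (hBc a a.2 b b.2)) ?_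
    have h3 : Nat.card (D ⧸ B) ∣ 2 := hBi
    apply Group.isSolvable_of_comm
    rcases (Nat.dvd_prime Nat.prime_two).1 h3 with h5 | h5
    · have := (Nat.card_eq_one_iff_unique.1 h5).1
      exact fun u v => Subsingleton.elim _ _
    · have : Fact (Nat.Prime 2) := ⟨Nat.prime_two⟩
      have hcyc : IsCyclic (D ⧸ B) := isCyclic_of_prime_card h5
      exact fun u v => (IsCyclic.commGroup (α := D ⧸ B)).mul_comm u v
  · exfalso
    exact hq hZs (Group.isSolvable_of_isSolvable_injective g.injective (f := g.toMonoidHom))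
  · exfalso
    exact hq hZs (Group.isSolvable_of_isSolvable_injective g.injective (f := g.toMonoidHom))
  · change Nat.card (D ⧸ Z) = 60
    rw [Nat.card_congr g.toEquiv, nat_card_alternatingGroup, Nat.card_eq_fintype_card, Fintype.card_fin]
    decide

/-- **T12.** Dimensions two and four over the prime field. -/
theorem ps_small {p m : ℕ} (hp : p.Prime) (h23 : 23 ≤ p) (hpE : ∀ e : E, p • e = 0)
    (hcop : ¬ p ∣ Nat.card D) (hF : Nat.card F = p) (hm : finrank F E = m)
    (h : (m = 2 ∧ ∃ K : Subgroup D, IsComponent K) ∨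
      (m = 4 ∧ (AF D E F).index ≤ 28800 ∧ 15 ∣ (AF D E F).index)) :
    p - 1 < orb D E * Nat.card (ConjClasses D) := by
  have hlin := fun d c e => lin_of_prime (D := D) (E := E) (F := F) hp hF d c e
  have := Fact.mk hp
  have hchar : CharP F p := by
    have := Fintype.ofFinite F
    rw [Nat.card_eq_fintype_card] at hF
    exact charP_of_card_eq_prime hF
  have hcard : Nat.card E = p ^ m := by
    have h1 := Module.natCard_eq_pow_finrank (K := F) (V := E)
    rw [h1, hF, hm]
  have hle := card_le_orb (D := D) (E := E)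
  have hAi := (AF D E F).card_mul_index
  have hbound : 15 ∣ (AF D E F).index ∧ (AF D E F).index * (p - 1) + 1 ≤ 3 * (p ^ m - 1) ∧ (m = 2 ∨ m = 4) := by
    rcases h with ⟨rfl, K, hK⟩ | ⟨rfl, h1, h2⟩
    · have h1 := index_two hlin hp hcop hm hK
      rw [h1]
      refine ⟨by norm_num, ?_, Or.inl rfl⟩
      obtain ⟨q, rfl⟩ : ∃ q, p = q + 1 := ⟨p - 1, by omega⟩
      have e : (q + 1) ^ 2 - 1 = q * q + 2 * q := by
        have : (q + 1) ^ 2 = q * q + 2 * q + 1 := by ring
        omega
      rw [e]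
      have h3 : 22 ≤ q := by omega
      have h4 : 22 * q ≤ q * q := Nat.mul_le_mul_right _ h3
      rw [Nat.add_sub_cancel]
      omega
    · refine ⟨h2, ?_, Or.inr rfl⟩
      obtain ⟨q, rfl⟩ : ∃ q, p = q + 1 := ⟨p - 1, by omega⟩
      have e : (q + 1) ^ 4 - 1 = q * (q * q * q + 4 * (q * q) + 6 * q + 4) := by
        have : (q + 1) ^ 4 = q * (q * q * q + 4 * (q * q) + 6 * q + 4) + 1 := by ring
        omega
      rw [e, Nat.add_sub_cancel]
      have h3 : 22 ≤ q := by omega
      have h4 : 22 * 22 ≤ q * q := Nat.mul_le_mul h3 h3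
      have h5 : 22 * 22 * 22 ≤ q * q * q := Nat.mul_le_mul h4 h3
      have h6 : (AF D E F).index * q ≤ 28800 * q := Nat.mul_le_mul_right _ h1
      have h7 : 12716 ≤ q * q * q + 4 * (q * q) + 6 * q + 4 := by omega
      have h8 : q * 12716 ≤ q * (q * q * q + 4 * (q * q) + 6 * q + 4) := Nat.mul_le_mul_left _ h7
      omega
  obtain ⟨h15, hb, hm24⟩ := hbound
  have h3 := three_classes hlin h15 (by rw [hm]; rcases hm24 with rfl | rfl <;> decide)
    (by rw [hm]; rcases hm24 with rfl | rfl <;> decide)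
  -- the computation
  obtain ⟨z, hz⟩ : ∃ z, z = Nat.card (AF D E F) := ⟨_, rfl⟩
  obtain ⟨b, hbb⟩ : ∃ b, b = (AF D E F).index := ⟨_, rfl⟩
  obtain ⟨r, hr⟩ : ∃ r, r = orb D E := ⟨_, rfl⟩
  obtain ⟨k, hk⟩ : ∃ k, k = Nat.card (ConjClasses D) := ⟨_, rfl⟩
  rw [← hz, ← hbb] at hAi
  rw [← hz, ← hk] at h3
  rw [← hbb] at hb
  rw [← hr, ← hAi, hcard] at hle
  rw [← hr, ← hk]
  by_contra hcon
  push Not at hcon
  have h5 : p ^ m - 1 ≤ r * (z * b) := by omega
  have h6 : 3 * (p ^ m - 1) ≤ b * (p - 1) := by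
    calc 3 * (p ^ m - 1) ≤ 3 * (r * (z * b)) := Nat.mul_le_mul_left _ h5
      _ = b * (r * (3 * z)) := by ring
      _ ≤ b * (r * k) := Nat.mul_le_mul_left _ (Nat.mul_le_mul_left _ h3)
      _ ≤ b * (p - 1) := Nat.mul_le_mul_left _ hcon
  omega

end A

end Cfsg.Agent.H930.Alm
end

-- part: H724/S4790/PsTwo
section
/-!
# S4790 T13: `ps_two`
-/

set_option autoImplicit false

open Cfsg Module
open Cfsg.Agent.H697.Alm

namespace Cfsg.Agent.H724.S4790

universe u

section orbits

variable {D E : Type u} [Group D] [AddCommGroup E] [DistribMulAction D E]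

theorem mk_eq_iff {a b : E} :
    (Quotient.mk'' a : MulAction.orbitRel.Quotient D E) = Quotient.mk'' b ↔ ∃ d : D, d • b = a := by
  rw [Quotient.eq'']
  exact Iff.rfl

theorem mk_ne_zero {a : E} (ha : a ≠ 0) :
    (Quotient.mk'' a : MulAction.orbitRel.Quotient D E) ≠ Quotient.mk'' 0 := by
  intro h
  obtain ⟨d, hd⟩ := mk_eq_iff.1 h
  rw [smul_zero] at hd
  exact ha hd.symm

end orbits

variable {D E : Type u} [Group D] [Finite D] [AddCommGroup E] [Finite E] [Nontrivial E] [DistribMulAction D E]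
  [FaithfulSMul D E]

/-- at most two orbits (from `H697.LinMain.main` and `H697.Three.LinStmt`, see `H697.Three.act_two`) -/
theorem ps_two {p : ℕ} [Fact p.Prime] (h5 : 5 ≤ p) (hpE : ∀ e : E, p • e = 0) (hcop : ¬ p ∣ Nat.card D)
    (hlin : H697.Three.LinStmt.{u} p)
    (hirr : IrrAct D E) (hne : Nat.card E ≠ p) (h : orb D E ≤ 2) :
    (orb D E = 1 ∧ p = 11 ∧ Nat.card (ConjClasses D) = 9) ∨
      p - 1 < orb D E * Nat.card (ConjClasses D) := by
  classical
  have hfinQ : Finite (MulAction.orbitRel.Quotient D E) := Quotient.finite _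
  let hF : Fintype (MulAction.orbitRel.Quotient D E) := Fintype.ofFinite _
  have horb : orb D E = Fintype.card (MulAction.orbitRel.Quotient D E) - 1 := by
    rw [orb, Nat.card_eq_fintype_card]
  obtain ⟨v₁, hv₁⟩ := exists_ne (0 : E)
  set! mk : E → MulAction.orbitRel.Quotient D E := fun a => Quotient.mk'' a with hmk
  have hmk_eq : ∀ a b : E, mk a = mk b ↔ ∃ d : D, d • b = a := fun a b => mk_eq_iff
  have hmk0 : ∀ a : E, a ≠ 0 → mk a ≠ mk 0 := fun a ha => mk_ne_zero ha
  have hsurj : ∀ q : MulAction.orbitRel.Quotient D E, ∃ a, mk a = q := fun q => Quotient.exists_rep q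
  by_cases hall : ∀ b : E, b ≠ 0 → mk b = mk v₁
  · have h2 : Fintype.card (MulAction.orbitRel.Quotient D E) = 2 := by
      have h3 : (Finset.univ : Finset (MulAction.orbitRel.Quotient D E)) = {mk 0, mk v₁} := by
        ext q
        simp only [Finset.mem_univ, Finset.mem_insert, Finset.mem_singleton, true_iff]
        obtain ⟨a, rfl⟩ := hsurj q
        by_cases ha : a = 0
        · left; rw [ha]
        · right; exact hall a ha
      rw [← Finset.card_univ, h3, Finset.card_pair (hmk0 v₁ hv₁).symm]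
    have h1 : orb D E = 1 := by rw [horb, h2]
    have htr : ∀ a b : E, a ≠ 0 → b ≠ 0 → ∃ d : D, d • a = b := by
      intro a b ha hb
      exact (hmk_eq b a).1 ((hall b hb).trans (hall a ha).symm)
    rcases H697.ActMain.act_main (p := p) hpE htr hcop with h4 | h4 | ⟨h4, -, -, ⟨e⟩⟩
    · right
      rw [h1, one_mul]
      omega
    · exact absurd h4 hne
    · left
      refine ⟨h1, h4, ?_⟩
      rw [H697.ClassCount.card_conjClasses_congr e]
      exact H697.SL25.card_conjClasses
  · push Not at hall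
    obtain ⟨v₂, hv₂, h12⟩ := hall
    have h3 : ({mk 0, mk v₁, mk v₂} : Finset (MulAction.orbitRel.Quotient D E)).card = 3 := by
      rw [Finset.card_eq_three]
      exact ⟨_, _, _, (hmk0 v₁ hv₁).symm, (hmk0 v₂ hv₂).symm, Ne.symm h12, rfl⟩
    have h4 := Finset.card_le_univ ({mk 0, mk v₁, mk v₂} : Finset (MulAction.orbitRel.Quotient D E))
    rw [h3] at h4
    have h5' : Fintype.card (MulAction.orbitRel.Quotient D E) = 3 := by omega
    have h6 : ({mk 0, mk v₁, mk v₂} : Finset (MulAction.orbitRel.Quotient D E)) = Finset.univ := by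
      apply Finset.eq_univ_of_card
      rw [h3, h5']
    have h7 : orb D E = 2 := by rw [horb, h5']
    right
    rw [h7]
    have h8 := H697.Three.act_two (p := p) hpE hlin hv₁ hv₂ (fun d hd => h12 ((hmk_eq v₂ v₁).2 ⟨d, hd⟩))
      (fun w hw => by
        have h9 : mk w ∈ ({mk 0, mk v₁, mk v₂} : Finset (MulAction.orbitRel.Quotient D E)) := by
          rw [h6]; exact Finset.mem_univ _
        simp only [Finset.mem_insert, Finset.mem_singleton] at h9
        rcases h9 with h9 | h9 | h9
        · exact absurd h9 (hmk0 w hw)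
        · exact Or.inl ((hmk_eq w v₁).1 h9)
        · exact Or.inr ((hmk_eq w v₂).1 h9)) hirr hcop hne
    omega

end Cfsg.Agent.H724.S4790
end

-- part: H61/S4790/LandauP
section
/-!
# Landau's equation with a predicate on the largest denominator

If `1 = ∑ 1 / nᵢ` (a fixed number of terms), the largest `nᵢ` satisfies a predicate checked by enumeration. For
five terms: it is at most `924` or equal to `1806`.
-/

set_option autoImplicit false

namespace Cfsg.Agent.H61.S4790.LandauP

/-- All representations of `a / b` as a sum of `k` unit fractions with denominators at least `lo` in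
increasing order have last denominator satisfying `P`. -/
def chk (P : ℕ → Bool) : ℕ → ℕ → ℕ → ℕ → Bool
  | 0, _, _, _ => true
  | 1, a, b, _ => (b % a != 0) || P (b / a)
  | k + 2, a, b, lo =>
    (List.range' (max lo (b / a + 1)) ((k + 2) * b / a + 1 - max lo (b / a + 1))).all
      fun x => chk P (k + 1) (a * x - b) (b * x) x

theorem chk_sound (P : ℕ → Bool) : ∀ (k a b lo : ℕ), 0 < a → 0 < b → chk P k a b lo = true →
    ∀ l : List ℕ, l.length = k → l.Pairwise (· ≤ ·) → (∀ x ∈ l, 0 < x ∧ lo ≤ x) →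
      (l.map (fun x : ℕ => (1 : ℚ) / x)).sum = a / b → ∀ x ∈ l, (∀ y ∈ l, y ≤ x) → P x = true
  | 0, a, b, lo, _, _, _, l, hl, _, _, _ => by
    rw [List.length_eq_zero_iff] at hl
    subst hl
    intro x hx
    simp at hx
  | 1, a, b, lo, ha, hb, hc, l, hl, _, hpos, hs => by
    obtain ⟨n, rfl⟩ := List.length_eq_one_iff.1 hl
    intro x hx _
    have hxn : x = n := by simpa using hx
    subst hxn
    have hn := (hpos x (by simp)).1
    rw [List.map_singleton, List.sum_singleton] at hs
    have h1 : a * x = b := by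
      have hx0 : (x : ℚ) ≠ 0 := by positivity
      have hb0 : (b : ℚ) ≠ 0 := by positivity
      rw [div_eq_div_iff hx0 hb0, one_mul] at hs
      exact_mod_cast hs.symm
    rw [chk] at hc
    rw [Bool.or_eq_true] at hc
    rcases hc with hc | hc
    · exfalso
      rw [← h1] at hc
      simp at hc
    · rw [← h1, Nat.mul_div_cancel_left _ ha] at hc
      exact hc
  | k + 2, a, b, lo, ha, hb, hc, l, hl, hsort, hpos, hs => by
    cases l with
    | nil => simp at hl
    | cons n t =>
      rw [List.length_cons] at hl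
      have hlt : t.length = k + 1 := by omega
      have hn := hpos n (by simp)
      rw [List.pairwise_cons] at hsort
      rw [List.map_cons, List.sum_cons] at hs
      have hn0 : (0 : ℚ) < n := by exact_mod_cast hn.1
      have hb0 : (0 : ℚ) < b := by exact_mod_cast hb
      have ha0 : (0 : ℚ) < a := by exact_mod_cast ha
      -- the sum of the tail is positive
      have htpos : (0 : ℚ) < (t.map (fun x : ℕ => (1 : ℚ) / x)).sum := by
        apply List.sum_pos
        · intro y hy
          rw [List.mem_map] at hy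
          obtain ⟨x, hx, rfl⟩ := hy
          have := (hpos x (List.mem_cons_of_mem _ hx)).1
          positivity
        · intro h
          rw [List.map_eq_nil_iff] at h
          rw [h] at hlt
          simp at hlt
      have htle : (t.map (fun x : ℕ => (1 : ℚ) / x)).sum ≤ (k + 1 : ℕ) * (1 / n) := by
        have h1 := List.sum_le_card_nsmul (t.map (fun x : ℕ => (1 : ℚ) / x)) (1 / n) (by
          intro y hy
          rw [List.mem_map] at hy
          obtain ⟨x, hx, rfl⟩ := hy
          have h2 := hsort.1 x hx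
          exact one_div_le_one_div_of_le hn0 (by exact_mod_cast h2))
        rw [List.length_map, hlt, nsmul_eq_mul] at h1
        exact h1
      have h1 : (1 : ℚ) / n < a / b := by rw [← hs]; linarith only [htpos]
      have h2 : (a : ℚ) / b ≤ (k + 2 : ℕ) * (1 / n) := by
        rw [← hs]
        push_cast at htle ⊢
        linarith only [htle]
      have h3 : b < a * n := by
        rw [div_lt_div_iff₀ hn0 hb0, one_mul] at h1
        exact_mod_cast h1
      have h4 : a * n ≤ (k + 2) * b := by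
        rw [mul_one_div, div_le_div_iff₀ hb0 hn0] at h2
        exact_mod_cast h2
      have h5 : b / a + 1 ≤ n := by
        rw [Nat.add_one_le_iff, Nat.div_lt_iff_lt_mul ha, mul_comm]
        exact h3
      have h6 : n ≤ (k + 2) * b / a := by
        rw [Nat.le_div_iff_mul_le ha, mul_comm]
        exact h4
      rw [chk, List.all_eq_true] at hc
      have hc' := hc n (by
        rw [List.mem_range'_1]
        constructor
        · exact max_le hn.2 h5
        · omega)
      have hab : ((a * n - b : ℕ) : ℚ) = a * n - b := by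
        rw [Nat.cast_sub h3.le]
        push_cast
        ring
      have hts : (t.map (fun x : ℕ => (1 : ℚ) / x)).sum = ((a * n - b : ℕ) : ℚ) / ((b * n : ℕ) : ℚ) := by
        have : (t.map (fun x : ℕ => (1 : ℚ) / x)).sum = a / b - 1 / n := by rw [← hs]; ring
        rw [this, hab]
        push_cast
        field_simp
      have ih := chk_sound P (k + 1) (a * n - b) (b * n) n (by omega) (Nat.mul_pos hb hn.1) hc' t hlt hsort.2
        (fun x hx => ⟨(hpos x (List.mem_cons_of_mem _ hx)).1, hsort.1 x hx⟩) hts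
      intro x hx hmax
      rcases List.mem_cons.1 hx with rfl | hx
      · -- `x = n` is maximal, so it is equal to the elements of the tail
        cases t with
        | nil => simp at hlt
        | cons m s =>
          have h7 : m = x := le_antisymm (hmax m (by simp)) (hsort.1 m (by simp))
          refine ih x (by rw [← h7]; simp) fun y hy => hmax y (List.mem_cons_of_mem _ hy)
      · exact ih x hx fun y hy => hmax y (List.mem_cons_of_mem _ hy)

theorem of_chk {P : ℕ → Bool} {ι : Type*} [Fintype ι] (h : chk P (Fintype.card ι) 1 1 1 = true) (n : ι → ℕ)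
    (hn : ∀ i, 0 < n i) (hs : ∑ i, (1 : ℚ) / n i = 1) (i : ι) (hi : ∀ j, n j ≤ n i) : P (n i) = true := by
  classical
  let m : Multiset ℕ := Finset.univ.val.map n
  let l := m.sort (· ≤ ·)
  have hl : (l : Multiset ℕ) = m := Multiset.sort_eq m (· ≤ ·)
  have hmem : ∀ x, x ∈ l ↔ x ∈ m := fun x => by rw [← hl]; rfl
  refine chk_sound P _ 1 1 1 one_pos one_pos h l ?_ ?_ ?_ ?_ (n i) ?_ ?_
  · rw [Multiset.length_sort, Multiset.card_map]
    rfl
  · exact Multiset.pairwise_sort m (· ≤ ·)
  · intro x hx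
    rw [hmem, Multiset.mem_map] at hx
    obtain ⟨i, -, rfl⟩ := hx
    exact ⟨hn i, hn i⟩
  · have h1 : (l.map (fun x : ℕ => (1 : ℚ) / x)).sum = ((l : Multiset ℕ).map (fun x : ℕ => (1 : ℚ) / x)).sum := by
      rw [Multiset.map_coe, Multiset.sum_coe]
    rw [h1, hl, Multiset.map_map, Nat.cast_one, div_one]
    exact hs
  · rw [hmem]
    exact Multiset.mem_map_of_mem n (Finset.mem_univ_val i)
  · intro y hy
    rw [hmem, Multiset.mem_map] at hy
    obtain ⟨j, -, rfl⟩ := hy
    exact hi j

/-- The order of a group with `k` classes. -/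
theorem card_of_chk {P : ℕ → Bool} {G : Type*} [Group G] [Finite G]
    (h : chk P (Nat.card (ConjClasses G)) 1 1 1 = true) : P (Nat.card G) = true := by
  classical
  have := Fintype.ofFinite G
  have := Fintype.ofFinite (ConjClasses G)
  have hG : 0 < Nat.card G := Nat.card_pos
  -- class sizes
  let s : ConjClasses G → ℕ := fun c => Nat.card c.carrier
  have hs0 : ∀ c, 0 < s c := by
    intro c
    obtain ⟨g, rfl⟩ := ConjClasses.mk_surjective c
    have : Nonempty (ConjClasses.mk g).carrier := ⟨⟨g, ConjClasses.mem_carrier_mk⟩⟩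
    exact Nat.card_pos
  have hdvd : ∀ c, s c ∣ Nat.card G := by
    intro c
    obtain ⟨g, rfl⟩ := ConjClasses.mk_surjective c
    have h1 : (ConjClasses.mk g).carrier = MulAction.orbit (ConjAct G) g := by
      rw [ConjAct.orbit_eq_carrier_conjClasses]
    change Nat.card (ConjClasses.mk g).carrier ∣ _
    rw [h1]
    have h2 := MulAction.index_stabilizer (ConjAct G) g
    rw [Nat.card_coe_set_eq, ← h2]
    exact (Subgroup.index_dvd_card _).trans (by rw [Nat.card_congr (ConjAct.ofConjAct (G := G)).toEquiv])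
  have hsum : ∑ c, s c = Nat.card G := by
    have := Group.sum_card_conj_classes_eq_card G
    rw [← this, finsum_eq_sum_of_fintype]
    rfl
  rw [Nat.card_eq_fintype_card (α := ConjClasses G)] at h
  have h1 : s (ConjClasses.mk (1 : G)) = 1 := by
    change Nat.card (ConjClasses.mk (1 : G)).carrier = 1
    have : (ConjClasses.mk (1 : G)).carrier = {1} := by
      ext x
      rw [ConjClasses.mem_carrier_iff_mk_eq, ConjClasses.mk_eq_mk_iff_isConj, isConj_one_left]
      rfl
    rw [this]
    simp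
  have key := of_chk h (fun c => Nat.card G / s c) (fun c => Nat.div_pos (Nat.le_of_dvd hG (hdvd c)) (hs0 c)) (by
    have h1 : ∀ c, (1 : ℚ) / ((Nat.card G / s c : ℕ) : ℚ) = (s c : ℚ) / Nat.card G := by
      intro c
      rw [Nat.cast_div (hdvd c) (by have := hs0 c; positivity), one_div_div]
    rw [Finset.sum_congr rfl fun c _ => h1 c, ← Finset.sum_div, ← Nat.cast_sum, hsum]
    exact div_self (by positivity)) (ConjClasses.mk 1) (fun c => by
      simp only [h1, Nat.div_one]
      exact Nat.div_le_self _ _)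
  simp only [h1, Nat.div_one] at key
  exact key

private noncomputable def fN (n : ℕ) (f : ℕ → Bool) : Bool := @Nat.rec (fun _ => Bool) false (fun m _ => f m) n.succ

private noncomputable def alR (P : ℕ → Bool) (s n : ℕ) : Bool :=
  @Nat.rec (fun _ => Bool) true (fun i r => @Bool.rec (fun _ => Bool) false r (fN (Nat.add s i) P)) n

private theorem alR_sound {P : ℕ → Bool} {s : ℕ} : ∀ n, alR P s n = true → (List.range' s n).all P = true
  | 0, _ => rfl
  | n + 1, h => by
    have h1 : @Bool.rec (fun _ => Bool) false (alR P s n) (P (s + n)) = true := h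
    rw [List.range'_concat, List.all_append, Nat.one_mul, List.all_cons, List.all_nil]
    rcases hp : P (s + n) with _ | _
    · rw [hp] at h1
      exact absurd h1 Bool.false_ne_true
    · rw [hp] at h1
      rw [alR_sound n h1]
      rfl

private noncomputable def chkF (P : ℕ → Bool) (k : ℕ) : ℕ → ℕ → ℕ → Bool :=
  @Nat.rec (fun _ => ℕ → ℕ → ℕ → Bool)
    (fun a b _ => @Bool.rec (fun _ => Bool) true (P (Nat.div b a)) (Nat.beq (Nat.mod b a) 0))
    (fun k ih a b lo => fN a fun a => fN b fun b => fN (max lo (b / a + 1)) fun s => fN ((k + 2) * b / a + 1 - s) fun n =>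
      alR (fun x => ih (Nat.sub (Nat.mul a x) b) (Nat.mul b x) x) s n) k

private theorem chkF_sound {P : ℕ → Bool} : ∀ k a b lo, chkF P k a b lo = true → chk P (k + 1) a b lo = true
  | 0, a, b, lo, h => by
    have h1 : @Bool.rec (fun _ => Bool) true (P (b / a)) (Nat.beq (b % a) 0) = true := h
    show ((b % a != 0) || P (b / a)) = true
    by_cases h2 : b % a = 0
    · rw [h2] at h1
      exact Bool.or_eq_true_iff.2 (Or.inr h1)
    · exact Bool.or_eq_true_iff.2 (Or.inl (bne_iff_ne.2 h2))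
  | k + 1, a, b, lo, h => by
    have h1 := alR_sound _ (show alR (fun x => chkF P k (a * x - b) (b * x) x) (max lo (b / a + 1))
      ((k + 2) * b / a + 1 - max lo (b / a + 1)) = true from h)
    rw [chk]
    exact List.all_eq_true.2 fun x hx => chkF_sound k _ _ _ (List.all_eq_true.1 h1 x hx)

private theorem chk_five : chk (fun n => decide (n ≤ 924) || decide (n = 1806)) 5 1 1 1 = true :=
  chkF_sound 4 1 1 1 (by decide +kernel)

/-- A group with five classes has at most `924` elements or exactly `1806`. -/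
theorem card_five {G : Type*} [Group G] [Finite G] (h : Nat.card (ConjClasses G) = 5) :
    Nat.card G ≤ 924 ∨ Nat.card G = 1806 := by
  have h1 := card_of_chk (P := fun n => decide (n ≤ 924) || decide (n = 1806)) (G := G) (by
    rw [h]
    exact chk_five)
  simpa using h1

end Cfsg.Agent.H61.S4790.LandauP
end

-- part: H61/S4790/LinSmall
section
/-!
# S4790, `lin_small`: coprime irreducible linear groups over small prime fields

`4 (p - 1) < (k(D) + r) ^ 2` for `5 ≤ p < 23`, where `r` is the number of orbits on nonzero vectors.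
-/

set_option autoImplicit false

namespace Cfsg.Agent.H61.S4790

open Cfsg Cfsg.Agent Module
open Cfsg.Agent.H697.Alm (orb IrrAct)
open Cfsg.Agent.H697

universe u v

/-- `|E| - 1` is at most the number of orbits times the group order. -/
theorem card_le_orb (D : Type v) (E : Type u) [Group D] [AddCommGroup E] [DistribMulAction D E] [Finite D] [Finite E] :
    Nat.card E ≤ orb D E * Nat.card D + 1 := by
  classical
  have := Fintype.ofFinite E
  have := Fintype.ofFinite (MulAction.orbitRel.Quotient D E)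
  let f : E → MulAction.orbitRel.Quotient D E := fun e => Quotient.mk _ e
  have hf : ∀ a b : E, f a = f b ↔ a ∈ MulAction.orbit D b := by
    intro a b
    exact Quotient.eq (r := MulAction.orbitRel D E)
  have h1 : (Finset.univ.erase (0 : E)).card ≤
      Nat.card D * ((Finset.univ : Finset (MulAction.orbitRel.Quotient D E)).erase (f 0)).card := by
    refine Finset.card_le_mul_card_image_of_maps_to (f := f) ?_ _ ?_
    · intro e he
      rw [Finset.mem_erase] at he ⊢
      refine ⟨fun h => he.1 ?_, Finset.mem_univ _⟩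
      obtain ⟨d, hd⟩ := (hf e 0).1 h
      have hd' : d • (0 : E) = e := hd
      rw [← hd', smul_zero]
    · intro c hc
      obtain ⟨x, rfl⟩ := Quotient.exists_rep c
      have h2 : (MulAction.orbit D x).ncard ≤ Nat.card D := by
        rw [← MulAction.index_stabilizer]
        exact Nat.le_of_dvd Nat.card_pos (Subgroup.index_dvd_card _)
      refine le_trans ?_ h2
      rw [Set.ncard_eq_toFinset_card']
      refine Finset.card_le_card fun y hy => ?_
      rw [Set.mem_toFinset]
      exact (hf y x).1 (Finset.mem_filter.1 hy).2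
  rw [Finset.card_erase_of_mem (Finset.mem_univ _), Finset.card_erase_of_mem (Finset.mem_univ _),
    Finset.card_univ, Finset.card_univ, ← Nat.card_eq_fintype_card, ← Nat.card_eq_fintype_card] at h1
  have h2 : orb D E = Nat.card (MulAction.orbitRel.Quotient D E) - 1 := rfl
  rw [← h2, mul_comm] at h1
  omega

theorem card_le_six {G : Type*} [Group G] [Finite G] (h : Nat.card (ConjClasses G) ≤ 3) : Nat.card G ≤ 6 := by
  refine H698.Landau.card_le_of_chk ?_
  generalize Nat.card (ConjClasses G) = k at h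
  interval_cases k <;> decide +kernel

/-- A coprime linear group of degree two with at most five classes has fewer than `96` elements. -/
theorem dim_two {D E : Type u} [Group D] [Finite D] [AddCommGroup E] [DistribMulAction D E]
    [FaithfulSMul D E] (p : ℕ) [hp : Fact p.Prime] [Module (ZMod p) E] (hfr : finrank (ZMod p) E = 2)
    (hcop : ¬ p ∣ Nat.card D) (hk : Nat.card (ConjClasses D) ≤ 5) : Nat.card D < 96 := by
  by_contra hcon
  push Not at hcon
  have hlin : ∀ (d : D) (c : ZMod p) (e : E), d • (c • e) = c • (d • e) := by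
    intro d c e
    exact ZMod.map_smul (DistribSMul.toAddMonoidHom E d) c e
  obtain ⟨Z, hZn, hZ, hcases⟩ := H717.Dickson.cases (K := ZMod p) p (D := D) (E := E) hfr hlin hcop
  have hcent : (Subgroup.centralizer (Z : Set D)).index ≤ 1 := by
    have : Subgroup.centralizer (Z : Set D) = ⊤ := by
      rw [eq_top_iff]
      intro d _
      rw [Subgroup.mem_centralizer_iff]
      intro z hz
      obtain ⟨c, hc⟩ := (hZ z).1 hz
      apply FaithfulSMul.eq_of_smul_eq_smul (α := E)
      intro e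
      rw [mul_smul, mul_smul, hc, hc, hlin]
    rw [this, Subgroup.index_top]
  obtain ⟨z, hz1, hz2⟩ := H698.Count.count Z hcent
  have hDZ := Subgroup.card_eq_card_quotient_mul_card_subgroup Z
  rcases hcases with ⟨B, hBn, hBc, hBi, -⟩ | ⟨⟨g⟩⟩ | ⟨⟨g⟩⟩ | ⟨⟨g⟩⟩
  · have h1 := ClassCount.card_le_mul_index B hBc
    have h2 := B.card_mul_index
    have h3 := Nat.le_of_dvd (by norm_num) hBi
    have h4 : Nat.card D ≤ 2 * 5 * 2 := by
      calc Nat.card D = Nat.card B * B.index := h2.symm
        _ ≤ (B.index * Nat.card (ConjClasses D)) * B.index := Nat.mul_le_mul_right _ h1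
        _ ≤ (2 * 5) * 2 := Nat.mul_le_mul (Nat.mul_le_mul h3 hk) h3
    omega
  · have h1 : Nat.card (D ⧸ Z) = 12 := by
      rw [Nat.card_congr g.toEquiv, nat_card_alternatingGroup, Nat.card_eq_fintype_card, Fintype.card_fin]
      decide
    have h2 : Nat.card (ConjClasses (D ⧸ Z)) = 4 := by
      rw [ClassCount.card_conjClasses_congr g, H717.SmallClass.conj_alt_four]
    rw [h1] at hDZ
    omega
  · have h1 : Nat.card (D ⧸ Z) = 24 := by
      rw [Nat.card_congr g.toEquiv, Nat.card_perm, Nat.card_eq_fintype_card, Fintype.card_fin]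
      decide
    have h2 : Nat.card (ConjClasses (D ⧸ Z)) = 5 := by
      rw [ClassCount.card_conjClasses_congr g, H717.SmallClass.conj_sym_four]
    rw [h1] at hDZ
    omega
  · have h1 : Nat.card (D ⧸ Z) = 60 := by
      rw [Nat.card_congr g.toEquiv, nat_card_alternatingGroup, Nat.card_eq_fintype_card, Fintype.card_fin]
      decide
    have h2 : Nat.card (ConjClasses (D ⧸ Z)) = 5 := by
      rw [ClassCount.card_conjClasses_congr g, H717.SmallClass.conj_alt_five]
    rw [h1] at hDZ
    omega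

/-- A group acting faithfully on a group with `17 ^ 3` elements has order prime to `43`. -/
theorem not_43 {D E : Type u} [Group D] [Finite D] [AddCommGroup E] [Finite E] [DistribMulAction D E]
    [FaithfulSMul D E] (hE : Nat.card E = 17 ^ 3) : ¬ 43 ∣ Nat.card D := by
  intro h
  have : Fact (Nat.Prime 43) := ⟨by norm_num⟩
  obtain ⟨g, hg⟩ := exists_prime_orderOf_dvd_card' 43 h
  have hP : IsPGroup 43 (Subgroup.zpowers g) := IsPGroup.of_card (n := 1) (by rw [Nat.card_zpowers, hg, pow_one])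
  have h1 := hP.card_modEq_card_fixedPoints E
  have h2 : Nat.card (MulAction.fixedPoints (Subgroup.zpowers g) E) ∣ 17 ^ 3 := by
    rw [← hE]
    exact AddSubgroup.card_addSubgroup_dvd_card (FixedPoints.addSubgroup (Subgroup.zpowers g) E)
  obtain ⟨j, hj, hj2⟩ := (Nat.dvd_prime_pow (by norm_num : Nat.Prime 17)).1 h2
  rw [hE, hj2] at h1
  have h3 : j = 3 := by
    interval_cases j
    · exact absurd h1 (by decide)
    · exact absurd h1 (by decide)
    · exact absurd h1 (by decide)
    · rfl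
  subst h3
  have h4 : MulAction.fixedPoints (Subgroup.zpowers g) E = Set.univ := by
    have h5 : (MulAction.fixedPoints (Subgroup.zpowers g) E).ncard = (Set.univ : Set E).ncard := by
      rw [Set.ncard_univ, hE, ← hj2, Nat.card_coe_set_eq]
    exact Set.eq_of_subset_of_ncard_le (Set.subset_univ _) h5.ge (Set.toFinite _)
  have h5 : g = 1 := by
    apply FaithfulSMul.eq_of_smul_eq_smul (α := E)
    intro e
    rw [one_smul]
    have h6 : e ∈ MulAction.fixedPoints (Subgroup.zpowers g) E := by rw [h4]; exact Set.mem_univ _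
    exact h6 ⟨g, Subgroup.mem_zpowers g⟩
  rw [h5, orderOf_one] at hg
  omega

theorem am_gm (a b : ℕ) : 4 * (b * a) ≤ (a + b) ^ 2 := by
  rcases le_total a b with h | h
  · obtain ⟨c, rfl⟩ := Nat.exists_eq_add_of_le h
    linarith only [_root_.sq_nonneg (↑c : ℤ)]
  · obtain ⟨c, rfl⟩ := Nat.exists_eq_add_of_le h
    linarith only [_root_.sq_nonneg (↑c : ℤ)]

theorem le_of_sq {s m : ℕ} (c : ℕ) (h : s ^ 2 ≤ m) (hm : m < (c + 1) ^ 2) : s ≤ c := by
  by_contra hc
  push Not at hc
  have h1 : (c + 1) ^ 2 ≤ s ^ 2 := Nat.pow_le_pow_left hc 2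
  omega

variable {D E : Type u} [Group D] [Finite D] [AddCommGroup E] [Finite E] [Nontrivial E] [DistribMulAction D E]
  [FaithfulSMul D E] {F : Type u} [Field F] [Finite F] [Module F E]

set_option linter.unusedVariables false in
/-- T15 -/
theorem lin_small {p : ℕ} [Fact p.Prime] (h5 : 5 ≤ p) (h22 : p < 23) (hpE : ∀ e : E, p • e = 0)
    (hcop : ¬ p ∣ Nat.card D) (hirr : IrrAct D E) (hne : Nat.card E ≠ p)
    (htwo : orb D E ≤ 2 → (orb D E = 1 ∧ p = 11 ∧ Nat.card (ConjClasses D) = 9) ∨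
      p - 1 < orb D E * Nat.card (ConjClasses D)) :
    4 * (p - 1) < (Nat.card (ConjClasses D) + orb D E) ^ 2 := by
  have hp : p.Prime := Fact.out
  rcases Nat.lt_or_ge 2 (orb D E) with hr | hr
  swap
  · rcases htwo hr with ⟨h1, h2, h3⟩ | h
    · rw [h1, h2, h3]
      norm_num
    · exact lt_of_lt_of_le (Nat.mul_lt_mul_of_pos_left h (by norm_num)) (am_gm _ _)
  let _ : Module (ZMod p) E := AddCommGroup.zmodModule (n := p) hpE
  have hfin : Module.Finite (ZMod p) E := Module.Finite.of_finite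
  obtain ⟨n, hn⟩ : ∃ n, finrank (ZMod p) E = n := ⟨_, rfl⟩
  have hE : Nat.card E = p ^ n := by
    rw [Module.natCard_eq_pow_finrank (K := ZMod p), Nat.card_zmod, hn]
  have hn2 : 2 ≤ n := by
    by_contra hcon
    have : n = 0 ∨ n = 1 := by omega
    rcases this with rfl | rfl
    · have := Finite.one_lt_card (α := E)
      rw [hE, pow_zero] at this
      omega
    · exact hne (by rw [hE, pow_one])
  have hcard := card_le_orb D E
  rw [hE] at hcard
  have hk1 : 1 ≤ Nat.card (ConjClasses D) := Nat.card_pos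
  by_contra hcon
  push Not at hcon
  have hp2 : p ^ 2 ≤ p ^ n := Nat.pow_le_pow_right hp.pos hn2
  -- few classes
  have h3 : Nat.card (ConjClasses D) ≤ 3 → Nat.card D ≤ 6 := card_le_six
  have h2 : Nat.card (ConjClasses D) ≤ 2 → Nat.card D ≤ 2 := ClassCount.card_le_two
  have h4 : Nat.card (ConjClasses D) ≤ 4 → Nat.card D ≤ 42 := H698.Landau.le_42
  have h55 : Nat.card (ConjClasses D) = 5 → Nat.card D ≤ 924 ∨ Nat.card D = 1806 := LandauP.card_five
  obtain ⟨k, hk⟩ : ∃ k, Nat.card (ConjClasses D) = k := ⟨_, rfl⟩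
  obtain ⟨r, hr'⟩ : ∃ r, orb D E = r := ⟨_, rfl⟩
  have hd96 : n = 2 → k ≤ 5 → Nat.card D < 96 := by
    intro hn2 hk5
    exact dim_two p (hn.trans hn2) hcop (hk.le.trans hk5)
  have h43 : p = 17 → n = 3 → ¬ 43 ∣ Nat.card D := by
    rintro rfl rfl
    exact not_43 hE
  obtain ⟨N, hN⟩ : ∃ N, Nat.card D = N := ⟨_, rfl⟩
  rw [hk] at hcon hk1 h2 h3 h4 h55
  rw [hr'] at hcon hcard hr
  rw [hN] at hcard h2 h3 h4 h55 hd96 h43
  clear hE hn hne htwo hirr hcop hk hr' hN
  have hpn : ∀ m, m ≤ n → p ^ m ≤ p ^ n := fun m hm => Nat.pow_le_pow_right hp.pos hm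
  -- the primes
  have hpp : p = 5 ∨ p = 7 ∨ p = 11 ∨ p = 13 ∨ p = 17 ∨ p = 19 := by
    interval_cases p <;> first | (clear * -; omega) | (exfalso; revert hp; norm_num)
  have small : ∀ {c : ℕ}, N ≤ c → r * c + 1 < p ^ 2 → False := by
    intro c hc hlt
    have h6 : r * N ≤ r * c := Nat.mul_le_mul_left _ hc
    omega
  rcases hpp with rfl | rfl | rfl | rfl | rfl | rfl
  · have hk' : k + r ≤ 4 := le_of_sq 4 hcon (by norm_num)
    have hr9 : r ≤ 3 := by omega
    interval_cases r
    exact small (h2 (by omega)) (by norm_num)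
  · have hk' : k + r ≤ 4 := le_of_sq 4 hcon (by norm_num)
    have hr9 : r ≤ 3 := by omega
    interval_cases r
    exact small (h2 (by omega)) (by norm_num)
  · have hk' : k + r ≤ 6 := le_of_sq 6 hcon (by norm_num)
    have hr9 : r ≤ 5 := by omega
    interval_cases r
    · exact small (h3 (by omega)) (by norm_num)
    · exact small (h2 (by omega)) (by norm_num)
    · exact small (h2 (by omega)) (by norm_num)
  · have hk' : k + r ≤ 6 := le_of_sq 6 hcon (by norm_num)
    have hr9 : r ≤ 5 := by omega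
    interval_cases r
    · exact small (h3 (by omega)) (by norm_num)
    · exact small (h2 (by omega)) (by norm_num)
    · exact small (h2 (by omega)) (by norm_num)
  · -- `p = 17`
    have hk' : k + r ≤ 8 := le_of_sq 8 hcon (by norm_num)
    rcases Nat.lt_or_ge k 5 with hk4 | hk5
    · rcases Nat.lt_or_ge 4 r with hr4 | hr4
      · have hr8 : r ≤ 7 := by omega
        exact small (h3 (by omega)) (by interval_cases r <;> norm_num)
      · exact small (h4 (by omega)) (by interval_cases r <;> norm_num)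
    · obtain rfl : k = 5 := by omega
      obtain rfl : r = 3 := by omega
      have h6 := h55 rfl
      rcases Nat.lt_or_ge n 3 with h7 | h7
      · have h8 := hd96 (by omega) le_rfl
        omega
      · rcases Nat.lt_or_ge n 4 with h8 | h8
        · obtain rfl : n = 3 := by omega
          have h9 := h43 rfl rfl
          rcases h6 with h6 | h6
          · norm_num at hcard
            omega
          · rw [h6] at h9
            exact h9 ⟨42, by norm_num⟩
        · have h9 := hpn 4 h8
          norm_num at h9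
          omega
  · -- `p = 19`
    have hk' : k + r ≤ 8 := le_of_sq 8 hcon (by norm_num)
    rcases Nat.lt_or_ge k 5 with hk4 | hk5
    · rcases Nat.lt_or_ge 4 r with hr4 | hr4
      · have hr8 : r ≤ 7 := by omega
        exact small (h3 (by omega)) (by interval_cases r <;> norm_num)
      · exact small (h4 (by omega)) (by interval_cases r <;> norm_num)
    · obtain rfl : k = 5 := by omega
      obtain rfl : r = 3 := by omega
      have h6 := h55 rfl
      rcases Nat.lt_or_ge n 3 with h7 | h7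
      · have h8 := hd96 (by omega) le_rfl
        omega
      · have h9 := hpn 3 h7
        norm_num at h9
        omega

end Cfsg.Agent.H61.S4790
end

-- part: H680/S4790/Two
section
/-!
# S4790, T9: coprime projective representations of degree two (helper680)
-/

set_option autoImplicit false

namespace Cfsg.Agent.H680.S4790

open Subgroup

universe u

theorem comm_top_of_surj {P Q : Type*} [Group P] [Group Q] (f : P →* Q) (hf : Function.Surjective f)
    (h : commutator P = ⊤) : commutator Q = ⊤ := by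
  rw [commutator_def] at h ⊢
  rw [← map_top_of_surjective f hf, ← map_commutator, h]

theorem not_perf_a4 : commutator (alternatingGroup (Fin 4)) ≠ ⊤ := by
  intro h
  have h4 : Nat.card (Fin 4) = 4 := by simp
  have h1 := alternatingGroup.kleinFour_eq_commutator h4
  have h2 := (alternatingGroup.kleinFour_isKleinFour h4).card_four
  rw [h1, h, card_top, nat_card_alternatingGroup, Nat.card_eq_fintype_card, Fintype.card_fin] at h2
  revert h2
  decide

theorem not_perf_s4 : commutator (Equiv.Perm (Fin 4)) ≠ ⊤ := by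
  intro h
  have h1 : commutator (Equiv.Perm (Fin 4)) ≤ (Equiv.Perm.sign (α := Fin 4)).ker := by
    rw [commutator_def, commutator_le]
    intro a _ b _
    rw [MonoidHom.mem_ker, map_commutatorElement, commutatorElement_eq_one_iff_mul_comm]
    exact mul_comm _ _
  rw [h, top_le_iff] at h1
  have h2 : Equiv.swap (0 : Fin 4) 1 ∈ (Equiv.Perm.sign (α := Fin 4)).ker := by rw [h1]; exact mem_top _
  rw [MonoidHom.mem_ker] at h2
  revert h2
  decide

/-- **T9.** -/
theorem two {p : ℕ} (hp : p.Prime) (h7 : 7 ≤ p) (T : Type u) [Group T] [Finite T] [IsSimpleGroup T]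
    (h : ¬ IsMulCommutative T) (hR : H698.Rep.{u, u} p 2 T) : Nat.card T = 60 ∧ Nat.card (MulAut T) ≤ 120 := by
  obtain ⟨F, _, _, _, P, _, _, π, ρ, hπ, hker, hperf, hρ, hcop⟩ := hR
  have : Fact p.Prime := ⟨hp⟩
  let act : DistribMulAction P (Fin 2 → F) :=
    { smul := fun g v => ((ρ g : Matrix.GeneralLinearGroup (Fin 2) F) : Matrix (Fin 2) (Fin 2) F).mulVec v
      one_smul := fun v => by
        show ((ρ 1 : Matrix.GeneralLinearGroup (Fin 2) F) : Matrix (Fin 2) (Fin 2) F).mulVec v = v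
        rw [map_one, Units.val_one, Matrix.one_mulVec]
      mul_smul := fun g g' v => by
        show ((ρ (g * g') : Matrix.GeneralLinearGroup (Fin 2) F) : Matrix (Fin 2) (Fin 2) F).mulVec v = _
        rw [map_mul, Units.val_mul, ← Matrix.mulVec_mulVec]
        rfl
      smul_zero := fun g => Matrix.mulVec_zero _
      smul_add := fun g v w => Matrix.mulVec_add _ _ _ }
  have hact : ∀ (g : P) (v : Fin 2 → F), g • v =
      ((ρ g : Matrix.GeneralLinearGroup (Fin 2) F) : Matrix (Fin 2) (Fin 2) F).mulVec v := fun _ _ => rfl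
  have hmat : ∀ (A B : Matrix (Fin 2) (Fin 2) F), (∀ v, A.mulVec v = B.mulVec v) → A = B := by
    intro A B hAB
    exact Matrix.toLin'.injective (LinearMap.ext fun v => by
      rw [Matrix.toLin'_apply, Matrix.toLin'_apply]; exact hAB v)
  have hfs : FaithfulSMul P (Fin 2 → F) := ⟨fun {x y} hxy => hρ (Units.ext (hmat _ _ hxy))⟩
  obtain ⟨Z, hZn, hZ, hcases⟩ := H717.Dickson.cases (K := F) p (D := P) (E := Fin 2 → F) (by simp)
    (fun d c e => by rw [hact, hact, Matrix.mulVec_smul]) hcop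
  have hZc : Z ≤ center P := by
    intro z hz
    obtain ⟨c, hc⟩ := (hZ z).1 hz
    rw [mem_center_iff]
    intro g
    refine hfs.eq_of_smul_eq_smul fun v => ?_
    rw [mul_smul, mul_smul, hc, hc, hact, hact, Matrix.mulVec_smul]
  have hperfZ : commutator (P ⧸ Z) = ⊤ := comm_top_of_surj (QuotientGroup.mk' Z) (QuotientGroup.mk'_surjective Z) hperf
  have hcT : center T = ⊥ := by
    rcases IsSimpleGroup.eq_bot_or_eq_top_of_normal (center T) inferInstance with h1 | h1
    · exact h1
    · exact absurd ⟨⟨fun a b => (mem_center_iff.1 (h1 ▸ mem_top b) a)⟩⟩ h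
  rcases hcases with ⟨B, hBn, hBc, hBi, -⟩ | ⟨⟨g⟩⟩ | ⟨⟨g⟩⟩ | ⟨⟨g⟩⟩
  · exfalso
    have h1 : commutator P ≤ B := by
      rw [commutator_def, commutator_le]
      intro x _ y _
      have h3 : Nat.card (P ⧸ B) ∣ 2 := hBi
      have h4 : ∀ u v : P ⧸ B, u * v = v * u := by
        rcases (Nat.dvd_prime Nat.prime_two).1 h3 with h5 | h5
        · have := (Nat.card_eq_one_iff_unique.1 h5).1
          exact fun u v => Subsingleton.elim _ _
        · have : Fact (Nat.Prime 2) := ⟨Nat.prime_two⟩
          have hcyc : IsCyclic (P ⧸ B) := isCyclic_of_prime_card h5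
          exact fun u v => (IsCyclic.commGroup (α := P ⧸ B)).mul_comm u v
      rw [← QuotientGroup.eq_one_iff]
      rw [← QuotientGroup.mk'_apply, map_commutatorElement, commutatorElement_eq_one_iff_mul_comm]
      exact h4 _ _
    rw [hperf, top_le_iff] at h1
    refine h ⟨⟨fun a b => ?_⟩⟩
    obtain ⟨x, rfl⟩ := hπ a
    obtain ⟨y, rfl⟩ := hπ b
    rw [← map_mul, ← map_mul, hBc x (h1 ▸ mem_top x) y (h1 ▸ mem_top y)]
  · exact absurd (comm_top_of_surj g.toMonoidHom g.surjective hperfZ) not_perf_a4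
  · exact absurd (comm_top_of_surj g.toMonoidHom g.surjective hperfZ) not_perf_s4
  · have hcA : center (alternatingGroup (Fin 5)) = ⊥ := by
      have hs : IsSimpleGroup (alternatingGroup (Fin 5)) := alternatingGroup.isSimpleGroup (by simp)
      rcases hs.eq_bot_or_eq_top_of_normal (center (alternatingGroup (Fin 5))) inferInstance with h1 | h1
      · exact h1
      · exfalso
        have h2 := comm_top_of_surj g.toMonoidHom g.surjective hperfZ
        have h3 : commutator (alternatingGroup (Fin 5)) = ⊥ := by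
          rw [_root_.commutator_def, commutator_eq_bot_iff_le_centralizer]
          intro x _
          rw [mem_centralizer_iff]
          intro y _
          exact mem_center_iff.1 (h1 ▸ mem_top x) y
        rw [h2] at h3
        exact top_ne_bot h3
    have h1 : π.ker = Z := by
      apply le_antisymm
      · intro x hx
        have h2 : g (QuotientGroup.mk' Z x) ∈ center (alternatingGroup (Fin 5)) := by
          rw [mem_center_iff]
          intro y
          obtain ⟨w, rfl⟩ := g.surjective y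
          obtain ⟨w, rfl⟩ := QuotientGroup.mk'_surjective Z w
          rw [← map_mul, ← map_mul, ← map_mul, ← map_mul, mem_center_iff.1 (hker hx) w]
        rw [hcA, mem_bot] at h2
        have h3 : QuotientGroup.mk' Z x = 1 := by
          rw [← map_one g] at h2
          exact g.injective h2
        exact (QuotientGroup.eq_one_iff x).1 h3
      · intro x hx
        have h2 : π x ∈ center T := by
          rw [mem_center_iff]
          intro y
          obtain ⟨w, rfl⟩ := hπ y
          rw [← map_mul, ← map_mul, mem_center_iff.1 (hZc hx) w]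
        rw [hcT, mem_bot] at h2
        exact h2
    have e : T ≃* alternatingGroup (Fin 5) :=
      ((QuotientGroup.quotientMulEquivOfEq h1.symm).trans
        (QuotientGroup.quotientKerEquivOfSurjective π hπ)).symm.trans g
    constructor
    · rw [Nat.card_congr e.toEquiv, nat_card_alternatingGroup, Nat.card_eq_fintype_card, Fintype.card_fin]
      decide
    · have h3 : Nat.card (MulAut (alternatingGroup (Fin 5))) = 120 := by
        rw [← Nat.card_congr (Equiv.ofBijective _ (Cfsg.Agent.S2119.result 5 (by norm_num) (by norm_num))),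
          Nat.card_eq_fintype_card, Fintype.card_perm, Fintype.card_fin]
        decide
      rw [Nat.card_congr (MulAut.congr e).toEquiv, h3]

end Cfsg.Agent.H680.S4790
end

-- part: H697/Alm/LinMain
section
/-!
# S4790: coprime irreducible linear groups, `4 (p - 1) < (k + r) ^ 2`
-/

set_option autoImplicit false

namespace Cfsg.Agent.H697.Alm

open Module

universe u

section

variable {D E : Type u} [Group D] [Finite D] [AddCommGroup E] [Finite E] [DistribMulAction D E]

/-- every orbit has at most `|D|` elements -/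
theorem card_le_orb : Nat.card E ≤ orb D E * Nat.card D + 1 := by
  classical
  let q0 : MulAction.orbitRel.Quotient D E := Quotient.mk'' (0 : E)
  have hfib : ∀ e : E, (Quotient.mk'' e : MulAction.orbitRel.Quotient D E) = q0 → e = 0 := by
    intro e he
    have h1 : e ∈ MulAction.orbit D (0 : E) := MulAction.orbitRel_apply.1 (Quotient.exact he)
    obtain ⟨d, hd⟩ := h1
    rw [← hd]
    exact smul_zero d
  have : Fintype (MulAction.orbitRel.Quotient D E) := Fintype.ofFinite _
  have : Fintype E := Fintype.ofFinite E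
  have hsum : Fintype.card E = ∑ q : MulAction.orbitRel.Quotient D E,
      (Finset.univ.filter fun e : E => (Quotient.mk'' e : MulAction.orbitRel.Quotient D E) = q).card := by
    rw [← Finset.card_univ]
    exact Finset.card_eq_sum_card_fiberwise fun e _ => Finset.mem_coe.2 (Finset.mem_univ _)
  have hle : ∀ q : MulAction.orbitRel.Quotient D E,
      (Finset.univ.filter fun e : E => (Quotient.mk'' e : MulAction.orbitRel.Quotient D E) = q).card ≤ Nat.card D := by
    intro q
    obtain ⟨e, rfl⟩ := Quotient.exists_rep q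
    have h1 : (Finset.univ.filter fun x : E => (Quotient.mk'' x : MulAction.orbitRel.Quotient D E) = Quotient.mk _ e) =
        (MulAction.orbit D e).toFinset := by
      ext x
      simp only [Finset.mem_filter, Finset.mem_univ, true_and, Set.mem_toFinset]
      rw [← MulAction.orbitRel_apply]
      exact Quotient.eq''
    rw [h1, Set.toFinset_card, ← Nat.card_eq_fintype_card]
    exact Nat.card_le_card_of_surjective (fun d : D => (⟨d • e, ⟨d, rfl⟩⟩ : MulAction.orbit D e))
      (by rintro ⟨_, ⟨d, rfl⟩⟩; exact ⟨d, rfl⟩)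
  rw [Nat.card_eq_fintype_card (α := E), hsum, ← Finset.add_sum_erase _ _ (Finset.mem_univ q0)]
  have h0 : (Finset.univ.filter fun e : E => (Quotient.mk'' e : MulAction.orbitRel.Quotient D E) = q0).card ≤ 1 := by
    rw [Finset.card_le_one]
    intro a ha b hb
    rw [hfib a (Finset.mem_filter.1 ha).2, hfib b (Finset.mem_filter.1 hb).2]
  have h1 := Finset.sum_le_card_nsmul (Finset.univ.erase q0) (fun q : MulAction.orbitRel.Quotient D E =>
      (Finset.univ.filter fun e : E => (Quotient.mk'' e : MulAction.orbitRel.Quotient D E) = q).card) (Nat.card D)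
    (fun q _ => hle q)
  rw [Finset.card_erase_of_mem (Finset.mem_univ _), Finset.card_univ, smul_eq_mul] at h1
  unfold orb
  rw [Nat.card_eq_fintype_card (α := MulAction.orbitRel.Quotient D E)]
  omega

end

section

variable {D E : Type u} [Group D] [Finite D] [AddCommGroup E] [Finite E] [Nontrivial E] [DistribMulAction D E]
  [FaithfulSMul D E]

omit [Nontrivial E] in
/-- the one-dimensional case -/
theorem base {p : ℕ} (hp : p.Prime) (hE : Nat.card E = p) : p - 1 ≤ orb D E * Nat.card (ConjClasses D) := by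
  have : Fact p.Prime := ⟨hp⟩
  have hcyc : IsAddCyclic E := isAddCyclic_of_prime_card (p := p) hE
  obtain ⟨g, hg⟩ := hcyc.exists_generator
  have hcomm : ∀ a b : D, a * b = b * a := by
    intro a b
    apply FaithfulSMul.eq_of_smul_eq_smul (α := E)
    intro e
    have hz : ∀ d : D, ∃ n : ℤ, ∀ x : E, d • x = n • x := by
      intro d
      obtain ⟨n, hn⟩ := AddSubgroup.mem_zmultiples_iff.1 (hg (d • g))
      refine ⟨n, fun x => ?_⟩
      obtain ⟨m, rfl⟩ := AddSubgroup.mem_zmultiples_iff.1 (hg x)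
      rw [smul_comm d m g, ← hn, smul_comm]
    obtain ⟨n, hn⟩ := hz a
    obtain ⟨m, hm⟩ := hz b
    rw [mul_smul, mul_smul, hm e, hn, hn e, hm, smul_comm]
  have hk : Nat.card (ConjClasses D) = Nat.card D := by
    refine (Nat.card_congr (Equiv.ofBijective (ConjClasses.mk : D → ConjClasses D) ⟨?_, ConjClasses.mk_surjective⟩)).symm
    intro a b hab
    obtain ⟨c, hc⟩ := isConj_iff.1 (ConjClasses.mk_eq_mk_iff_isConj.1 hab)
    rw [hcomm, inv_mul_cancel_left] at hc
    exact hc
  have h1 := card_le_orb (D := D) (E := E)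
  rw [hk]
  omega

/-- over the prime field everything is linear -/
theorem CF_eq_top {p : ℕ} (hp : p.Prime) {F : Type u} [Field F] [Finite F] [Module F E] (hF : Nat.card F = p) :
    CF D E F = ⊤ := by
  have : Fact p.Prime := ⟨hp⟩
  rw [eq_top_iff]
  intro d _ c e
  have hcyc : IsAddCyclic F := isAddCyclic_of_prime_card (p := p) hF
  have h1 : ∀ c : F, ∃ n : ℤ, (n : F) = c := by
    intro c
    have hc : AddSubgroup.zmultiples (1 : F) = ⊤ := by
      have hfp : Fact (Nat.card F).Prime := ⟨by rw [hF]; exact hp⟩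
      have h2 := AddSubgroup.eq_bot_or_eq_top_of_prime_card (AddSubgroup.zmultiples (1 : F))
      rcases h2 with h2 | h2
      · exfalso
        rw [AddSubgroup.zmultiples_eq_bot] at h2
        exact one_ne_zero h2
      · exact h2
    have h3 : c ∈ AddSubgroup.zmultiples (1 : F) := by rw [hc]; trivial
    obtain ⟨n, hn⟩ := AddSubgroup.mem_zmultiples_iff.1 h3
    refine ⟨n, ?_⟩
    rw [← hn, zsmul_one]
  obtain ⟨n, rfl⟩ := h1 c
  rw [Int.cast_smul_eq_zsmul, Int.cast_smul_eq_zsmul, smul_comm]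

/-- **primitive groups** -/
theorem ps_prim {p : ℕ} [hpf : Fact p.Prime] (h23 : 23 ≤ p) (hpE : ∀ e : E, p • e = 0) (hcop : ¬ p ∣ Nat.card D)
    (hfine : ∀ (T : Type u) [Group T] [Finite T] [IsSimpleGroup T], ¬ IsMulCommutative T → H698.Fine.{u, u} T)
    (hB : ∀ (T : Type u) [Group T] [Finite T] [IsSimpleGroup T], ¬ IsMulCommutative T → BndT T)
    (hirr : IrrAct D E) (hprim : Prim D E) (hne : Nat.card E ≠ p) (h3 : 3 ≤ orb D E) :
    p - 1 < orb D E * Nat.card (ConjClasses D) := by
  have hp : p.Prime := hpf.out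
  obtain ⟨F, _, _, _, fr⟩ := H813.S4790.exists_frame hp hpE hcop hirr hprim
  have hch : CharP F p := H698.Fld.charP hp hpE
  obtain ⟨a, ha1, hF⟩ : ∃ a : ℕ, 1 ≤ a ∧ Nat.card F = p ^ a := by
    have : Fintype F := Fintype.ofFinite F
    obtain ⟨n, -, hn⟩ := FiniteField.card F p
    exact ⟨n, n.2, by rw [Nat.card_eq_fintype_card, hn]⟩
  obtain ⟨m, hm⟩ : ∃ m, finrank F E = m := ⟨_, rfl⟩
  obtain ⟨h1, h2, h4⟩ := str hp h23 hpE hcop fr hm (fun T _ _ _ h => hB T h)
    (fun T _ _ _ h hR => H680.S4790.two hp (by omega) T h hR)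
  by_cases ha : a = 1
  · subst ha
    rw [pow_one] at hF
    have htop : CF D E F = ⊤ := CF_eq_top hp hF
    rcases h4 with h4 | ⟨hm3, K, hK, hKn, hR, hc⟩ | ⟨hm2, K, hK⟩ | ⟨hm4, h5, h6⟩
    · exact H615.S4790.ps_count hp h23 hpE hcop fr (a := 1) (by rw [pow_one]; exact hF) hm hne h1 h2 (fun _ => h4)
    · exact H615.S4790.ps_comp hp h23 hpE hcop fr hF hm hm3 (fun T _ _ _ h => hfine T h) h3 K hK hKn hR hc
    · exact H930.Alm.ps_small hp h23 hpE hcop hF hm (Or.inl ⟨hm2, K, hK⟩)
    · rw [htop, Subgroup.relIndex_top_right] at h5 h6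
      exact H930.Alm.ps_small hp h23 hpE hcop hF hm (Or.inr ⟨hm4, h5, h6⟩)
  · exact H615.S4790.ps_count hp h23 hpE hcop fr hF hm hne h1 h2 (fun h => absurd h ha)

end

/-- **the product statement** -/
theorem ps_all {p : ℕ} [hpf : Fact p.Prime] (h23 : 23 ≤ p)
    (hfine : ∀ (T : Type u) [Group T] [Finite T] [IsSimpleGroup T], ¬ IsMulCommutative T → H698.Fine.{u, u} T)
    (hB : ∀ (T : Type u) [Group T] [Finite T] [IsSimpleGroup T], ¬ IsMulCommutative T → BndT T)
    (hlin : H697.Three.LinStmt.{u} p) : ∀ (n : ℕ) (D E : Type u) [Group D] [Finite D] [AddCommGroup E] [Finite E]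
      [Nontrivial E] [DistribMulAction D E] [FaithfulSMul D E], Nat.card E ≤ n → (∀ e : E, p • e = 0) →
      ¬ p ∣ Nat.card D → IrrAct D E → PS p D E := by
  have hp : p.Prime := hpf.out
  intro n
  induction n with
  | zero =>
    intro D E _ _ _ _ _ _ _ hn
    exact absurd hn (by have := Nat.card_pos (α := E); omega)
  | succ n ih =>
    intro D E _ _ _ _ _ _ _ hn hpE hcop hirr
    by_cases hE : Nat.card E = p
    · exact ⟨base hp hE, fun h => absurd hE h⟩
    · have key : p - 1 < orb D E * Nat.card (ConjClasses D) := by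
        by_cases h2 : orb D E ≤ 2
        · rcases H724.S4790.ps_two (by omega) hpE hcop hlin hirr hE h2 with h | h
          · omega
          · exact h
        · by_cases hprim : Prim D E
          · exact ps_prim h23 hpE hcop (fun T _ _ _ h => hfine T h) (fun T _ _ _ h => hB T h) hirr hprim hE (by omega)
          · unfold Prim at hprim
            push Not at hprim
            obtain ⟨t, W, hW, ht⟩ := hprim
            refine H41.Imprim.ps_imprim hp hpE hcop hirr (t := t) (by omega) W hW ?_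
            intro D' E' _ _ _ _ _ _ _ hpE' hcop' hirr' hlt
            exact (ih D' E' (by omega) hpE' hcop' hirr').1
      exact ⟨key.le, fun _ => key⟩

section

variable {D E : Type u} [Group D] [Finite D] [AddCommGroup E] [Finite E] [Nontrivial E] [DistribMulAction D E]
  [FaithfulSMul D E]

/-- **the linear part** -/
theorem lin_of {p : ℕ} [hpf : Fact p.Prime] (h5 : 5 ≤ p)
    (hfine : ∀ (T : Type u) [Group T] [Finite T] [IsSimpleGroup T], ¬ IsMulCommutative T → H698.Fine.{u, u} T)
    (hB : ∀ (T : Type u) [Group T] [Finite T] [IsSimpleGroup T], ¬ IsMulCommutative T → BndT T)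
    (hpE : ∀ e : E, p • e = 0) (hcop : ¬ p ∣ Nat.card D) (hirr : IrrAct D E) (hne : Nat.card E ≠ p) :
    4 * (p - 1) < (Nat.card (ConjClasses D) + orb D E) ^ 2 := by
  have hlin : H697.Three.LinStmt.{u} p := H697.Three.lin_of_res (H698.MainRes.res (fun T _ _ _ h => hfine T h) p)
  by_cases h22 : p < 23
  · exact H61.S4790.lin_small h5 h22 hpE hcop hirr hne (fun h => H724.S4790.ps_two h5 hpE hcop hlin hirr hne h)
  · have h1 := (ps_all (by omega) (fun T _ _ _ h => hfine T h) (fun T _ _ _ h => hB T h) hlin (Nat.card E) D E le_rfl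
      hpE hcop hirr).2 hne
    obtain ⟨k, hk⟩ : ∃ k, Nat.card (ConjClasses D) = k := ⟨_, rfl⟩
    obtain ⟨r, hr⟩ : ∃ r, orb D E = r := ⟨_, rfl⟩
    rw [hk, hr] at h1 ⊢
    obtain ⟨q, hq⟩ : ∃ q, p - 1 = q := ⟨_, rfl⟩
    rw [hq] at h1 ⊢
    zify at h1 ⊢
    linarith only [h1, sq_nonneg ((k : ℤ) - r)]

end

end Cfsg.Agent.H697.Alm
end

private theorem dce_057821bb21cf : _root_.True := by
  try have : _root_.True := by simp only [_root_.Cfsg.Agent.H61.S4790.LandauP.chk.eq_3]
  try have : _root_.True := by simp only [_root_.Cfsg.Agent.H61.S4790.LandauP.chk.eq_2]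
  try have : _root_.True := by simp only [_root_.Cfsg.Agent.H61.S4790.LandauP.chk.eq_def]
  try have : _root_.True := by simp only [_root_.Cfsg.Agent.H61.S4790.LandauP.chk.eq_1]
  try have : _root_.True := by simp only [_root_.Cfsg.Agent.H697.Alm.orb.eq_1]
  exact _root_.True.intro
end

-- part: H223/Bnd/Low_mg
section
set_option linter.all false
open scoped Cfsg.Agent.FastGrp

/-- Laplace expansion which skips zero entries -/
private noncomputable def detL_h47 {R : Type*} [CommRing R] [DecidableEq R] (n : ℕ) : Matrix (Fin n) (Fin n) R → R :=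
  @Nat.rec (fun n => Matrix (Fin n) (Fin n) R → R) (fun _ => 1) (fun n ih M =>
    ∑ j : Fin (n + 1), if M 0 j = 0 then 0 else (-1) ^ (j : ℕ) * M 0 j * ih (M.submatrix Fin.succ j.succAbove)) n

private theorem detL_eq_h47 {R : Type*} [CommRing R] [DecidableEq R] {n : ℕ} (M : Matrix (Fin n) (Fin n) R) :
    M.det = detL_h47 n M := by
  induction n with
  | zero => exact Matrix.det_fin_zero
  | succ n ih =>
    rw [Matrix.det_succ_row_zero]
    refine Finset.sum_congr rfl fun j _ => ?_
    by_cases h : M 0 j = 0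
    · rw [if_pos h, h, mul_zero, zero_mul]
    · rw [if_neg h, ih]
      rfl


namespace Cfsg.Agent.H90F

private noncomputable def dOf {P : Prop} (b : Bool) (h : b = true ↔ P) : Decidable P :=
  Bool.rec (motive := fun c => b = c → Decidable P) (fun e => isFalse fun hp => Bool.noConfusion (e.symm.trans (h.2 hp)))
    (fun e => isTrue (h.1 e)) b rfl

private noncomputable def fal {α : Type} (l : List α) (p : α → Bool) : Bool :=
  List.rec true (fun a _ ih => Bool.rec false ih (p a)) l

private theorem al_fun : @List.all.{0} = @fal := by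
  funext α l p
  induction l with
  | nil => rfl
  | cons a l ih => rw [List.all_cons, ih]; show _ = (Bool.rec false (fal l p) (p a) : Bool); cases p a <;> rfl

private noncomputable def mal {α : Type} (m : Multiset α) (p : α → Bool) : Bool :=
  Quot.lift (fun l => fal l p) (fun _ _ h => by rw [← al_fun]; exact h.all_eq) m

private theorem mal_iff {α : Type} (m : Multiset α) (p : α → Bool) : mal m p = true ↔ ∀ a ∈ m, p a = true := by
  induction m using Quot.inductionOn with
  | h l => show fal l p = true ↔ _; rw [← al_fun, List.all_eq_true]; rfl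

private noncomputable def fft {α : Type} {p : α → Prop} [H : DecidablePred p] [F : Fintype α] : Decidable (∀ a, p a) :=
  dOf (mal F.elems.val fun a => @decide _ (H a))
    ((mal_iff _ _).trans ⟨fun h a => of_decide_eq_true (h a (F.complete a)), fun h a _ => decide_eq_true (h a)⟩)

private theorem ft_fun : @Fintype.decidableForallFintype.{0} = @fft := by
  funext α p H F; exact Subsingleton.elim _ _

private noncomputable def fpi {α : Type} {β : α → Type} [H : ∀ a, DecidableEq (β a)] [F : Fintype α] :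
    DecidableEq (∀ a, β a) := fun f g =>
  dOf (mal F.elems.val fun a => @decide _ (H a (f a) (g a)))
    ((mal_iff _ _).trans ⟨fun h => funext fun a => of_decide_eq_true (h a (F.complete a)),
      fun h a _ => decide_eq_true (congrFun h a)⟩)

private theorem me_fun : @Matrix.decidableEq.{0, 0, 0} = 
    fun m n α H F G => @fpi m (fun _ => n → α) (fun _ => @fpi n (fun _ => α) (fun _ => H) G) F := by
  funext m n α H F G f g; exact Subsingleton.elim _ _

private noncomputable def fvc {α : Type} {n : ℕ} (h : α) (t : Fin n → α) (i : Fin n.succ) : α :=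
  Nat.rec (motive := fun k => k < n.succ → α) (fun _ => h) (fun k _ hk => t ⟨k, Nat.lt_of_succ_lt_succ hk⟩) i.1 i.2

private theorem vc_fun : @Matrix.vecCons.{0} = @fvc := by
  funext α n h t i
  rcases i with ⟨_ | k, hk⟩ <;> rfl

private noncomputable def fsm {ι M : Type} [AddCommMonoid M] (s : Finset ι) (f : ι → M) : M :=
  Quot.lift (fun l : List ι => (List.rec 0 (fun a _ ih => f a + ih) l : M)) (fun l l' h => by
    have e : ∀ l : List ι, (List.rec 0 (fun a _ ih => f a + ih) l : M) = (l.map f).sum := fun l => by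
      induction l with
      | nil => rfl
      | cons a l ih => rw [List.map_cons, List.sum_cons, ← ih]
    rw [e, e]; exact (h.map f).sum_eq) s.1

private theorem sm_fun : @Finset.sum.{0, 0} = @fsm := by
  funext ι M _ s f
  rcases s with ⟨m, hm⟩
  induction m using Quot.inductionOn with
  | h l =>
    show (l.map f).sum = (List.rec 0 (fun a _ ih => f a + ih) l : M)
    clear hm
    induction l with
    | nil => rfl
    | cons a l ih => rw [List.map_cons, List.sum_cons, ih]

end Cfsg.Agent.H90F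

-- part: H223/Bnd/Low
section
/-!
# S4790, T8: degree bounds for `SL_5(2)` and `SU_5(2)` (helper223)

`bd_sl52` : at least `21` (a cyclic group of order `21` acting freely on an elementary abelian group of order `2 ^ 6`);
`bd_su52` : at least `10` (a group of order `5` acting freely on an elementary abelian group of order `2 ^ 4` with
nonabelian centralizer).
-/

set_option autoImplicit false

namespace Cfsg.Agent.H223.Bnd.Low

open Matrix Cfsg.Agent.H912.Bd Cfsg.Agent.H674.Explicit Cfsg.Agent.H674.ExplicitCases Cfsg.Agent.H674.TwelvePSU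
open Cfsg.Agent.H674.SUTools

universe u v w

section sl

abbrev S5 := _root_.Matrix.SpecialLinearGroup (Fin 5) (ZMod 2)

/-- the unipotent radical of the stabilizer of a plane -/
def X (a b c d e f : ZMod 2) : Matrix (Fin 5) (Fin 5) (ZMod 2) :=
  !![1, 0, a, b, c; 0, 1, d, e, f; 0, 0, 1, 0, 0; 0, 0, 0, 1, 0; 0, 0, 0, 0, 1]

def sa : Matrix (Fin 5) (Fin 5) (ZMod 2) :=
  !![0, 1, 0, 0, 0; 1, 1, 0, 0, 0; 0, 0, 0, 0, 1; 0, 0, 1, 0, 1; 0, 0, 0, 1, 0]
def sa3 : Matrix (Fin 5) (Fin 5) (ZMod 2) :=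
  !![1, 0, 0, 0, 0; 0, 1, 0, 0, 0; 0, 0, 1, 0, 1; 0, 0, 1, 1, 1; 0, 0, 0, 1, 1]
def sa7 : Matrix (Fin 5) (Fin 5) (ZMod 2) :=
  !![0, 1, 0, 0, 0; 1, 1, 0, 0, 0; 0, 0, 1, 0, 0; 0, 0, 0, 1, 0; 0, 0, 0, 0, 1]

theorem X_mul (a b c d e f a' b' c' d' e' f' : ZMod 2) :
    X a b c d e f * X a' b' c' d' e' f' = X (a + a') (b + b') (c + c') (d + d') (e + e') (f + f') := by
  ext i j
  fin_cases i <;> fin_cases j <;> simp [X, Matrix.mul_apply, Fin.sum_univ_succ, add_comm]

theorem X_zero : X 0 0 0 0 0 0 = 1 := by decide +kernel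

theorem X_det : ∀ a b c d e f : ZMod 2, (X a b c d e f).det = 1 := fun a b c d e f => by
  have h := congrArg Matrix.det (X_mul a b c d e f a b c d e f)
  simp only [Matrix.det_mul, CharTwo.add_self_eq_zero, X_zero, Matrix.det_one] at h
  exact (by decide : ∀ t : ZMod 2, t * t = 1 → t = 1) _ h

theorem X_act : ∀ a b c d e f : ZMod 2,
    sa * X a b c d e f = X (d + f) d e (a + c + d + f) (a + d) (b + e) * sa := by (delta Cfsg.Agent.H223.Bnd.Low.X Cfsg.Agent.H223.Bnd.Low.sa dotProduct Matrix.instHMulOfFintypeOfMulOfAddCommMonoid; refine of_decide_eq_true ?_; rewrite [H90F.ft_fun, H90F.me_fun, H90F.vc_fun, H90F.sm_fun]; ((try (rewrite [Cfsg.Agent.LsF.mof_pat, Cfsg.Agent.LsF.zadd_pat, Cfsg.Agent.LsF.zmul_pat, Cfsg.Agent.LsF.zdecEq_eq, Cfsg.Agent.LsF.finFintype_eq, Cfsg.Agent.LsF.zFintype_eq, Cfsg.Agent.LsF.zACM_pat, Cfsg.Agent.LsF.decide_eq])); decide +kernel))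

theorem sa_det : sa.det = 1 := by rw [detL_eq_h47]; decide +kernel

theorem sa_three : sa * sa * sa = sa3 := by decide +kernel

theorem sa_seven : sa3 * sa3 * sa = sa7 := by decide +kernel

private noncomputable def _root_.Cfsg.Agent.LsF.f85174c_0 : {f // @Cfsg.Agent.H223.Bnd.Low.sa3 = f} := ⟨_, by first | (delta Cfsg.Agent.H223.Bnd.Low.sa3; rewrite [Cfsg.Agent.LsF.mof_pat, Cfsg.Agent.LsF.vecCons_eq]; exact rfl) | exact rfl⟩
private noncomputable def _root_.Cfsg.Agent.LsF.f85174c_1 : {f // @Cfsg.Agent.H223.Bnd.Low.X = f} := ⟨_, by first | (delta Cfsg.Agent.H223.Bnd.Low.X; rewrite [Cfsg.Agent.LsF.mof_pat, Cfsg.Agent.LsF.vecCons_eq]; exact rfl) | exact rfl⟩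
theorem sa_free3 : ∀ a b c d e f : ZMod 2, sa3 * X a b c d e f = X a b c d e f * sa3 → X a b c d e f = 1 := by
  (refine of_decide_eq_true ?_; (try (rewrite [Cfsg.Agent.LsF.mmulF_pat, Cfsg.Agent.LsF.f85174c_0.2, Cfsg.Agent.LsF.f85174c_1.2, Cfsg.Agent.LsF.zadd_pat, Cfsg.Agent.LsF.zmul_pat, Cfsg.Agent.LsF.zdecEq_eq, Cfsg.Agent.LsF.finFintype_eq, Cfsg.Agent.LsF.zFintype_eq, Cfsg.Agent.LsF.dForall_eq, Cfsg.Agent.LsF.dMat_eq, Cfsg.Agent.LsF.instMOne_eq, Cfsg.Agent.LsF.zACM_pat, Cfsg.Agent.LsF.dFinEq_eq, Cfsg.Agent.LsF.dAllP_eq, Cfsg.Agent.LsF.decide_eq])); decide +kernel)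

private noncomputable def _root_.Cfsg.Agent.LsF.f85174c_2 : {f // @Cfsg.Agent.H223.Bnd.Low.sa7 = f} := ⟨_, by first | (delta Cfsg.Agent.H223.Bnd.Low.sa7; rewrite [Cfsg.Agent.LsF.mof_pat, Cfsg.Agent.LsF.vecCons_eq]; exact rfl) | exact rfl⟩
theorem sa_free7 : ∀ a b c d e f : ZMod 2, sa7 * X a b c d e f = X a b c d e f * sa7 → X a b c d e f = 1 := by
  (refine of_decide_eq_true ?_; (try (rewrite [Cfsg.Agent.LsF.mmulF_pat, Cfsg.Agent.LsF.f85174c_2.2, Cfsg.Agent.LsF.f85174c_1.2, Cfsg.Agent.LsF.zadd_pat, Cfsg.Agent.LsF.zmul_pat, Cfsg.Agent.LsF.zdecEq_eq, Cfsg.Agent.LsF.finFintype_eq, Cfsg.Agent.LsF.zFintype_eq, Cfsg.Agent.LsF.dForall_eq, Cfsg.Agent.LsF.dMat_eq, Cfsg.Agent.LsF.instMOne_eq, Cfsg.Agent.LsF.zACM_pat, Cfsg.Agent.LsF.dFinEq_eq, Cfsg.Agent.LsF.dAllP_eq, Cfsg.Agent.LsF.decide_eq])); decide +kernel)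

theorem sa_pow : sa7 * sa7 * sa7 = 1 := by decide +kernel

/-- the elements -/
def xE (a b c d e f : ZMod 2) : S5 := ⟨X a b c d e f, X_det a b c d e f⟩

def xa : S5 := ⟨sa, sa_det⟩

theorem xa3 : (xa ^ 3).1 = sa3 := by
  rw [show xa ^ 3 = xa * xa * xa by rw [pow_succ, pow_two]]
  exact sa_three

theorem xa7 : (xa ^ 7).1 = sa7 := by
  rw [show xa ^ 7 = xa ^ 3 * xa ^ 3 * xa by rw [← pow_add, ← pow_succ]]
  change (xa ^ 3).1 * (xa ^ 3).1 * sa = _
  rw [xa3]
  exact sa_seven

theorem xa21 : xa ^ 21 = 1 := by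
  apply Subtype.ext
  rw [show xa ^ 21 = xa ^ 7 * xa ^ 7 * xa ^ 7 by rw [← pow_add, ← pow_add]]
  change (xa ^ 7).1 * (xa ^ 7).1 * (xa ^ 7).1 = 1
  rw [xa7]
  exact sa_pow

/-- the elementary abelian subgroup -/
def E5 : Subgroup S5 where
  carrier := {g | ∃ a b c d e f, g = xE a b c d e f}
  one_mem' := ⟨0, 0, 0, 0, 0, 0, Subtype.ext X_zero.symm⟩
  mul_mem' := by
    rintro _ _ ⟨a, b, c, d, e, f, rfl⟩ ⟨a', b', c', d', e', f', rfl⟩
    exact ⟨_, _, _, _, _, _, Subtype.ext (X_mul _ _ _ _ _ _ _ _ _ _ _ _)⟩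
  inv_mem' := by
    rintro _ ⟨a, b, c, d, e, f, rfl⟩
    refine ⟨a, b, c, d, e, f, ?_⟩
    rw [inv_eq_iff_mul_eq_one]
    apply Subtype.ext
    change X a b c d e f * X a b c d e f = 1
    rw [X_mul, ← X_zero]
    simp only [CharTwo.add_self_eq_zero]

theorem E5_comm : ∀ x ∈ E5, ∀ y ∈ E5, x * y = y * x := by
  rintro _ ⟨a, b, c, d, e, f, rfl⟩ _ ⟨a', b', c', d', e', f', rfl⟩
  apply Subtype.ext
  change X a b c d e f * X a' b' c' d' e' f' = X a' b' c' d' e' f' * X a b c d e f
  rw [X_mul, X_mul, add_comm a, add_comm b, add_comm c, add_comm d, add_comm e, add_comm f]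

theorem E5_sq : ∀ x ∈ E5, x ^ 2 = 1 := by
  rintro _ ⟨a, b, c, d, e, f, rfl⟩
  rw [pow_two]
  apply Subtype.ext
  change X a b c d e f * X a b c d e f = 1
  rw [X_mul, ← X_zero]
  simp only [CharTwo.add_self_eq_zero]

theorem free_aux {G : Type*} [Group G] {x e : G} {i : ℕ} (h21 : x ^ 21 = 1) (h0 : 0 < i) (hi : i < 21)
    (h : x ^ i * e = e * x ^ i) : x ^ 3 * e = e * x ^ 3 ∨ x ^ 7 * e = e * x ^ 7 := by
  have hc : Commute (x ^ i) e := h
  have key : ∀ k : ℕ, Commute (x ^ (i * k)) e := fun k => by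
    rw [pow_mul]; exact hc.pow_left k
  have hmod : ∀ a b : ℕ, a % 21 = b % 21 → x ^ a = x ^ b := by
    intro a b hab
    rw [pow_eq_pow_mod a h21, pow_eq_pow_mod b h21, hab]
  interval_cases i
  · exact Or.inl (hmod (1 * 3) 3 rfl ▸ key 3)
  · exact Or.inl (hmod (2 * 12) 3 rfl ▸ key 12)
  · exact Or.inl (hmod (3 * 1) 3 rfl ▸ key 1)
  · exact Or.inl (hmod (4 * 6) 3 rfl ▸ key 6)
  · exact Or.inl (hmod (5 * 9) 3 rfl ▸ key 9)
  · exact Or.inl (hmod (6 * 4) 3 rfl ▸ key 4)
  · exact Or.inr (hmod (7 * 1) 7 rfl ▸ key 1)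
  · exact Or.inl (hmod (8 * 3) 3 rfl ▸ key 3)
  · exact Or.inl (hmod (9 * 5) 3 rfl ▸ key 5)
  · exact Or.inl (hmod (10 * 15) 3 rfl ▸ key 15)
  · exact Or.inl (hmod (11 * 6) 3 rfl ▸ key 6)
  · exact Or.inl (hmod (12 * 2) 3 rfl ▸ key 2)
  · exact Or.inl (hmod (13 * 18) 3 rfl ▸ key 18)
  · exact Or.inr (hmod (14 * 2) 7 rfl ▸ key 2)
  · exact Or.inl (hmod (15 * 3) 3 rfl ▸ key 3)
  · exact Or.inl (hmod (16 * 12) 3 rfl ▸ key 12)
  · exact Or.inl (hmod (17 * 15) 3 rfl ▸ key 15)
  · exact Or.inl (hmod (18 * 6) 3 rfl ▸ key 6)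
  · exact Or.inl (hmod (19 * 9) 3 rfl ▸ key 9)
  · exact Or.inl (hmod (20 * 18) 3 rfl ▸ key 18)

theorem bd_sl52 {F : Type u} [Field F] (h2 : ((2 : ℕ) : F) ≠ 0) : Bd F 2 21 S5 := by
  refine bd_of_frob Nat.prime_two h2 E5 E5_comm (fun x => ⟨1, Subtype.ext (E5_sq x x.2)⟩) ?_ 21 (a := xa) ?_ ?_
  · intro h
    have h1 : xE 1 0 0 0 0 0 ∈ E5 := ⟨_, _, _, _, _, _, rfl⟩
    rw [h, Subgroup.mem_bot] at h1
    have h3 := congrFun (congrFun (congrArg Subtype.val h1) 0) 2
    exact absurd h3 (by decide)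
  · rintro _ ⟨a, b, c, d, e, f, rfl⟩
    refine ⟨d + f, d, e, a + c + d + f, a + d, b + e, ?_⟩
    rw [mul_inv_eq_iff_eq_mul]
    exact Subtype.ext (X_act a b c d e f)
  · rintro i h0 h21 _ ⟨a, b, c, d, e, f, rfl⟩ h
    rcases free_aux xa21 h0 h21 h with h3 | h7
    · have h4 := congrArg Subtype.val h3
      change (xa ^ 3).1 * X a b c d e f = X a b c d e f * (xa ^ 3).1 at h4
      rw [xa3] at h4
      exact Subtype.ext (sa_free3 _ _ _ _ _ _ h4)
    · have h4 := congrArg Subtype.val h7
      change (xa ^ 7).1 * X a b c d e f = X a b c d e f * (xa ^ 7).1 at h4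
      rw [xa7] at h4
      exact Subtype.ext (sa_free7 _ _ _ _ _ _ h4)

end sl

section su

abbrev M5 := Matrix (Fin 5) (Fin 5) F4

def mf : M5 := !![⟨1, 0⟩, ⟨1, 0⟩, ⟨1, 0⟩, ⟨0, 0⟩, ⟨0, 0⟩; ⟨0, 1⟩, ⟨0, 1⟩, ⟨0, 0⟩, ⟨1, 0⟩, ⟨0, 0⟩; ⟨1, 0⟩, ⟨0, 0⟩, ⟨1, 0⟩, ⟨1, 1⟩, ⟨0, 0⟩; ⟨0, 0⟩, ⟨1, 0⟩, ⟨1, 0⟩, ⟨1, 1⟩, ⟨0, 0⟩; ⟨0, 0⟩, ⟨0, 0⟩, ⟨0, 0⟩, ⟨0, 0⟩, ⟨1, 0⟩]
def ma : M5 := !![⟨1, 0⟩, ⟨0, 0⟩, ⟨0, 0⟩, ⟨0, 0⟩, ⟨0, 0⟩; ⟨0, 0⟩, ⟨1, 0⟩, ⟨0, 0⟩, ⟨0, 0⟩, ⟨0, 0⟩; ⟨0, 0⟩, ⟨0, 0⟩, ⟨1, 1⟩, ⟨0, 1⟩, ⟨1, 0⟩; ⟨0, 0⟩, ⟨0, 0⟩, ⟨0, 1⟩, ⟨1, 1⟩, ⟨1, 0⟩; ⟨0, 0⟩, ⟨0, 0⟩, ⟨1, 0⟩, ⟨1, 0⟩, ⟨1, 0⟩]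
def mb : M5 := !![⟨1, 0⟩, ⟨0, 0⟩, ⟨0, 0⟩, ⟨0, 0⟩, ⟨0, 0⟩; ⟨0, 0⟩, ⟨1, 0⟩, ⟨0, 0⟩, ⟨0, 0⟩, ⟨0, 0⟩; ⟨0, 0⟩, ⟨0, 0⟩, ⟨1, 1⟩, ⟨0, 1⟩, ⟨0, 1⟩; ⟨0, 0⟩, ⟨0, 0⟩, ⟨0, 1⟩, ⟨1, 1⟩, ⟨0, 1⟩; ⟨0, 0⟩, ⟨0, 0⟩, ⟨1, 1⟩, ⟨1, 1⟩, ⟨1, 0⟩]

/-- the centre of the unipotent radical of the stabilizer of a totally isotropic line -/
def Z (a c x y : ZMod 2) : M5 :=
  !![⟨1 + a, 0⟩, ⟨a, 0⟩, ⟨x, y⟩, ⟨x, y⟩, ⟨0, 0⟩; ⟨a, 0⟩, ⟨1 + a, 0⟩, ⟨x, y⟩, ⟨x, y⟩, ⟨0, 0⟩;
    ⟨x + y, y⟩, ⟨x + y, y⟩, ⟨1 + c, 0⟩, ⟨c, 0⟩, ⟨0, 0⟩; ⟨x + y, y⟩, ⟨x + y, y⟩, ⟨c, 0⟩, ⟨1 + c, 0⟩, ⟨0, 0⟩;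
    ⟨0, 0⟩, ⟨0, 0⟩, ⟨0, 0⟩, ⟨0, 0⟩, ⟨1, 0⟩]

theorem Z_zero : Z 0 0 0 0 = 1 := by decide +kernel
theorem zmod_cases : ∀ a : ZMod 2, a = 0 ∨ a = 1 := by decide

private theorem Z_ind {Q : ZMod 2 → ZMod 2 → ZMod 2 → ZMod 2 → Prop} (h0 : Q 0 0 0 0)
    (hadd : ∀ a c x y a' c' x' y', Q a c x y → Q a' c' x' y' → Q (a + a') (c + c') (x + x') (y + y'))
    (g : Q 1 0 0 0 ∧ Q 0 1 0 0 ∧ Q 0 0 1 0 ∧ Q 0 0 0 1) (a c x y : ZMod 2) : Q a c x y := by
  have h1 : Q a 0 0 0 := by rcases zmod_cases a with rfl | rfl; exacts [h0, g.1]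
  have h2 : Q 0 c 0 0 := by rcases zmod_cases c with rfl | rfl; exacts [h0, g.2.1]
  have h3 : Q 0 0 x 0 := by rcases zmod_cases x with rfl | rfl; exacts [h0, g.2.2.1]
  have h4 : Q 0 0 0 y := by rcases zmod_cases y with rfl | rfl; exacts [h0, g.2.2.2]
  have h := hadd _ _ _ _ _ _ _ _ (hadd _ _ _ _ _ _ _ _ h1 h2) (hadd _ _ _ _ _ _ _ _ h3 h4)
  simp only [add_zero, zero_add] at h
  exact h

private def NZ (a c x y : ZMod 2) : M5 := Z a c x y - 1

private theorem Z_eq (a c x y : ZMod 2) : Z a c x y = NZ a c x y + 1 := (sub_add_cancel _ _).symm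

private theorem NZ_zero : NZ 0 0 0 0 = 0 := by rw [NZ, Z_zero, sub_self]

private noncomputable def _root_.Cfsg.Agent.LsF.f85174c_3 : {f // @Cfsg.Agent.H223.Bnd.Low.Z = f} := ⟨_, by first | (delta Cfsg.Agent.H223.Bnd.Low.Z; rewrite [Cfsg.Agent.LsF.mof_pat, Cfsg.Agent.LsF.zadd_pat, Cfsg.Agent.LsF.vecCons_eq]; exact rfl) | exact rfl⟩
private noncomputable def _root_.Cfsg.Agent.LsF.f85174c_4 : {f // @Cfsg.Agent.H223.Bnd.Low.NZ = f} := ⟨_, by first | (delta Cfsg.Agent.H223.Bnd.Low.NZ; rewrite [Cfsg.Agent.LsF.msub_pat, Cfsg.Agent.LsF.f85174c_3.2, Cfsg.Agent.LsF.instMOne_eq, Cfsg.Agent.LsF.instZSub_pat, Cfsg.Agent.LsF.dFinEq_eq]; exact rfl) | exact rfl⟩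
private theorem NZ_add : ∀ a c x y a' c' x' y' : ZMod 2,
    NZ (a + a') (c + c') (x + x') (y + y') = NZ a c x y + NZ a' c' x' y' := by
  refine Z_ind (Q := fun a c x y => ∀ a' c' x' y', NZ (a + a') (c + c') (x + x') (y + y') = NZ a c x y + NZ a' c' x' y')
    (fun a c x y => ?_) (fun a c x y a' c' x' y' h h' a₂ c₂ x₂ y₂ => ?_) (by (refine of_decide_eq_true ?_; (try (rewrite [Cfsg.Agent.LsF.madd_pat, Cfsg.Agent.LsF.f85174c_4.2, Cfsg.Agent.LsF.zadd_pat, Cfsg.Agent.LsF.zdecEq_eq, Cfsg.Agent.LsF.finFintype_eq, Cfsg.Agent.LsF.zFintype_eq, Cfsg.Agent.LsF.dForall_eq, Cfsg.Agent.LsF.dMat_eq, Cfsg.Agent.LsF.instZAdd_pat, Cfsg.Agent.LsF.dAnd_eq, Cfsg.Agent.LsF.decide_eq])); decide +kernel))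
  · rw [NZ_zero, zero_add, zero_add, zero_add, zero_add, zero_add]
  · rw [add_assoc, add_assoc, add_assoc, add_assoc, h, h', h, add_assoc]

private theorem NZ_mul : ∀ a c x y a' c' x' y' : ZMod 2, NZ a c x y * NZ a' c' x' y' = 0 := by
  have key : ∀ M : M5, (M * NZ 1 0 0 0 = 0 ∧ M * NZ 0 1 0 0 = 0 ∧ M * NZ 0 0 1 0 = 0 ∧ M * NZ 0 0 0 1 = 0) →
      ∀ a c x y, M * NZ a c x y = 0 := fun M g =>
    Z_ind (Q := fun a c x y => M * NZ a c x y = 0) (by rw [NZ_zero, mul_zero])
      (fun a c x y a' c' x' y' h h' => by rw [NZ_add, mul_add, h, h', add_zero]) g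
  refine Z_ind (Q := fun a c x y => ∀ a' c' x' y', NZ a c x y * NZ a' c' x' y' = 0)
    (fun a c x y => by rw [NZ_zero, zero_mul]) (fun a c x y a' c' x' y' h h' a₂ c₂ x₂ y₂ => ?_)
    ⟨key _ (by (refine of_decide_eq_true ?_; (try (rewrite [Cfsg.Agent.LsF.mmulF_pat, Cfsg.Agent.LsF.f85174c_4.2, Cfsg.Agent.LsF.zdecEq_eq, Cfsg.Agent.LsF.finFintype_eq, Cfsg.Agent.LsF.dMat_eq, Cfsg.Agent.LsF.instZAdd_pat, Cfsg.Agent.LsF.instZMul_pat, Cfsg.Agent.LsF.zACM_pat, Cfsg.Agent.LsF.dAnd_eq, Cfsg.Agent.LsF.decide_eq])); decide +kernel)), key _ (by (refine of_decide_eq_true ?_; (try (rewrite [Cfsg.Agent.LsF.mmulF_pat, Cfsg.Agent.LsF.f85174c_4.2, Cfsg.Agent.LsF.zdecEq_eq, Cfsg.Agent.LsF.finFintype_eq, Cfsg.Agent.LsF.dMat_eq, Cfsg.Agent.LsF.instZAdd_pat, Cfsg.Agent.LsF.instZMul_pat, Cfsg.Agent.LsF.zACM_pat, Cfsg.Agent.LsF.dAnd_eq, Cfsg.Agent.LsF.decide_eq])); decide +kernel)), key _ (by (refine of_decide_eq_true ?_; (try (rewrite [Cfsg.Agent.LsF.mmulF_pat, Cfsg.Agent.LsF.f85174c_4.2, Cfsg.Agent.LsF.zdecEq_eq,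 Cfsg.Agent.LsF.finFintype_eq, Cfsg.Agent.LsF.dMat_eq, Cfsg.Agent.LsF.instZAdd_pat, Cfsg.Agent.LsF.instZMul_pat, Cfsg.Agent.LsF.zACM_pat, Cfsg.Agent.LsF.dAnd_eq, Cfsg.Agent.LsF.decide_eq])); decide +kernel)), key _ (by (refine of_decide_eq_true ?_; (try (rewrite [Cfsg.Agent.LsF.mmulF_pat, Cfsg.Agent.LsF.f85174c_4.2, Cfsg.Agent.LsF.zdecEq_eq, Cfsg.Agent.LsF.finFintype_eq, Cfsg.Agent.LsF.dMat_eq, Cfsg.Agent.LsF.instZAdd_pat, Cfsg.Agent.LsF.instZMul_pat, Cfsg.Agent.LsF.zACM_pat, Cfsg.Agent.LsF.dAnd_eq, Cfsg.Agent.LsF.decide_eq])); decide +kernel))⟩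
  rw [NZ_add, add_mul, h, h', add_zero]

theorem Z_mul : ∀ a c x y a' c' x' y' : ZMod 2, Z a c x y * Z a' c' x' y' = Z (a + a') (c + c') (x + x') (y + y') := by
  intro a c x y a' c' x' y'
  rw [Z_eq a, Z_eq a', Z_eq (a + a'), NZ_add, add_mul, mul_add, NZ_mul, zero_add, mul_one, one_mul, add_assoc]

private theorem good_of {M : M5} (h1 : M.det = 1) (h2 : Mᵀ * M.map (fun x => x ^ 2) = 1) : good 2 M = true := by
  rw [good, Bool.and_eq_true, decide_eq_true_eq, decide_eq_true_eq]
  exact ⟨h1, h2⟩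

theorem Z_good : ∀ a c x y : ZMod 2, good 2 (Z a c x y) = true := fun a c x y => by
  have h := Z_mul a c x y a c x y
  simp only [CharTwo.add_self_eq_zero, Z_zero] at h
  have h1 := congrArg Matrix.det h
  rw [Matrix.det_mul, Matrix.det_one] at h1
  refine good_of ((by decide +kernel : ∀ t : F4, t * t = 1 → t = 1) _ h1) ?_
  rw [(by (refine of_decide_eq_true ?_; (try (rewrite [Cfsg.Agent.LsF.f85174c_3.2, Cfsg.Agent.LsF.zdecEq_eq, Cfsg.Agent.LsF.finFintype_eq, Cfsg.Agent.LsF.zFintype_eq, Cfsg.Agent.LsF.dForall_eq, Cfsg.Agent.LsF.dMat_eq, Cfsg.Agent.LsF.transpose_eq, Cfsg.Agent.LsF.mmap_eq, Cfsg.Agent.LsF.decide_eq])); decide +kernel) : ∀ a c x y : ZMod 2, (Z a c x y).map (fun x => x ^ 2) = (Z a c x y)ᵀ), ← Matrix.transpose_mul, h,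
    Matrix.transpose_one]

theorem f_good : good 2 mf = true := good_of (by rw [detL_eq_h47]; decide +kernel) (by decide +kernel)
theorem a_good : good 2 ma = true := good_of (by rw [detL_eq_h47]; decide +kernel) (by decide +kernel)
theorem b_good : good 2 mb = true := good_of (by rw [detL_eq_h47]; decide +kernel) (by decide +kernel)
private noncomputable def _root_.Cfsg.Agent.LsF.f85174c_5 : {f // @Cfsg.Agent.H223.Bnd.Low.mf = f} := ⟨_, by first | (delta Cfsg.Agent.H223.Bnd.Low.mf; rewrite [Cfsg.Agent.LsF.mof_pat, Cfsg.Agent.LsF.vecCons_eq]; exact rfl) | exact rfl⟩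
theorem f_act : ∀ a c x y : ZMod 2, mf * Z a c x y = Z c (a + c + x) (c + x + y) (c + y) * mf := by
  refine Z_ind (Q := fun a c x y => mf * Z a c x y = Z c (a + c + x) (c + x + y) (c + y) * mf) ?_
    (fun a c x y a' c' x' y' h h' => ?_) (by (refine of_decide_eq_true ?_; (try (rewrite [Cfsg.Agent.LsF.mmulF_pat, Cfsg.Agent.LsF.f85174c_5.2, Cfsg.Agent.LsF.f85174c_3.2, Cfsg.Agent.LsF.zadd_pat, Cfsg.Agent.LsF.zdecEq_eq, Cfsg.Agent.LsF.finFintype_eq, Cfsg.Agent.LsF.dMat_eq, Cfsg.Agent.LsF.instZAdd_pat, Cfsg.Agent.LsF.instZMul_pat, Cfsg.Agent.LsF.zACM_pat, Cfsg.Agent.LsF.dAnd_eq, Cfsg.Agent.LsF.decide_eq])); decide +kernel))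
  · simp only [add_zero, Z_zero, mul_one, one_mul]
  · rw [← Z_mul, ← mul_assoc, h, mul_assoc, h', ← mul_assoc, Z_mul]
    congr 2 <;> ring
theorem f_free : ∀ a c x y : ZMod 2, mf * Z a c x y = Z a c x y * mf → Z a c x y = 1 := by (refine of_decide_eq_true ?_; (try (rewrite [Cfsg.Agent.LsF.mmulF_pat, Cfsg.Agent.LsF.f85174c_5.2, Cfsg.Agent.LsF.f85174c_3.2, Cfsg.Agent.LsF.zdecEq_eq, Cfsg.Agent.LsF.finFintype_eq, Cfsg.Agent.LsF.zFintype_eq, Cfsg.Agent.LsF.dForall_eq, Cfsg.Agent.LsF.dMat_eq, Cfsg.Agent.LsF.instMOne_eq, Cfsg.Agent.LsF.instZAdd_pat, Cfsg.Agent.LsF.instZMul_pat, Cfsg.Agent.LsF.zACM_pat, Cfsg.Agent.LsF.dFinEq_eq, Cfsg.Agent.LsF.dAllP_eq, Cfsg.Agent.LsF.decide_eq])); decide +kernel)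
theorem f_pow : mf * mf * (mf * mf) * mf = 1 := by (refine of_decide_eq_true ?_; (try (rewrite [Cfsg.Agent.LsF.mmulF_pat, Cfsg.Agent.LsF.f85174c_5.2, Cfsg.Agent.LsF.zdecEq_eq, Cfsg.Agent.LsF.finFintype_eq, Cfsg.Agent.LsF.dMat_eq, Cfsg.Agent.LsF.instMOne_eq, Cfsg.Agent.LsF.instZAdd_pat, Cfsg.Agent.LsF.instZMul_pat, Cfsg.Agent.LsF.zACM_pat, Cfsg.Agent.LsF.dFinEq_eq, Cfsg.Agent.LsF.decide_eq])); decide +kernel)
theorem a_pow : (ma * ma) * (ma * ma) = 1 := by decide +kernel
private theorem cent_of {M : M5} (g : M * Z 1 0 0 0 = Z 1 0 0 0 * M ∧ M * Z 0 1 0 0 = Z 0 1 0 0 * M ∧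
    M * Z 0 0 1 0 = Z 0 0 1 0 * M ∧ M * Z 0 0 0 1 = Z 0 0 0 1 * M) : ∀ a c x y : ZMod 2, M * Z a c x y = Z a c x y * M :=
  Z_ind (Q := fun a c x y => M * Z a c x y = Z a c x y * M) (by rw [Z_zero, mul_one, one_mul])
    (fun a c x y a' c' x' y' h h' => by rw [← Z_mul, ← mul_assoc, h, mul_assoc, h', ← mul_assoc]) g
private noncomputable def _root_.Cfsg.Agent.LsF.f85174c_6 : {f // @Cfsg.Agent.H223.Bnd.Low.ma = f} := ⟨_, by first | (delta Cfsg.Agent.H223.Bnd.Low.ma; rewrite [Cfsg.Agent.LsF.mof_pat, Cfsg.Agent.LsF.vecCons_eq]; exact rfl) | exact rfl⟩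
theorem a_cent : ∀ a c x y : ZMod 2, ma * Z a c x y = Z a c x y * ma := cent_of (by (refine of_decide_eq_true ?_; (try (rewrite [Cfsg.Agent.LsF.mmulF_pat, Cfsg.Agent.LsF.f85174c_6.2, Cfsg.Agent.LsF.f85174c_3.2, Cfsg.Agent.LsF.zdecEq_eq, Cfsg.Agent.LsF.finFintype_eq, Cfsg.Agent.LsF.dMat_eq, Cfsg.Agent.LsF.instZAdd_pat, Cfsg.Agent.LsF.instZMul_pat, Cfsg.Agent.LsF.zACM_pat, Cfsg.Agent.LsF.dAnd_eq, Cfsg.Agent.LsF.decide_eq])); decide +kernel))
private noncomputable def _root_.Cfsg.Agent.LsF.f85174c_7 : {f // @Cfsg.Agent.H223.Bnd.Low.mb = f} := ⟨_, by first | (delta Cfsg.Agent.H223.Bnd.Low.mb; rewrite [Cfsg.Agent.LsF.mof_pat, Cfsg.Agent.LsF.vecCons_eq]; exact rfl) | exact rfl⟩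
theorem b_cent : ∀ a c x y : ZMod 2, mb * Z a c x y = Z a c x y * mb := cent_of (by (refine of_decide_eq_true ?_; (try (rewrite [Cfsg.Agent.LsF.mmulF_pat, Cfsg.Agent.LsF.f85174c_7.2, Cfsg.Agent.LsF.f85174c_3.2, Cfsg.Agent.LsF.zdecEq_eq, Cfsg.Agent.LsF.finFintype_eq, Cfsg.Agent.LsF.dMat_eq, Cfsg.Agent.LsF.instZAdd_pat, Cfsg.Agent.LsF.instZMul_pat, Cfsg.Agent.LsF.zACM_pat, Cfsg.Agent.LsF.dAnd_eq, Cfsg.Agent.LsF.decide_eq])); decide +kernel))
theorem ab_comm : ma * mb = Z 0 1 0 0 * (mb * ma) := by decide +kernel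

abbrev U5 := Cfsg.SU 5 F4 2

theorem exists_Z (a c x y : ZMod 2) : ∃ g : U5, cm g = Z a c x y := exists_of_good h4 (Z_good a c x y)

/-- the elementary abelian subgroup -/
def EU : Subgroup U5 where
  carrier := {g | ∃ a c x y, cm g = Z a c x y}
  one_mem' := ⟨0, 0, 0, 0, by rw [map_one, Z_zero]⟩
  mul_mem' := by
    rintro g h ⟨a, c, x, y, hg⟩ ⟨a', c', x', y', hh⟩
    exact ⟨_, _, _, _, by rw [map_mul, hg, hh, Z_mul]⟩
  inv_mem' := by
    rintro g ⟨a, c, x, y, hg⟩
    refine ⟨a, c, x, y, ?_⟩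
    have h1 : g⁻¹ = g := by
      rw [inv_eq_iff_mul_eq_one]
      apply cm_injective
      rw [map_mul, hg, Z_mul, map_one, ← Z_zero]
      simp only [CharTwo.add_self_eq_zero]
    rw [h1, hg]

theorem EU_comm : ∀ x ∈ EU, ∀ y ∈ EU, x * y = y * x := by
  rintro g ⟨a, c, x, y, hg⟩ h ⟨a', c', x', y', hh⟩
  apply cm_injective
  rw [map_mul, map_mul, hg, hh, Z_mul, Z_mul, add_comm a, add_comm c, add_comm x, add_comm y]

theorem EU_sq : ∀ x ∈ EU, x ^ 2 = 1 := by
  rintro g ⟨a, c, x, y, hg⟩
  apply cm_injective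
  rw [pow_two, map_mul, hg, Z_mul, map_one, ← Z_zero]
  simp only [CharTwo.add_self_eq_zero]

theorem free_five {G : Type*} [Group G] {x e : G} {i : ℕ} (h5 : x ^ 5 = 1) (h0 : 0 < i) (hi : i < 5)
    (h : x ^ i * e = e * x ^ i) : x * e = e * x := by
  have hc : Commute (x ^ i) e := h
  have key : ∀ k : ℕ, Commute (x ^ (i * k)) e := fun k => by
    rw [pow_mul]; exact hc.pow_left k
  have hmod : ∀ a b : ℕ, a % 5 = b % 5 → x ^ a = x ^ b := by
    intro a b hab
    rw [pow_eq_pow_mod a h5, pow_eq_pow_mod b h5, hab]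
  rw [← pow_one x]
  interval_cases i
  · exact hmod (1 * 1) 1 rfl ▸ key 1
  · exact hmod (2 * 3) 1 rfl ▸ key 3
  · exact hmod (3 * 2) 1 rfl ▸ key 2
  · exact hmod (4 * 4) 1 rfl ▸ key 4

theorem bd_su52 {F : Type u} [Field F] (h2 : ((2 : ℕ) : F) ≠ 0) : Bd F 2 10 U5 := by
  classical
  obtain ⟨f, hf⟩ := exists_of_good h4 f_good
  obtain ⟨a, ha⟩ := exists_of_good h4 a_good
  obtain ⟨b, hb⟩ := exists_of_good h4 b_good
  obtain ⟨z, hz⟩ := exists_Z 0 1 0 0
  have hf5 : f ^ 5 = 1 := by
    apply cm_injective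
    rw [show f ^ 5 = f * f * (f * f) * f by simp only [pow_succ, pow_zero, one_mul, mul_assoc], map_mul, map_mul,
      map_mul, hf, f_pow, map_one]
  have hnorm : ∀ e ∈ EU, f * e * f⁻¹ ∈ EU := by
    rintro e ⟨p, c, x, y, he⟩
    obtain ⟨g, hg⟩ := exists_Z c (p + c + x) (c + x + y) (c + y)
    have h1 : f * e * f⁻¹ = g := by
      rw [mul_inv_eq_iff_eq_mul]
      apply cm_injective
      rw [map_mul, map_mul, hf, he, hg, f_act]
    rw [h1]
    exact ⟨_, _, _, _, hg⟩
  have hpow : ∀ i : ℕ, ∀ e ∈ EU, f ^ i * e * (f ^ i)⁻¹ ∈ EU := by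
    intro i
    induction i with
    | zero => intro e he; simpa using he
    | succ i ih =>
      intro e he
      have : f ^ (i + 1) * e * (f ^ (i + 1))⁻¹ = f * (f ^ i * e * (f ^ i)⁻¹) * f⁻¹ := by
        rw [pow_succ']; group
      rw [this]
      exact hnorm _ (ih e he)
  have hfree : ∀ i : ℕ, 0 < i → i < 5 → ∀ e ∈ EU, f ^ i * e = e * f ^ i → e = 1 := by
    rintro i h0 hi e ⟨p, c, x, y, he⟩ h
    have h1 := congrArg cm (free_five hf5 h0 hi h)
    rw [map_mul, map_mul, hf, he] at h1
    apply cm_injective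
    rw [he, map_one]
    exact f_free _ _ _ _ h1
  have key : ∀ i j : ℕ, i < j → j < 5 → ∀ e ∈ EU, f ^ i * e * (f ^ i)⁻¹ = f ^ j * e * (f ^ j)⁻¹ → e = 1 := by
    intro i j hij hj e he h
    have h1 : f ^ (j - i) * e = e * f ^ (j - i) := by
      have h2 : f ^ j = f ^ i * f ^ (j - i) := by rw [← pow_add]; congr 1; omega
      rw [h2] at h
      have h3 : e = f ^ (j - i) * e * (f ^ (j - i))⁻¹ := by
        calc e = (f ^ i)⁻¹ * (f ^ i * e * (f ^ i)⁻¹) * f ^ i := by group
          _ = (f ^ i)⁻¹ * (f ^ i * f ^ (j - i) * e * (f ^ i * f ^ (j - i))⁻¹) * f ^ i := by rw [h]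
          _ = f ^ (j - i) * e * (f ^ (j - i))⁻¹ := by group
      exact (mul_inv_eq_iff_eq_mul.1 h3.symm)
    exact hfree (j - i) (by omega) (by omega) e he h1
  have hz1 : z ≠ 1 := by
    intro h
    have h1 := congrArg cm h
    rw [hz, map_one] at h1
    exact absurd (congrFun (congrFun h1 2) 3) (by decide +kernel)
  have hzE : z ∈ EU := ⟨_, _, _, _, hz⟩
  have hinj : Set.InjOn (fun i : ℕ => f ^ i) (Finset.range 5 : Set ℕ) := by
    have hne : ∀ i j : ℕ, i < j → j < 5 → f ^ i ≠ f ^ j := by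
      intro i j hij hj h
      exact hz1 (key i j hij hj z hzE (by rw [h]))
    intro i hi j hj h
    simp only [Finset.coe_range, Set.mem_Iio] at hi hj
    rcases lt_trichotomy i j with h1 | h1 | h1
    · exact absurd h (hne i j h1 hj)
    · exact h1
    · exact absurd h.symm (hne j i h1 hi)
  have hab : a * b * a⁻¹ * b⁻¹ = z := by
    have h1 : a * b = z * (b * a) := by
      apply cm_injective
      rw [map_mul, map_mul, map_mul, ha, hb, hz, ab_comm]
    rw [h1]; group
  have hcent : ∀ {g : U5} {M : M5}, cm g = M → (∀ a c x y : ZMod 2, M * Z a c x y = Z a c x y * M) →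
      ∀ e ∈ EU, g * e = e * g := by
    rintro g M hg hM e ⟨p, c, x, y, he⟩
    apply cm_injective
    rw [map_mul, map_mul, hg, he, hM]
  have h5 := bd_of_free_ext (F := F) Nat.prime_two h2 EU EU_comm (fun x => ⟨1, Subtype.ext (EU_sq x x.2)⟩)
    ((Finset.range 5).image (fun i => f ^ i)) (by
      intro s hs e he
      obtain ⟨i, -, rfl⟩ := Finset.mem_image.1 hs
      exact hpow i e he) (by
      intro s hs t ht hst e he h
      obtain ⟨i, hi, rfl⟩ := Finset.mem_image.1 hs
      obtain ⟨j, hj, rfl⟩ := Finset.mem_image.1 ht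
      rw [Finset.mem_range] at hi hj
      rcases lt_trichotomy i j with h1 | h1 | h1
      · exact key i j h1 hj e he h
      · exact absurd (by rw [h1]) hst
      · exact key j i h1 hi e he h.symm)
    (a := a) (b := b) (hcent ha a_cent) (hcent hb b_cent) (k := 2) (by
      apply cm_injective
      rw [show a ^ 2 ^ 2 = (a * a) * (a * a) by rw [show (2 ^ 2 : ℕ) = 2 + 2 from rfl, pow_add, pow_two], map_mul,
        map_mul, ha, a_pow, map_one]) (by rw [hab]; exact hzE) (by rw [hab]; exact hz1) (by rw [hab]; exact EU_sq z hzE)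
  rwa [Finset.card_image_of_injOn hinj, Finset.card_range] at h5

end su

end Cfsg.Agent.H223.Bnd.Low
end

-- part: H223/Bnd/Orth
section
/-!
# `Fine` for the orthogonal groups: the generic cases

`Cop r T` : kernels of perfect central extensions of `T` have order prime to `r` (this is `H912.Bd.NoR`).
-/

set_option autoImplicit false

namespace Cfsg.Agent.H223.Bnd.H315.FineOrth
universe u v w

open Cfsg Cfsg.Agent.H698 Cfsg.Agent.H912.Bd Cfsg.Agent.H315.FineNum

/-- Kernels of perfect central extensions of `T` have order prime to `r`. -/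
def Cop (r : ℕ) (T : Type v) [Group T] : Prop :=
  ∀ (P : Type w) [Group P], commutator P = ⊤ → ∀ π : P →* T, Function.Surjective π →
    π.ker ≤ Subgroup.center P → (Nat.card π.ker).Coprime r

theorem rep_le' {p m r d : ℕ} {T : Type v} [Group T] (hp : p.Prime) (hr : r.Prime) (hrp : p ≠ r)
    (h : _root_.Cfsg.Agent.H698.Rep.{v, w} p m T) (hN : Cop.{v, w} r T)
    (hB : ∀ (F : Type w) [Field F], (r : F) ≠ 0 → Bd F r d T) : d ≤ m := by
  obtain ⟨F, _, _, _, P, _, _, π, ρ, h1, h2, h3, h4, h5⟩ := h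
  refine hB F ?_ m ⟨P, inferInstance, π, ρ, h1, ?_, hN P h3 π h1 h2, ?_⟩
  · rw [Ne, CharP.cast_eq_zero_iff F p]
    intro h6
    rw [Nat.prime_dvd_prime_iff_eq hp hr] at h6
    exact hrp h6
  · intro x hx y
    exact ((Subgroup.mem_center_iff.1 (h2 hx)) y).symm
  · rw [(MonoidHom.ker_eq_bot_iff ρ).2 h4]
    exact bot_le

theorem rep_le {p m r d : ℕ} {T : Type v} [Group T] (hp : p.Prime) (hr : r.Prime) (hrT : r ∣ Nat.card T)
    (hpT : ¬ p ∣ Nat.card T) (h : _root_.Cfsg.Agent.H698.Rep.{v, w} p m T) (hN : Cop.{v, w} r T)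
    (hB : ∀ (F : Type w) [Field F], (r : F) ≠ 0 → Bd F r d T) : d ≤ m :=
  rep_le' hp hr (fun h6 => hpT (h6 ▸ hrT)) h hN hB

theorem center_eq_bot {T : Type v} [Group T] [IsSimpleGroup T] (hT : ¬ IsMulCommutative T) :
    Subgroup.center T = ⊥ := by
  rcases (inferInstance : (Subgroup.center T).Normal).eq_bot_or_eq_top with h | h
  · exact h
  · exact absurd ⟨⟨fun a b => ((Subgroup.mem_center_iff.1 (h ▸ Subgroup.mem_top a : a ∈ Subgroup.center T)) b).symm⟩⟩ hT

/-- The form used for all families. -/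
theorem fine_of_eleven {T : Type v} [Group T] [Finite T] (hc : Subgroup.center T = ⊥) (hT : 1 < Nat.card T) {r D : ℕ}
    (hr : r.Prime) (hrT : r ∣ Nat.card T) (hN : Cop.{v, w} r T)
    (hB : ∀ (F : Type w) [Field F], (r : F) ≠ 0 → Bd F r (D + 1) T) (h : Nat.card (MulAut T) ≤ 11 ^ D) :
    Cfsg.Agent.H223.Bnd.Bn.{v, w} T :=
  Cfsg.Agent.H223.Bnd.Bn.of_eleven hc hT (fun _ _ hp _ hpT _ hR => rep_le hp hr hrT hpT hR hN hB) h


theorem not_comm {T : Type v} [Group T] [Finite T] [IsSimpleGroup T] {r : ℕ} (hr : r.Prime)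
    (hrT : r ∣ Nat.card T) (h : r < Nat.card T) : ¬ IsMulCommutative T := by
  intro hc
  let _ : CommGroup T := { (inferInstance : Group T) with mul_comm := fun a b => hc.is_comm.comm a b }
  have h1 : (Nat.card T).Prime := IsSimpleGroup.prime_card
  have h2 := (Nat.prime_dvd_prime_iff_eq hr h1).1 hrT
  omega

section

variable {K : Type} [Field K] [Fintype K]

theorem exists_pf : ∃ p f : ℕ, p.Prime ∧ 1 ≤ f ∧ Fintype.card K = p ^ f ∧ CharP K p := by
  obtain ⟨p, hp⟩ := CharP.exists K
  obtain ⟨⟨f, hf⟩, hpr, hc⟩ := FiniteField.card K p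
  exact ⟨p, f, hpr, hf, hc, hp⟩

/-! ### `PΩ_{2m+1}(q)` -/

theorem card_odd {m : ℕ} (hm : 3 ≤ m) (ho : Odd (Fintype.card K)) :
    2 * Nat.card (Cfsg.POmega K (Cfsg.quadFormOdd m K)) ≤ Fintype.card K ^ (m * (2 * m + 1)) := by
  rw [Cfsg.Agent.S0292.result (F := K) rfl ho m hm]
  calc _ ≤ Fintype.card K ^ m ^ 2 * Fintype.card K ^ (m * (m + 1)) := Nat.mul_le_mul_left _ (prod_le _ _)
    _ = _ := by rw [← pow_add]; congr 1; ring

theorem prod_pos' {q k : ℕ} (hq : 2 ≤ q) : 1 ≤ ∏ i ∈ Finset.range k, (q ^ (2 * (i + 1)) - 1) := by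
  refine Finset.one_le_prod' fun i _ => ?_
  have h1 : 2 ^ 1 ≤ q ^ (2 * (i + 1)) := (Nat.pow_le_pow_left hq 1).trans (Nat.pow_le_pow_right (by omega) (by omega))
  omega

/-- From the order formula. -/
theorem basic {T : Type} [Group T] [Finite T] [IsSimpleGroup T] {r q g e A : ℕ} (hr : r.Prime) (hrq : r ∣ q) (hq : 2 ≤ q)
    (hg : g ≤ 4) (hgr : ¬ r ∣ g) (he : 4 ≤ e) (hA : 1 ≤ A) (h : g * Nat.card T = q ^ e * A) :
    Subgroup.center T = ⊥ ∧ 1 < Nat.card T ∧ r ∣ Nat.card T := by
  have h1 : r ∣ Nat.card T := by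
    have h2 : r ∣ g * Nat.card T := by
      rw [h]
      exact (hrq.trans (dvd_pow_self q (by omega))).mul_right A
    exact (hr.dvd_mul.1 h2).resolve_left hgr
  have h3 : 4 * q < g * Nat.card T := by
    rw [h]
    have h4 : q ^ 4 ≤ q ^ e := Nat.pow_le_pow_right (by omega) he
    have h5 : 4 * q < q ^ 4 ∨ q = 2 ∨ True := Or.inr (Or.inr trivial)
    have h6 : q ^ e ≤ q ^ e * A := Nat.le_mul_of_pos_right _ hA
    have h7 : 8 * q ≤ q ^ 4 := by
      calc 8 * q = 2 ^ 3 * q := by norm_num
        _ ≤ q ^ 3 * q := Nat.mul_le_mul_right _ (Nat.pow_le_pow_left hq 3)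
        _ = q ^ 4 := by ring
    omega
  have hrq' : r ≤ q := Nat.le_of_dvd (by omega) hrq
  have h8 : r < Nat.card T := by
    by_contra hcon
    have h9 : g * Nat.card T ≤ 4 * r := Nat.mul_le_mul hg (by omega)
    omega
  exact ⟨center_eq_bot (not_comm hr h1 h8), hr.one_lt.trans h8, h1⟩

theorem fine_odd {r m : ℕ} (hr : r.Prime) (hK : CharP K r) (hm : 3 ≤ m) (ho : Odd (Fintype.card K))
    (h33 : ¬ (m = 3 ∧ Fintype.card K = 3)) (hN : Cop.{0, w} r (Cfsg.POmega K (Cfsg.quadFormOdd m K))) :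
    Cfsg.Agent.H223.Bnd.Bn.{0, w} (Cfsg.POmega K (Cfsg.quadFormOdd m K)) := by
  obtain ⟨p, f, hp, hf, hq, hpK⟩ := exists_pf (K := K)
  obtain rfl : p = r := CharP.eq K hpK hK
  have := Fact.mk hp
  have hs : IsSimpleGroup (Cfsg.POmega K (Cfsg.quadFormOdd m K)) := Cfsg.Agent.S0295.result ho m hm
  have : Finite (Cfsg.isometryGroup K (Cfsg.quadFormOdd m K)) := inferInstance
  have : Finite (Cfsg.POmega K (Cfsg.quadFormOdd m K)) := inferInstance
  have hpo : Odd p := by
    rw [hq] at ho
    exact Nat.Odd.of_mul_left (n := p ^ (f - 1)) (by rwa [← pow_succ', Nat.sub_add_cancel hf])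
  have hq2 : 2 ≤ Fintype.card K := Fintype.one_lt_card
  have hq3 : 3 ≤ Fintype.card K := by
    obtain ⟨k, hk⟩ := ho
    omega
  obtain ⟨h1, h2, h3⟩ := basic (q := Fintype.card K) hp (by rw [hq]; exact dvd_pow_self p (by omega)) hq2 (by norm_num)
    (fun h => by
      have := (Nat.prime_dvd_prime_iff_eq hp Nat.prime_two).1 h
      subst this
      exact absurd hpo (by decide)) (by nlinarith only [hm]) (prod_pos' hq2) (Cfsg.Agent.S0292.result (F := K) rfl ho m hm)
  have haut : Nat.card (MulAut (Cfsg.POmega K (Cfsg.quadFormOdd m K))) ≤ Fintype.card K ^ (m * (2 * m + 1) + 1) := by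
    rw [Cfsg.Agent.S0816.result (F := K) p f hf hq hpo m hm]
    have h4 := four_mul_le hp.two_le hf hq
    calc 2 * f * Nat.card (Cfsg.POmega K (Cfsg.quadFormOdd m K))
        = f * (2 * Nat.card (Cfsg.POmega K (Cfsg.quadFormOdd m K))) := by ring
      _ ≤ Fintype.card K * Fintype.card K ^ (m * (2 * m + 1)) := Nat.mul_le_mul (by omega) (card_odd hm ho)
      _ = _ := by rw [pow_succ, mul_comm]
  rcases hm.eq_or_lt with rfl | hm4
  · have hq5 : 5 ≤ Fintype.card K := by
      obtain ⟨k, hk⟩ := ho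
      have : Fintype.card K ≠ 3 := fun h => h33 ⟨rfl, h⟩
      omega
    have h5 : 5 ^ 3 ≤ Fintype.card K ^ 3 := Nat.pow_le_pow_left hq5 3
    refine fine_of_eleven (D := Fintype.card K ^ 3 - 2) h1 h2 hp h3 hN (fun F _ hF => ?_) (haut.trans (pow_le_eleven (by omega) ?_))
    · exact (bd_pomega_odd_cube hp hF hK le_rfl).mono (by omega)
    · have h6 := minus_five (q := Fintype.card K) (by omega)
      omega
  · rcases (show 4 ≤ m from hm4).eq_or_lt with rfl | hm5
    · have h5 : 3 ^ 3 ≤ Fintype.card K ^ 3 := Nat.pow_le_pow_left hq3 3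
      refine fine_of_eleven (D := Fintype.card K ^ 3 - 2) h1 h2 hp h3 hN (fun F _ hF => ?_) (haut.trans (pow_le_eleven (by omega) ?_))
      · exact (bd_pomega_odd_cube hp hF hK (by norm_num)).mono (by omega)
      · have h6 := odd_four (q := Fintype.card K) (by omega)
        omega
    · have h5 : 3 ^ 4 ≤ Fintype.card K ^ (m - 1) :=
        (Nat.pow_le_pow_left hq3 4).trans (Nat.pow_le_pow_right (by omega) (by omega))
      refine fine_of_eleven (D := Fintype.card K ^ (m - 1) - 2) h1 h2 hp h3 hN (fun F _ hF => ?_) (haut.trans (pow_le_eleven (by omega) ?_))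
      · exact (bd_pomega_odd_sl hp hF hK hm).mono (by omega)
      · have h6 := big (q := Fintype.card K) (m := m) (by omega) hm5
        have h7 : m * (2 * m + 1) + 1 ≤ (m + 1) * (2 * m + 1) + 3 := by linarith only []
        have h8 : 3 * (m * (2 * m + 1) + 1) * (Fintype.card K - 1) ≤
            3 * ((m + 1) * (2 * m + 1) + 3) * (Fintype.card K - 1) := Nat.mul_le_mul_right _ (Nat.mul_le_mul_left _ h7)
        omega

/-! ### `PΩ⁺_{2m}(q)` -/

theorem not_dvd_gcd_sub {r q m : ℕ} (hr : r.Prime) (hq : 1 ≤ q) (hm : 1 ≤ m) (hrq : r ∣ q) : ¬ r ∣ Nat.gcd 4 (q ^ m - 1) := by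
  intro h
  have h1 : r ∣ q ^ m - 1 := h.trans (Nat.gcd_dvd_right _ _)
  have h2 : r ∣ q ^ m := dvd_pow hrq (by omega)
  have h3 : 1 ≤ q ^ m := Nat.one_le_pow _ _ (by omega)
  have h4 : r ∣ 1 := by
    have := Nat.dvd_sub h2 h1
    rwa [Nat.sub_sub_self h3] at this
  exact hr.one_lt.ne' (Nat.dvd_one.1 h4)

theorem not_dvd_gcd_add {r q m : ℕ} (hr : r.Prime) (hm : 1 ≤ m) (hrq : r ∣ q) : ¬ r ∣ Nat.gcd 4 (q ^ m + 1) := by
  intro h
  have h1 : r ∣ q ^ m + 1 := h.trans (Nat.gcd_dvd_right _ _)
  have h2 : r ∣ q ^ m := dvd_pow hrq (by omega)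
  exact hr.one_lt.ne' (Nat.dvd_one.1 ((Nat.dvd_add_right h2).1 h1))

theorem card_plus {m : ℕ} (hm : 4 ≤ m) :
    Nat.card (Cfsg.POmega K (Cfsg.quadFormPlus m K)) ≤ Fintype.card K ^ (m * (2 * m - 1)) := by
  have h1 := Cfsg.Agent.S0293.result (F := K) rfl m hm
  have h2 : 1 ≤ Nat.gcd 4 (Fintype.card K ^ m - 1) := Nat.gcd_pos_of_pos_left _ (by norm_num)
  refine (Nat.le_mul_of_pos_left _ h2).trans ?_
  rw [h1]
  have h3 : (m - 1) * (m - 1 + 1) = (m - 1) * m := by rw [Nat.sub_add_cancel (by omega)]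
  calc _ ≤ Fintype.card K ^ (m * (m - 1)) * Fintype.card K ^ m * Fintype.card K ^ ((m - 1) * (m - 1 + 1)) :=
        Nat.mul_le_mul (Nat.mul_le_mul_left _ (Nat.sub_le _ _)) (prod_le _ _)
    _ = _ := by
      rw [h3, ← pow_add, ← pow_add]
      congr 1
      obtain ⟨k, rfl⟩ : ∃ k, m = k + 1 := ⟨m - 1, by omega⟩
      have h4 : 2 * (k + 1) - 1 = 2 * k + 1 := by omega
      rw [h4, Nat.add_sub_cancel]
      ring

theorem fine_plus {r m : ℕ} (hr : r.Prime) (hK : CharP K r) (hm : 4 ≤ m)
    (h42 : ¬ (m = 4 ∧ Fintype.card K = 2)) (hN : Cop.{0, w} r (Cfsg.POmega K (Cfsg.quadFormPlus m K))) :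
    Cfsg.Agent.H223.Bnd.Bn.{0, w} (Cfsg.POmega K (Cfsg.quadFormPlus m K)) := by
  obtain ⟨p, f, hp, hf, hq, hpK⟩ := exists_pf (K := K)
  obtain rfl : p = r := CharP.eq K hpK hK
  have := Fact.mk hp
  have hs : IsSimpleGroup (Cfsg.POmega K (Cfsg.quadFormPlus m K)) := Cfsg.Agent.S0296.result m hm
  have : Finite (Cfsg.isometryGroup K (Cfsg.quadFormPlus m K)) := inferInstance
  have : Finite (Cfsg.POmega K (Cfsg.quadFormPlus m K)) := inferInstance
  have hq2 : 2 ≤ Fintype.card K := Fintype.one_lt_card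
  have hpq : p ∣ Fintype.card K := by rw [hq]; exact dvd_pow_self p (by omega)
  obtain ⟨h1, h2, h3⟩ := basic (q := Fintype.card K) (e := m * (m - 1)) (g := Nat.gcd 4 (Fintype.card K ^ m - 1))
    (A := (Fintype.card K ^ m - 1) * ∏ i ∈ Finset.range (m - 1), (Fintype.card K ^ (2 * (i + 1)) - 1))
    hp hpq hq2 (Nat.gcd_le_left _ (by norm_num)) (not_dvd_gcd_sub hp (by omega) (by omega) hpq)
    (by obtain ⟨k, rfl⟩ : ∃ k, m = k + 4 := ⟨m - 4, by omega⟩
        have : k + 4 - 1 = k + 3 := rfl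
        rw [this]
        nlinarith only [])
    (Nat.mul_pos (by
      have : 2 ^ 1 ≤ Fintype.card K ^ m := (Nat.pow_le_pow_left hq2 1).trans (Nat.pow_le_pow_right (by omega) (by omega))
      omega) (prod_pos' hq2)) (by rw [← mul_assoc]; exact Cfsg.Agent.S0293.result (F := K) rfl m hm)
  have h4 := four_mul_le hp.two_le hf hq
  have hcp := card_plus (K := K) hm
  have haut0 := Cfsg.Agent.S0817.result (F := K) p f hf hq m hm
  have hfac : (if p = 2 then 2 else (if Even (m * (p ^ f - 1) / 2) then 8 else 4)) ≤ 8 := by split_ifs <;> norm_num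
  rcases hm.eq_or_lt with rfl | hm5
  · have hq3 : 3 ≤ Fintype.card K := by
      have : Fintype.card K ≠ 2 := fun h => h42 ⟨rfl, h⟩
      omega
    have h5 : 3 ^ 3 ≤ Fintype.card K ^ 3 := Nat.pow_le_pow_left hq3 3
    have haut : Nat.card (MulAut (Cfsg.POmega K (Cfsg.quadFormPlus 4 K))) ≤ Fintype.card K ^ 32 := by
      rw [haut0, if_pos rfl]
      calc _ ≤ 3 * 8 * f * Fintype.card K ^ (4 * (2 * 4 - 1)) :=
            Nat.mul_le_mul (Nat.mul_le_mul_right _ (Nat.mul_le_mul_left _ hfac)) hcp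
        _ = (12 * (2 * f)) * Fintype.card K ^ 28 := by ring
        _ ≤ (Fintype.card K ^ 3 * Fintype.card K) * Fintype.card K ^ 28 :=
            Nat.mul_le_mul_right _ (Nat.mul_le_mul (by omega) h4)
        _ = _ := by ring
    refine fine_of_eleven (D := Fintype.card K ^ 3 - 2) h1 h2 hp h3 hN (fun F _ hF => ?_) (haut.trans (pow_le_eleven (by omega) ?_))
    · exact (bd_pomega_plus_cube hp hF hK (by norm_num)).mono (by omega)
    · have h6 := odd_four (q := Fintype.card K) (by omega)
      omega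
  · have haut : Nat.card (MulAut (Cfsg.POmega K (Cfsg.quadFormPlus m K))) ≤ Fintype.card K ^ (m * (2 * m - 1) + 3) := by
      rw [haut0, if_neg (by omega), one_mul]
      calc _ ≤ 8 * f * Fintype.card K ^ (m * (2 * m - 1)) := Nat.mul_le_mul (Nat.mul_le_mul_right _ hfac) hcp
        _ = (2 * 2 * (2 * f)) * Fintype.card K ^ (m * (2 * m - 1)) := by ring
        _ ≤ (Fintype.card K * Fintype.card K * Fintype.card K) * Fintype.card K ^ (m * (2 * m - 1)) :=
            Nat.mul_le_mul_right _ (Nat.mul_le_mul (Nat.mul_le_mul hq2 hq2) h4)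
        _ = _ := by ring
    have h7 : m * (2 * m - 1) + 3 ≤ (m + 1) * (2 * m + 1) + 3 :=
      Nat.add_le_add_right (Nat.mul_le_mul (by omega) (by omega)) 3
    have hslB : ∀ (F : Type w) [Field F], (p : F) ≠ 0 → 2 ≤ Fintype.card K ^ (m - 1) - 1 →
        Bd F p (Fintype.card K ^ (m - 1) - 2 + 1) (Cfsg.POmega K (Cfsg.quadFormPlus m K)) := fun F _ hF h9 =>
      (bd_pomega_plus_sl hp hF hK (by omega)).mono (by omega)
    have h16 : 2 ^ 4 ≤ Fintype.card K ^ (m - 1) :=
      (Nat.pow_le_pow_left hq2 4).trans (Nat.pow_le_pow_right (by omega) (by omega))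
    refine fine_of_eleven (D := Fintype.card K ^ (m - 1) - 2) h1 h2 hp h3 hN (fun F _ hF => hslB F hF (by omega)) (haut.trans ?_)
    rcases hq2.eq_or_lt with hq2' | hq3
    · rw [← hq2']
      rcases (show 5 ≤ m from hm5).eq_or_lt with rfl | hm6
      · norm_num
      · refine pow_le_eleven (by norm_num) ?_
        have h6 := big_two (m := m) hm6
        omega
    · refine pow_le_eleven (by omega) ?_
      have h6 := big (q := Fintype.card K) (m := m) (by omega) hm5
      have h8 : 3 * (m * (2 * m - 1) + 3) * (Fintype.card K - 1) ≤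
          3 * ((m + 1) * (2 * m + 1) + 3) * (Fintype.card K - 1) := Nat.mul_le_mul_right _ (Nat.mul_le_mul_left _ h7)
      omega

/-! ### `PΩ⁻_{2m}(q)` -/

theorem card_minus {m : ℕ} (hm : 4 ≤ m) (a b : K)
    (hab : ∀ z₁ z₂ : K, z₁ ^ 2 + a * z₁ * z₂ + b * z₂ ^ 2 = 0 → z₁ = 0 ∧ z₂ = 0) :
    Nat.card (Cfsg.POmega K (Cfsg.quadFormMinus (m - 1) K a b)) ≤ Fintype.card K ^ (m * (2 * m - 1)) := by
  have h1 := Cfsg.Agent.S0294.result (F := K) rfl m hm a b hab
  have h2 : 1 ≤ Nat.gcd 4 (Fintype.card K ^ m + 1) := Nat.gcd_pos_of_pos_left _ (by norm_num)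
  refine (Nat.le_mul_of_pos_left _ h2).trans ?_
  rw [h1]
  calc _ = Fintype.card K ^ (m * (m - 1)) * ((Fintype.card K ^ m + 1) *
        ∏ i ∈ Finset.range (m - 1), (Fintype.card K ^ (2 * (i + 1)) - 1)) := by rw [mul_assoc]
    _ ≤ Fintype.card K ^ (m * (m - 1)) * Fintype.card K ^ (m * m) :=
        Nat.mul_le_mul_left _ (prod_minus_le Fintype.card_pos (by omega))
    _ = _ := by
      rw [← pow_add]
      congr 1
      obtain ⟨k, rfl⟩ : ∃ k, m = k + 1 := ⟨m - 1, by omega⟩
      have h4 : 2 * (k + 1) - 1 = 2 * k + 1 := by omega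
      rw [h4, Nat.add_sub_cancel]
      ring

theorem minus_basic {p m f : ℕ} (hp : p.Prime) (hf : 1 ≤ f) (hq : Fintype.card K = p ^ f) (hm : 4 ≤ m) (a b : K)
    (hab : ∀ z₁ z₂ : K, z₁ ^ 2 + a * z₁ * z₂ + b * z₂ ^ 2 = 0 → z₁ = 0 ∧ z₂ = 0) :
    Subgroup.center (Cfsg.POmega K (Cfsg.quadFormMinus (m - 1) K a b)) = ⊥ ∧
      1 < Nat.card (Cfsg.POmega K (Cfsg.quadFormMinus (m - 1) K a b)) ∧
      p ∣ Nat.card (Cfsg.POmega K (Cfsg.quadFormMinus (m - 1) K a b)) := by
  have hs : IsSimpleGroup (Cfsg.POmega K (Cfsg.quadFormMinus (m - 1) K a b)) := Cfsg.Agent.S0297.result m hm a b hab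
  have : Finite (Cfsg.isometryGroup K (Cfsg.quadFormMinus (m - 1) K a b)) := inferInstance
  have : Finite (Cfsg.POmega K (Cfsg.quadFormMinus (m - 1) K a b)) := inferInstance
  have hq2 : 2 ≤ Fintype.card K := Fintype.one_lt_card
  have hpq : p ∣ Fintype.card K := by rw [hq]; exact dvd_pow_self p (by omega)
  refine basic (q := Fintype.card K) (e := m * (m - 1)) (g := Nat.gcd 4 (Fintype.card K ^ m + 1))
    (A := (Fintype.card K ^ m + 1) * ∏ i ∈ Finset.range (m - 1), (Fintype.card K ^ (2 * (i + 1)) - 1))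
    hp hpq hq2 (Nat.gcd_le_left _ (by norm_num)) (not_dvd_gcd_add hp (by omega) hpq)
    ?_ (Nat.mul_pos (Nat.succ_pos _) (prod_pos' hq2)) (by rw [← mul_assoc]; exact Cfsg.Agent.S0294.result (F := K) rfl m hm a b hab)
  obtain ⟨k, rfl⟩ : ∃ k, m = k + 4 := ⟨m - 4, by omega⟩
  have : k + 4 - 1 = k + 3 := rfl
  rw [this]
  nlinarith only []

theorem minus_aut {p m f : ℕ} (hp : p.Prime) (hf : 1 ≤ f) (hq : Fintype.card K = p ^ f) (hm : 4 ≤ m) (a b : K)
    (hab : ∀ z₁ z₂ : K, z₁ ^ 2 + a * z₁ * z₂ + b * z₂ ^ 2 = 0 → z₁ = 0 ∧ z₂ = 0) :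
    Nat.card (MulAut (Cfsg.POmega K (Cfsg.quadFormMinus (m - 1) K a b))) ≤ Fintype.card K ^ (m * (2 * m - 1) + 3) := by
  have := Fact.mk hp
  have hq2 : 2 ≤ Fintype.card K := Fintype.one_lt_card
  have h4 := four_mul_le hp.two_le hf hq
  have hfac : (if p = 2 then 2 else (if Even (m * (p ^ f - 1) / 2) then 4 else 8)) ≤ 8 := by split_ifs <;> norm_num
  rw [Cfsg.Agent.S0818.result (F := K) p f hf hq m hm a b hab]
  calc _ ≤ 8 * f * Fintype.card K ^ (m * (2 * m - 1)) :=
        Nat.mul_le_mul (Nat.mul_le_mul_right _ hfac) (card_minus hm a b hab)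
    _ = (2 * 2 * (2 * f)) * Fintype.card K ^ (m * (2 * m - 1)) := by ring
    _ ≤ (Fintype.card K * Fintype.card K * Fintype.card K) * Fintype.card K ^ (m * (2 * m - 1)) :=
        Nat.mul_le_mul_right _ (Nat.mul_le_mul (Nat.mul_le_mul hq2 hq2) h4)
    _ = _ := by ring

theorem minus_aut_two {m : ℕ} (h2 : Fintype.card K = 2) (hm : 4 ≤ m) (a b : K)
    (hab : ∀ z₁ z₂ : K, z₁ ^ 2 + a * z₁ * z₂ + b * z₂ ^ 2 = 0 → z₁ = 0 ∧ z₂ = 0) :
    Nat.card (MulAut (Cfsg.POmega K (Cfsg.quadFormMinus (m - 1) K a b))) ≤ 2 ^ (m * (2 * m - 1) + 1) := by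
  have := Fact.mk Nat.prime_two
  rw [Cfsg.Agent.S0818.result (F := K) 2 1 le_rfl (by rw [h2, pow_one]) m hm a b hab, if_pos rfl, mul_one, pow_succ,
    mul_comm]
  refine Nat.mul_le_mul_right _ ?_
  have h3 := card_minus hm a b hab
  rwa [h2] at h3

theorem fine_minus {r m : ℕ} (hr : r.Prime) (hK : CharP K r) (hm : 4 ≤ m) (a b : K)
    (hab : ∀ z₁ z₂ : K, z₁ ^ 2 + a * z₁ * z₂ + b * z₂ ^ 2 = 0 → z₁ = 0 ∧ z₂ = 0)
    (h52 : ¬ (m = 5 ∧ Fintype.card K = 2)) (h62 : ¬ (m = 6 ∧ Fintype.card K = 2))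
    (hN : Cop.{0, w} r (Cfsg.POmega K (Cfsg.quadFormMinus (m - 1) K a b))) :
    Cfsg.Agent.H223.Bnd.Bn.{0, w} (Cfsg.POmega K (Cfsg.quadFormMinus (m - 1) K a b)) := by
  obtain ⟨p, f, hp, hf, hq, hpK⟩ := exists_pf (K := K)
  obtain rfl : p = r := CharP.eq K hpK hK
  have := Fact.mk hp
  have : Finite (Cfsg.isometryGroup K (Cfsg.quadFormMinus (m - 1) K a b)) := inferInstance
  have : Finite (Cfsg.POmega K (Cfsg.quadFormMinus (m - 1) K a b)) := inferInstance
  have hq2 : 2 ≤ Fintype.card K := Fintype.one_lt_card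
  obtain ⟨h1, h2, h3⟩ := minus_basic hp hf hq hm a b hab
  have haut := minus_aut hp hf hq hm a b hab
  rcases hq2.eq_or_lt with hq2' | hq3
  · -- `q = 2`
    obtain rfl : p = 2 := by
      have h4 : p ∣ 2 := by rw [hq2', hq]; exact dvd_pow_self p (by omega)
      exact (Nat.prime_dvd_prime_iff_eq hp Nat.prime_two).1 h4
    have haut2 := minus_aut_two hq2'.symm hm a b hab
    rcases hm.eq_or_lt with rfl | hm5
    · refine fine_of_eleven (D := 13) h1 h2 hp h3 hN (fun F _ hF => ?_) (haut2.trans (by norm_num))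
      exact bd_pomega_minus_two (by exact_mod_cast hF) hq2'.symm (by norm_num) a b hab
    · have hm7 : 7 ≤ m := by
        rcases (show 5 ≤ m from hm5).eq_or_lt with h | hm6
        · exact absurd ⟨h.symm, hq2'.symm⟩ h52
        rcases (show 6 ≤ m from hm6).eq_or_lt with h | hm7
        · exact absurd ⟨h.symm, hq2'.symm⟩ h62
        exact hm7
      have h16 : 2 ^ 5 ≤ 2 ^ (m - 2) := Nat.pow_le_pow_right (by omega) (by omega)
      refine fine_of_eleven (D := 2 ^ (m - 2) - 2) h1 h2 hp h3 hN (fun F _ hF => ?_) (haut2.trans ?_)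
      · have h5 := bd_pomega_minus_sl (m := m - 1) hp hF hK (by omega) a b
        rw [← hq2'] at h5
        have h6 : m - 1 - 1 = m - 2 := by omega
        rw [h6] at h5
        exact h5.mono (by omega)
      · refine pow_le_eleven (by norm_num) ?_
        have h6 := big_two (m := m - 1) (by omega)
        have h7 : m - 1 + 1 = m := by omega
        have h8 : 2 * (m - 1) + 1 = 2 * m - 1 := by omega
        have h9 : m - 1 - 1 = m - 2 := by (clear * -; omega)
        rw [h7, h8, h9] at h6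
        omega
  · -- `q ≥ 3`
    have h27 : 3 ^ 3 ≤ Fintype.card K ^ 3 := Nat.pow_le_pow_left hq3 3
    rcases hm.eq_or_lt with rfl | hm5
    · refine fine_of_eleven (D := Fintype.card K ^ 3 - 2) h1 h2 hp h3 hN (fun F _ hF => ?_) (haut.trans (pow_le_eleven (by omega) ?_))
      · exact (bd_pomega_minus_cube hp hF hK (by norm_num) a b).mono (by omega)
      · have h6 := odd_four (q := Fintype.card K) (by omega)
        omega
    rcases (show 5 ≤ m from hm5).eq_or_lt with rfl | hm6
    · refine fine_of_eleven (D := Fintype.card K ^ 3 - 2) h1 h2 hp h3 hN (fun F _ hF => ?_) (haut.trans ?_)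
      · exact (bd_pomega_minus_cube hp hF hK (by norm_num) a b).mono (by omega)
      · rcases (show 3 ≤ Fintype.card K from hq3).eq_or_lt with h | h
        · rw [← h]; norm_num
        · refine pow_le_eleven (by omega) ?_
          have h6 := minus_five (q := Fintype.card K) (by omega)
          omega
    · have h81 : 3 ^ 4 ≤ Fintype.card K ^ (m - 2) :=
        (Nat.pow_le_pow_left hq3 4).trans (Nat.pow_le_pow_right (by omega) (by omega))
      refine fine_of_eleven (D := Fintype.card K ^ (m - 2) - 2) h1 h2 hp h3 hN (fun F _ hF => ?_) (haut.trans (pow_le_eleven (by omega) ?_))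
      · have h5 := bd_pomega_minus_sl (m := m - 1) hp hF hK (by omega) a b
        have h6 : m - 1 - 1 = m - 2 := by omega
        rw [h6] at h5
        exact h5.mono (by omega)
      · have h6 := big (q := Fintype.card K) (m := m - 1) (by omega) (by omega)
        have h7 : m - 1 + 1 = m := by omega
        have h8 : 2 * (m - 1) + 1 = 2 * m - 1 := by omega
        have h9 : m - 1 - 1 = m - 2 := by (clear * -; omega)
        rw [h7, h8, h9] at h6
        omega

/-- `PΩ⁻_{10}(2)` -/
theorem fine_minus_five (hq : Fintype.card K = 2) (a b : K)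
    (hab : ∀ z₁ z₂ : K, z₁ ^ 2 + a * z₁ * z₂ + b * z₂ ^ 2 = 0 → z₁ = 0 ∧ z₂ = 0)
    (hN : Cop.{0, w} 2 (Cfsg.POmega K (Cfsg.quadFormMinus (5 - 1) K a b))) :
    Cfsg.Agent.H223.Bnd.Bn.{0, w} (Cfsg.POmega K (Cfsg.quadFormMinus (5 - 1) K a b)) := by
  have : Finite (Cfsg.isometryGroup K (Cfsg.quadFormMinus (5 - 1) K a b)) := inferInstance
  have : Finite (Cfsg.POmega K (Cfsg.quadFormMinus (5 - 1) K a b)) := inferInstance
  obtain ⟨h1, h2, h3⟩ := minus_basic Nat.prime_two le_rfl (by rw [hq, pow_one]) (by norm_num : 4 ≤ 5) a b hab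
  have haut := minus_aut_two hq (by norm_num : 4 ≤ 5) a b hab
  have hcard := Cfsg.Agent.S0294.result (F := K) hq 5 (by norm_num) a b hab
  refine Cfsg.Agent.H223.Bnd.Bn.of_lt5 h1 ?_ fun p m hp h11 hpT hm hR => ?_
  · norm_num only [Finset.prod_range_succ, _root_.one_mul] at hcard
    norm_num
    omega
  · have hm14 : 14 ≤ m := rep_le hp Nat.prime_two h3 hpT hR hN fun F _ hF =>
      bd_pomega_minus_two (by exact_mod_cast hF) hq (by norm_num) a b hab
    have h5 : p ^ 14 ≤ p ^ m := Nat.pow_le_pow_right hp.pos hm14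
    rcases (show p = 11 ∨ 12 ≤ p by omega) with rfl | h12
    · calc _ ≤ (11 - 9) * 2 ^ (5 * (2 * 5 - 1) + 1) + 1 := Nat.add_le_add_right (Nat.mul_le_mul_left _ haut) 1
        _ < 11 ^ 14 := by norm_num
        _ ≤ _ := h5
    · have h6 : 12 ^ 13 ≤ p ^ 13 := Nat.pow_le_pow_left h12 13
      have h7 : 2 ^ (5 * (2 * 5 - 1) + 1) ≤ p ^ 13 := le_trans (by norm_num) h6
      calc _ ≤ (p - 9) * p ^ 13 + 1 := Nat.add_le_add_right (Nat.mul_le_mul_left _ (haut.trans h7)) 1
        _ < p * p ^ 13 := by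
          have h8 : 0 < p ^ 13 := Nat.pow_pos hp.pos
          obtain ⟨c, rfl⟩ : ∃ c, p = c + 12 := ⟨p - 12, by omega⟩
          have h9 : c + 12 - 9 = c + 3 := by omega
          rw [h9]
          linarith only [h6]
        _ = p ^ 14 := by ring
        _ ≤ _ := h5

end

end Cfsg.Agent.H223.Bnd.H315.FineOrth
end

private theorem dce_81f167ed679d : _root_.True := by
  try have : _root_.True := by simp only [_root_.Cfsg.POmega.congr_simp]
  try have : _root_.True := by simp only [_root_.Cfsg.Agent.H223.Bnd.Low.X.eq_1]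
  exact _root_.True.intro
end
end
end
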